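import Groth.Agent.Lib.Dlz27.FlatExtMain

/-!
# Base change of dualizing complexes along flat maps with trivial closed fibres: applications
-/

set_option autoImplicit false
universe u

open CategoryTheory

attribute [local instance] HasDerivedCategory.standard

noncomputable section

namespace Groth.Agent.Dlz27

variable {A B : Type u} [CommRing A] [CommRing B] [IsNoetherianRing A] [IsNoetherianRing B] (φ : A →+* B)

/-- Base change along a flat map which is an isomorphism modulo an ideal in the Jacobson radical. -/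
theorem isDualizing_LBaseChange_mod_ideal (hφ : φ.Flat) [DRing.HasLBaseChange φ] {ω : Dual.D A}
    (hω : Dual.IsDualizing A ω) (I : Ideal A)
    (hs : Function.Surjective ((Ideal.Quotient.mk (I.map φ)).comp φ))
    (hk : RingHom.ker ((Ideal.Quotient.mk (I.map φ)).comp φ) = I) (hJ : I.map φ ≤ (⊥ : Ideal B).jacobson) :
    Dual.IsDualizing B ((DRing.LBaseChange φ).obj ω) := by
  refine isDualizing_LBaseChange_of_maximal φ hφ hω fun n hn => ?_
  have hIn : I.map φ ≤ n := hJ.trans (sInf_le ⟨bot_le, hn⟩)
  have hlift : ∀ b : B, ∃ a : A, b - φ a ∈ I.map φ := fun b => by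
    obtain ⟨a, ha⟩ := hs (Ideal.Quotient.mk _ b)
    exact ⟨a, (Ideal.Quotient.mk_eq_mk_iff_sub_mem _ _).1 ha.symm⟩
  have hsur : Function.Surjective ((Ideal.Quotient.mk n).comp φ) := fun q => by
    obtain ⟨b, rfl⟩ := Ideal.Quotient.mk_surjective q
    obtain ⟨a, ha⟩ := hlift b
    exact ⟨a, ((Ideal.Quotient.mk_eq_mk_iff_sub_mem _ _).2 (hIn ha)).symm⟩
  haveI hm : (n.comap φ).IsMaximal := by
    rw [show n.comap φ = RingHom.ker ((Ideal.Quotient.mk n).comp φ) by
      ext a; simp [Ideal.Quotient.eq_zero_iff_mem]]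
    letI := Ideal.Quotient.field n
    exact RingHom.ker_isMaximal_of_surjective _ hsur
  refine ⟨hm, ?_⟩
  have hmap : (n.comap φ).map φ = n := by
    refine le_antisymm Ideal.map_comap_le fun b hb => ?_
    obtain ⟨a, ha⟩ := hlift b
    have hIm : I ≤ n.comap φ := Ideal.map_le_iff_le_comap.1 hIn
    rw [show b = (b - φ a) + φ a by ring]
    refine Ideal.add_mem _ (Ideal.map_mono hIm ha) (Ideal.mem_map_of_mem φ ?_)
    show φ a ∈ n
    rw [show φ a = b - (b - φ a) by ring]
    exact n.sub_mem hb (hIn ha)
  rw [hmap]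
  exact Localization.AtPrime.map_eq_maximalIdeal

/-- Base change along a flat local map with trivial closed fibre. -/
theorem isDualizing_LBaseChange_local [IsLocalRing A] [IsLocalRing B] (hφ : φ.Flat) [DRing.HasLBaseChange φ] {ω : Dual.D A}
    (hω : Dual.IsDualizing A ω) (hm : (IsLocalRing.maximalIdeal A).map φ = IsLocalRing.maximalIdeal B) :
    Dual.IsDualizing B ((DRing.LBaseChange φ).obj ω) := by
  refine isDualizing_LBaseChange_of_maximal φ hφ hω fun n hn => ?_
  obtain rfl := IsLocalRing.eq_maximalIdeal hn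
  have h1 : (IsLocalRing.maximalIdeal B).comap φ = IsLocalRing.maximalIdeal A := by
    refine (Ideal.IsMaximal.eq_of_le inferInstance ?_ ?_).symm
    · exact Ideal.comap_ne_top _ (IsLocalRing.maximalIdeal.isMaximal B).ne_top
    · rw [← hm]; exact Ideal.le_comap_map
  rw [h1, hm]
  exact ⟨inferInstance, Localization.AtPrime.map_eq_maximalIdeal⟩

end Groth.Agent.Dlz27
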