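import Groth.Agent.Lib.Dlz27.Converse2
import Groth.Agent.Lib.Goren.LocalDuality27
import Groth.Agent.Lib.LocCoh.AddElem27

/-!
# Gorenstein local rings are their own dualizing complexes
-/

set_option autoImplicit false
universe u

open CategoryTheory CategoryTheory.Limits

attribute [local instance] HasDerivedCategory.standard

noncomputable section

namespace Groth.Agent.Dlz27

variable (A : Type u) [CommRing A]

/-- Morphisms between shifted modules as `Ext`. -/
def homExt (N N' : ModuleCat.{u} A) (n : ℕ) :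
    Abelian.Ext N N' n ≃ₗ[A] (Dual.inD A N ⟶ (Dual.inD A N')⟦(n : ℤ)⟧) :=
  Abelian.Ext.homLinearEquiv

theorem finite_HD_inD (N : Type u) [AddCommGroup N] [Module A N] [Module.Finite A N] (i : ℤ) :
    Module.Finite A (Dual.HD A (Dual.inD A N) i) := by
  by_cases hi : i = 0
  · subst hi
    exact Module.Finite.equiv (M := N)
      ((DerivedCategory.singleFunctorCompHomologyFunctorIso (ModuleCat.{u} A) 0).app (ModuleCat.of A N)).toLinearEquiv.symm
  · rcases lt_or_gt_of_ne hi with h | h
    · haveI := (DMod.isGE_iff (Dual.inD A N) 0).1 inferInstance i h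
      infer_instance
    · haveI := (DMod.isLE_iff (Dual.inD A N) 0).1 inferInstance i h
      infer_instance

theorem ext_residue_gorenstein [IsLocalRing A] [IsNoetherianRing A] [LocCoh.IsGorensteinLocalRing A] :
    ∃ n : ℕ, (∀ i : ℕ, i ≠ n →
        Subsingleton (Abelian.Ext (ModuleCat.of A (IsLocalRing.ResidueField A)) (ModuleCat.of A A) i)) ∧
      Nonempty (Abelian.Ext (ModuleCat.of A (IsLocalRing.ResidueField A)) (ModuleCat.of A A) n ≃ₗ[A]
        IsLocalRing.ResidueField A) := by
  obtain ⟨n, hd⟩ := DepthLib.exists_depth_eq_natCast (R := A) (M := A)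
  obtain ⟨hdim, hid⟩ := GorenLib.gorenstein_invariants n A hd
  obtain ⟨-, -, hnt⟩ := GorenLib.gorenstein_of_dim hdim
  have h1 := (DepthLib.idealDepth_eq_iff n).1 hd
  refine ⟨n, fun i hi => ?_, ?_⟩
  · rcases lt_or_gt_of_ne hi with h | h
    · exact h1.1 i h
    · exact HasInjectiveDimensionLT.subsingleton (hX := hid) _ (n + 1) i (by omega) _
  let k := IsLocalRing.ResidueField A
  let V := Abelian.Ext (ModuleCat.of A k) (ModuleCat.of A A) n
  let E := LocCoh.H (IsLocalRing.maximalIdeal A) n A
  obtain ⟨f, hf⟩ := GorenLib.exists_isInjectiveHull_H (R := A) hdim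
  obtain ⟨D⟩ := GorenLib.exists_dualityData hdim hf
  obtain ⟨e⟩ := D.duality n k le_rfl
  rw [Nat.sub_self] at e
  haveI : IsSimpleModule A k := isSimpleModule_iff_quot_maximal.2 ⟨_, IsLocalRing.maximalIdeal.isMaximal A, ⟨LinearEquiv.refl A _⟩⟩
  have hk1 : Module.length A k = 1 := Module.length_eq_one A k
  let z : (V →ₗ[A] E) →ₗ[A] k := LocCohLib.zeroMap _ k ∘ₗ e.toLinearMap
  have hz : Function.Injective z := (LocCohLib.zeroMap_injective _ _).comp e.injective
  have hlen : Module.length A (V →ₗ[A] E) ≤ 1 := hk1 ▸ Module.length_le_of_injective z hz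
  have hfl : IsFiniteLength A (V →ₗ[A] E) := Module.length_ne_top_iff.1 (ne_top_of_le_ne_top ENat.one_ne_top hlen)
  have hlen2 : Module.length A ((V →ₗ[A] E) →ₗ[A] E) ≤ 1 := (InjHullLib.length_dual hf hfl).le.trans hlen
  have hV : Module.length A V ≤ 1 :=
    (Module.length_le_of_injective _ (InjHullLib.applyₗ_injective (M := V) hf)).trans hlen2
  haveI : IsSimpleModule A V := Module.length_eq_one_iff.1
    (le_antisymm hV (Order.one_le_iff_pos.2 (Module.length_pos (M := V))))
  obtain ⟨I, hI, ⟨eV⟩⟩ := isSimpleModule_iff_quot_maximal.1 ‹IsSimpleModule A V›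
  obtain rfl := IsLocalRing.eq_maximalIdeal hI
  exact ⟨eV⟩

/-- A Gorenstein local ring is a dualizing complex over itself, and conversely. -/
theorem gorenstein_iff_isDualizing [IsLocalRing A] [IsNoetherianRing A] :
    LocCoh.IsGorensteinLocalRing A ↔ Dual.IsDualizing A (Dual.inD A A) := by
  constructor
  · intro _
    obtain ⟨n, hvan, ⟨e⟩⟩ := ext_residue_gorenstein A
    refine isDualizing_of_residue (Dual.inD A A) (fun i => finite_HD_inD A A i)
      ⟨0, fun i hi => (DMod.isGE_iff (Dual.inD A A) 0).1 inferInstance i hi⟩ (n : ℤ) (fun i hi => ?_)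
      ⟨(homExt A (ModuleCat.of A (IsLocalRing.ResidueField A)) (ModuleCat.of A A) n).symm ≪≫ₗ e⟩
    rcases lt_or_ge i 0 with h | h
    · have h1 : ((Dual.inD A A)⟦i⟧).IsGE (-i) := DerivedCategory.TStructure.t.isGE_shift _ 0 i (-i) (by omega)
      exact subsingleton_of_forall_eq 0 fun φ =>
        DerivedCategory.TStructure.t.zero_of_isLE_of_isGE φ 0 (-i) (by omega) inferInstance inferInstance
    · obtain ⟨j, rfl⟩ := Int.eq_ofNat_of_zero_le h
      haveI := hvan j (by omega)
      exact (homExt A (ModuleCat.of A (IsLocalRing.ResidueField A)) (ModuleCat.of A A) j).symm.toEquiv.subsingleton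
  · intro h
    refine { exists_hasInjectiveDimensionLT := GorenLib.exists_hasInjectiveDimensionLT_iff.2 ?_ }
    obtain ⟨a, b, hab⟩ := h.finite_injective_dimension
    refine ⟨(b + 1).toNat, fun i hi => ?_⟩
    haveI := hab (IsLocalRing.ResidueField A) (i : ℤ) (Or.inr (by omega))
    exact (homExt A (ModuleCat.of A (IsLocalRing.ResidueField A)) (ModuleCat.of A A) i).toEquiv.subsingleton

end Groth.Agent.Dlz27
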