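import Groth.Agent.Lib.Dlz27.Glue
import Groth.Agent.Lib.Dlz27.GorensteinDual
import Groth.Prelude.Def_DRing2

/-!
# Local criteria for dualizing complexes
-/

set_option autoImplicit false
universe u

open CategoryTheory CategoryTheory.Limits

attribute [local instance] HasDerivedCategory.standard

noncomputable section

namespace Groth.Agent.Dlz27

variable {A : Type u} [CommRing A] [IsNoetherianRing A]

theorem local_of_LBaseChange (S : Submonoid A) {R : Dual.D A} (W : DRing.Cx A) (e : DerivedCategory.Q.obj W ≅ R)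
    [DRing.HasLBaseChange (algebraMap A (Localization S))]
    (h : Dual.IsDualizing (Localization S) ((DRing.LBaseChange (algebraMap A (Localization S))).obj R)) :
    Dual.IsDualizing (Localization S) (DerivedCategory.Q.obj (locCx S W)) := by
  obtain ⟨e'⟩ := exists_LBaseChange_iso S W
  exact isDualizing_of_iso ((DRing.LBaseChange (algebraMap A (Localization S))).mapIso e.symm ≪≫ e') h

theorem finite_homology_model {R : Dual.D A} (hfin : ∀ i : ℤ, Module.Finite A (Dual.HD A R i)) (W : DRing.Cx A)
    (e : DerivedCategory.Q.obj W ≅ R) (i : ℤ) : Module.Finite A (W.homology i) := by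
  haveI := hfin i
  exact Module.Finite.equiv ((DerivedCategory.homologyFunctorFactors (ModuleCat.{u} A) i).symm.app W ≪≫
    (DerivedCategory.homologyFunctor (ModuleCat.{u} A) i).mapIso e).toLinearEquiv.symm

/-- Locally dualizing at all primes, finite dimension. -/
theorem isDualizing_of_primes (R : Dual.D A) (hdim : ringKrullDim A < ⊤)
    (hfin : ∀ i : ℤ, Module.Finite A (Dual.HD A R i)) (a₀ : ℤ) (W₀ : DRing.Cx A) [W₀.IsStrictlyGE a₀]
    (hW₀ : ∀ i, Injective (W₀.X i)) (e₀ : DerivedCategory.Q.obj W₀ ≅ R)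
    (h : ∀ p : PrimeSpectrum A,
      Dual.IsDualizing (Localization p.asIdeal.primeCompl) (DerivedCategory.Q.obj (locCx p.asIdeal.primeCompl W₀))) :
    Dual.IsDualizing A R := by
  haveI : W₀.IsKInjective := CochainComplex.isKInjective_of_injective _ a₀
  obtain ⟨B, hB⟩ := exists_bound_of_coDeg W₀ hW₀ a₀ (finite_homology_model hfin W₀ e₀) (coDeg_of_local W₀ hW₀ a₀ h) hdim
  have hid : ∃ a b : ℤ, ∀ (N : Type u) [AddCommGroup N] [Module A N] (i : ℤ),
      (i < a ∨ b < i) → Subsingleton (Dual.inD A N ⟶ R⟦i⟧) := by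
    refine ⟨a₀, B, fun N _ _ i hi => (subsingleton_hom_iff_van e₀ N i).2 ?_⟩
    rcases hi with hi | hi
    · intro f _
      haveI := ModuleCat.subsingleton_of_isZero (W₀.isZero_of_isStrictlyGE a₀ i hi)
      exact ⟨0, Subsingleton.elim _ _⟩
    · exact hB N i hi
  obtain ⟨W, lo, hi, h1, h2, h3, h4, ⟨e⟩⟩ := exists_model_of_injdim R hid
  refine isDualizing_of_cover hfin ⟨W, lo, hi, h1, h2, h3, h4, e⟩ covers_primes fun p => ?_
  obtain ⟨e'⟩ := exists_locCx_congr p.asIdeal.primeCompl (e₀ ≪≫ e.symm)
  exact isDualizing_of_iso e' (h p)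

theorem exists_model_of_hasFiniteInjDim {R : Dual.D A} (h : DRing.HasFiniteInjDim A R) : Nonempty (Model R) := by
  obtain ⟨a, b, E, hE, hinj, ⟨e⟩⟩ := h
  obtain ⟨hE1, hE2⟩ := (DMod.vanishesOutside_iff E a b).1 hE
  haveI : ∀ i, Injective (E.X i) := fun i => (Module.injective_iff_injective_object A _).1 (hinj i)
  haveI := hE1
  exact ⟨⟨E, a, b, hE1, hE2, fun i => inferInstance, CochainComplex.isKInjective_of_injective _ a, e⟩⟩

theorem isDualizing_of_powers (n : ℕ) (f : Fin n → A) (hf : Ideal.span (Set.range f) = ⊤) (ω : Dual.D A)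
    (h : ∀ i : Fin n, ∃ _ : DRing.HasLBaseChange (algebraMap A (Localization.Away (f i))),
      Dual.IsDualizing (Localization.Away (f i)) ((DRing.LBaseChange (algebraMap A (Localization.Away (f i)))).obj ω)) :
    Dual.IsDualizing A ω := by
  classical
  have hcov := covers_powers f hf
  let K := DerivedCategory.Q.objPreimage ω
  let eK : DerivedCategory.Q.obj K ≅ ω := DerivedCategory.Q.objObjPreimageIso ω
  have hloc : ∀ (W : DRing.Cx A), (DerivedCategory.Q.obj W ≅ ω) → ∀ j,
      Dual.IsDualizing (Localization (Submonoid.powers (f j))) (DerivedCategory.Q.obj (locCx (Submonoid.powers (f j)) W)) :=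
    fun W e j => by
      obtain ⟨hL, hd⟩ := h j
      exact @local_of_LBaseChange _ _ _ (Submonoid.powers (f j)) ω W e hL hd
  haveI : ∀ j, IsNoetherianRing (Localization (Submonoid.powers (f j))) := fun j =>
    IsLocalization.isNoetherianRing (Submonoid.powers (f j)) _ inferInstance
  let lH : ∀ j i, (K.homology i).localizedModule (Submonoid.powers (f j)) ≃ₗ[Localization (Submonoid.powers (f j))]
      Dual.HD (Localization (Submonoid.powers (f j))) (DerivedCategory.Q.obj (locCx (Submonoid.powers (f j)) K)) i :=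
    fun j i => ((K.sc i).mapHomologyIso (locF (Submonoid.powers (f j)))).symm.toLinearEquiv ≪≫ₗ
      ((DerivedCategory.homologyFunctorFactors _ i).app (locCx (Submonoid.powers (f j)) K)).toLinearEquiv.symm
  let lK : ∀ i, K.homology i ≃ₗ[A] Dual.HD A ω i := fun i =>
    ((DerivedCategory.homologyFunctorFactors (ModuleCat.{u} A) i).symm.app K ≪≫
      (DerivedCategory.homologyFunctor (ModuleCat.{u} A) i).mapIso eK).toLinearEquiv
  have hfin : ∀ i : ℤ, Module.Finite A (Dual.HD A ω i) := fun i => by
    haveI : Module.Finite A (K.homology i) := by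
      let t : Finset A := Finset.univ.image f
      have ht : Ideal.span (t : Set A) = ⊤ := by simpa [t] using hf
      refine Module.Finite.of_localizationSpan_finite t ht fun g => ?_
      obtain ⟨g, hg⟩ := g
      obtain ⟨j, -, rfl⟩ := Finset.mem_image.1 hg
      haveI := (hloc K eK j).finite_cohomology i
      haveI := Module.Finite.equiv (lH j i).symm
      exact Module.Finite.equiv ((IsLocalizedModule.linearEquiv (Submonoid.powers (f j))
        ((K.homology i).localizedModuleMkLinearMap (Submonoid.powers (f j)))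
        (LocalizedModule.mkLinearMap (Submonoid.powers (f j)) (K.homology i))).extendScalarsOfIsLocalization
          (Submonoid.powers (f j)) (Localization (Submonoid.powers (f j))))
    exact Module.Finite.equiv (lK i)
  choose a b hab using fun j => (hloc K eK j).finite_injective_dimension
  obtain ⟨lo, hlo⟩ := (Set.finite_range a).bddBelow
  have hbdd : ∀ i : ℤ, i < lo → Subsingleton (Dual.HD A ω i) := fun i hi => by
    haveI : Subsingleton (K.homology i) := by
      refine subsingleton_of_forall_eq 0 fun x => ?_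
      let I : Ideal A := LinearMap.ker (LinearMap.toSpanSingleton A _ x)
      have hI : I = ⊤ := hcov I fun j => by
        obtain ⟨W, lo', hi', h1, h2, h3, h4, ⟨e⟩⟩ := exists_model_of_injdim _ (hloc K eK j).finite_injective_dimension
        haveI := subsingleton_HD e i ((subsingleton_hom_iff_van e (Localization (Submonoid.powers (f j))) i).1
          (hab j _ i (Or.inl (lt_of_lt_of_le hi (hlo ⟨j, rfl⟩)))))
        haveI : Subsingleton ((K.homology i).localizedModule (Submonoid.powers (f j))) := (lH j i).toEquiv.subsingleton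
        obtain ⟨s, hs⟩ := (IsLocalizedModule.eq_zero_iff (Submonoid.powers (f j))
          ((K.homology i).localizedModuleMkLinearMap (Submonoid.powers (f j))) (m := x)).1 (Subsingleton.elim _ _)
        exact ⟨s, s.2, hs⟩
      have h1 : (1 : A) • x = 0 := LinearMap.mem_ker.1 (hI ▸ Submodule.mem_top : (1 : A) ∈ I)
      rwa [one_smul] at h1
    exact (lK i).symm.toEquiv.subsingleton
  obtain ⟨W₀, hW₀, hW₀i, hW₀K, ⟨e₀⟩⟩ := HTFin27.exists_res_bounded ω lo hbdd
  obtain ⟨hi, hhi⟩ := (Set.finite_range b).bddAbove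
  have hid : ∃ a b : ℤ, ∀ (N : Type u) [AddCommGroup N] [Module A N] (i : ℤ),
      (i < a ∨ b < i) → Subsingleton (Dual.inD A N ⟶ ω⟦i⟧) := by
    refine ⟨lo, hi, fun N _ _ i hi' => (subsingleton_hom_iff_van e₀ N i).2 ?_⟩
    rcases hi' with hi' | hi'
    · intro g _
      haveI := ModuleCat.subsingleton_of_isZero (W₀.isZero_of_isStrictlyGE lo i hi')
      exact ⟨0, Subsingleton.elim _ _⟩
    · refine van_all_of_cover W₀ hW₀i hcov hi (fun j N' _ _ l hl => ?_) N i hi'
      haveI : ∀ q, Injective ((locCx (Submonoid.powers (f j)) W₀).X q) := fun q => injective_locF _ (hW₀i q)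
      haveI : (locCx (Submonoid.powers (f j)) W₀).IsKInjective := CochainComplex.isKInjective_of_injective _ lo
      obtain ⟨e'⟩ := exists_locCx_congr (Submonoid.powers (f j)) (e₀ ≪≫ eK.symm)
      exact (subsingleton_hom_iff_van e' N' l).1 (hab j N' l (Or.inr (lt_of_le_of_lt (hhi ⟨j, rfl⟩) hl)))
  obtain ⟨W, lo', hi', h1, h2, h3, h4, ⟨e⟩⟩ := exists_model_of_injdim ω hid
  exact isDualizing_of_cover hfin ⟨W, lo', hi', h1, h2, h3, h4, e⟩ hcov fun j => hloc W e j

theorem isDualizing_self_of_regular (hreg : ∀ p : PrimeSpectrum A, IsRegularLocalRing (Localization.AtPrime p.asIdeal))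
    (hgor : ∀ p : PrimeSpectrum A, IsRegularLocalRing (Localization.AtPrime p.asIdeal) →
      LocCoh.IsGorensteinLocalRing (Localization.AtPrime p.asIdeal))
    (hdim : ringKrullDim A < ⊤) : Dual.IsDualizing A (Dual.inD A A) := by
  obtain ⟨W₀, hW₀, hW₀i, hW₀K, ⟨e₀⟩⟩ := HTFin27.exists_res_bounded (Dual.inD A A) 0
    fun i hi => (DMod.isGE_iff (Dual.inD A A) 0).1 inferInstance i hi
  refine isDualizing_of_primes (Dual.inD A A) hdim (fun i => finite_HD_inD A A i) 0 W₀ hW₀i e₀ fun p => ?_
  obtain ⟨e⟩ := exists_locCx_iso p.asIdeal.primeCompl W₀ A e₀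
  haveI : IsNoetherianRing (Localization p.asIdeal.primeCompl) :=
    IsLocalization.isNoetherianRing p.asIdeal.primeCompl _ inferInstance
  have hd := (gorenstein_iff_isDualizing (Localization.AtPrime p.asIdeal)).1 (hgor p (hreg p))
  haveI := isLocalizedModule_mkL p.asIdeal.primeCompl (ModuleCat.of A A)
  let l : Localization p.asIdeal.primeCompl ≃ₗ[Localization p.asIdeal.primeCompl]
      (ModuleCat.of A A).localizedModule p.asIdeal.primeCompl :=
    (IsLocalizedModule.linearEquiv p.asIdeal.primeCompl (Algebra.linearMap A (Localization p.asIdeal.primeCompl))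
      (mkL p.asIdeal.primeCompl (ModuleCat.of A A))).extendScalarsOfIsLocalization
        p.asIdeal.primeCompl (Localization p.asIdeal.primeCompl)
  exact isDualizing_of_iso ((DerivedCategory.singleFunctor _ 0).mapIso l.toModuleIso ≪≫ e.symm) hd

end Groth.Agent.Dlz27
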