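import Groth.Agent.Lib.Dlz27.Point
import Groth.Agent.Lib.HTFin27.Main
import Mathlib.RingTheory.Nakayama
import Mathlib.RingTheory.Ideal.AssociatedPrime.Finiteness
import Mathlib.Algebra.Module.LocalizedModule.Exact
import Mathlib.RingTheory.Finiteness.Ideal
import Mathlib.RingTheory.Localization.Finiteness

/-!
# Vanishing of cohomology of `Hom(N, W)` up to a multiplicative set
-/

set_option autoImplicit false
universe u

open CategoryTheory CategoryTheory.Limits

attribute [local instance] HasDerivedCategory.standard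

noncomputable section

namespace Groth.Agent.Dlz27

variable {A : Type u} [CommRing A] (W : DRing.Cx A) (S : Submonoid A)

/-- Every cocycle `N → W^i` becomes a coboundary after multiplying by an element of `S`. -/
def VanS (N : Type u) [AddCommGroup N] [Module A N] (i : ℤ) : Prop :=
  ∀ f : N →ₗ[A] W.X i, (W.d i (i + 1)).hom ∘ₗ f = 0 →
    ∃ (s : S) (g : N →ₗ[A] W.X (i - 1)), (W.d (i - 1) i).hom ∘ₗ g = (s : A) • f

variable {W S} {N₁ N₂ N₃ : Type u} [AddCommGroup N₁] [Module A N₁] [AddCommGroup N₂] [Module A N₂]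
  [AddCommGroup N₃] [Module A N₃]

theorem VanS.prev {N : Type u} [AddCommGroup N] [Module A N] {i : ℤ} (h : VanS W S N i) {j : ℤ} (hj : j + 1 = i)
    (f : N →ₗ[A] W.X i) (hf : (W.d i (i + 1)).hom ∘ₗ f = 0) :
    ∃ (s : S) (g : N →ₗ[A] W.X j), (W.d j i).hom ∘ₗ g = (s : A) • f := by
  obtain rfl : j = i - 1 := by omega
  exact h f hf

theorem Van.vanS {N : Type u} [AddCommGroup N] [Module A N] {i : ℤ} (h : Van W N i) (T : Submonoid A) :
    VanS W T N i := fun f hf => by
  obtain ⟨g, hg⟩ := h f hf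
  exact ⟨1, g, by rw [hg, Submonoid.coe_one, one_smul]⟩

theorem VanS.mono {N : Type u} [AddCommGroup N] [Module A N] {i : ℤ} {T : Submonoid A} (h : VanS W S N i)
    (hle : S ≤ T) : VanS W T N i := fun f hf => by
  obtain ⟨s, g, hg⟩ := h f hf
  exact ⟨⟨s, hle s.2⟩, g, hg⟩

theorem van_iff_vanS_bot {N : Type u} [AddCommGroup N] [Module A N] {i : ℤ} :
    Van W N i ↔ VanS W ⊥ N i := by
  refine ⟨fun h => h.vanS ⊥, fun h f hf => ?_⟩
  obtain ⟨s, g, hg⟩ := h f hf
  rw [Submonoid.mem_bot.1 s.2, one_smul] at hg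
  exact ⟨g, hg⟩

theorem VanS.equiv {N N' : Type u} [AddCommGroup N] [Module A N] [AddCommGroup N'] [Module A N'] {i : ℤ}
    (h : VanS W S N i) (e : N ≃ₗ[A] N') : VanS W S N' i := fun f hf => by
  obtain ⟨s, g, hg⟩ := h (f ∘ₗ e.toLinearMap) (by rw [← LinearMap.comp_assoc, hf, LinearMap.zero_comp])
  refine ⟨s, g ∘ₗ e.symm.toLinearMap, LinearMap.ext fun x => ?_⟩
  simpa using LinearMap.congr_fun hg (e.symm x)

theorem vanS_of_subsingleton (N : Type u) [AddCommGroup N] [Module A N] [Subsingleton N] (i : ℤ) :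
    VanS W S N i := fun f _ => ⟨1, 0, LinearMap.ext fun x => by
      rw [Subsingleton.elim x 0, map_zero, map_zero]⟩

theorem vanS_of_killed (N : Type u) [AddCommGroup N] [Module A N] (s : S) (hs : ∀ x : N, (s : A) • x = 0) (i : ℤ) :
    VanS W S N i := fun f _ => ⟨s, 0, LinearMap.ext fun x => by
      rw [LinearMap.comp_zero, LinearMap.zero_apply, LinearMap.smul_apply, ← map_smul, hs, map_zero]⟩

theorem dd_comp {N : Type u} [AddCommGroup N] [Module A N] (i j k : ℤ) (g : N →ₗ[A] W.X i) :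
    (W.d j k).hom ∘ₗ ((W.d i j).hom ∘ₗ g) = 0 := LinearMap.ext fun x => d_d W i j k (g x)

theorem exists_extend {J : ModuleCat.{u} A} (hJ : Injective J) {i : N₁ →ₗ[A] N₂} (hi : Function.Injective i)
    (f : N₁ →ₗ[A] J) : ∃ F : N₂ →ₗ[A] J, F ∘ₗ i = f := by
  obtain ⟨F, hF⟩ := ((Module.injective_iff_injective_object A _).2 hJ).out i hi f
  exact ⟨F, LinearMap.ext hF⟩

theorem exists_desc {J : Type u} [AddCommGroup J] [Module A J] {i : N₁ →ₗ[A] N₂} {p : N₂ →ₗ[A] N₃}
    (hp : Function.Surjective p) (hex : Function.Exact i p) (F : N₂ →ₗ[A] J) (hF : F ∘ₗ i = 0) :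
    ∃ G : N₃ →ₗ[A] J, G ∘ₗ p = F := by
  have hk : LinearMap.ker p ≤ LinearMap.ker F := fun x hx => by
    obtain ⟨y, rfl⟩ := (hex x).1 hx
    exact LinearMap.congr_fun hF y
  refine ⟨(LinearMap.ker p).liftQ F hk ∘ₗ (p.quotKerEquivOfSurjective hp).symm.toLinearMap, LinearMap.ext fun x => ?_⟩
  show (LinearMap.ker p).liftQ F hk ((p.quotKerEquivOfSurjective hp).symm (p x)) = F x
  rw [show (p.quotKerEquivOfSurjective hp).symm (p x) = Submodule.Quotient.mk x from
    (LinearEquiv.symm_apply_eq _).2 rfl]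
  rfl

theorem comp_right_cancel {J : Type u} [AddCommGroup J] [Module A J] {p : N₂ →ₗ[A] N₃}
    (hp : Function.Surjective p) {f g : N₃ →ₗ[A] J} (h : f ∘ₗ p = g ∘ₗ p) : f = g :=
  LinearMap.ext fun x => by
    obtain ⟨y, rfl⟩ := hp x
    exact LinearMap.congr_fun h y

section Exact

variable (hW : ∀ i, Injective (W.X i)) {i : N₁ →ₗ[A] N₂} {p : N₂ →ₗ[A] N₃}
  (hi : Function.Injective i) (hp : Function.Surjective p) (hex : Function.Exact i p)

include hW hi hp hex

theorem VanS.mid {n : ℤ} (h₁ : VanS W S N₁ n) (h₃ : VanS W S N₃ n) : VanS W S N₂ n := fun f hf => by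
  obtain ⟨s, g, hg⟩ := h₁ (f ∘ₗ i) (by rw [← LinearMap.comp_assoc, hf, LinearMap.zero_comp])
  obtain ⟨G, hG⟩ := exists_extend (hW (n - 1)) hi g
  obtain ⟨f', hf'⟩ := exists_desc hp hex ((s : A) • f - (W.d (n - 1) n).hom ∘ₗ G) (by
    rw [LinearMap.sub_comp, LinearMap.smul_comp, LinearMap.comp_assoc, hG, hg, sub_self])
  obtain ⟨t, g', hg'⟩ := h₃ f' (comp_right_cancel hp (by
    rw [LinearMap.comp_assoc, hf', LinearMap.comp_sub, LinearMap.comp_smul, hf, smul_zero, dd_comp, sub_zero,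
      LinearMap.zero_comp]))
  refine ⟨t * s, g' ∘ₗ p + (t : A) • G, ?_⟩
  rw [LinearMap.comp_add, ← LinearMap.comp_assoc, hg', LinearMap.smul_comp, hf', LinearMap.comp_smul,
    Submonoid.coe_mul, mul_smul, smul_sub, sub_add_cancel]

theorem VanS.right {n : ℤ} (h₂ : VanS W S N₂ n) (h₁ : VanS W S N₁ (n - 1)) : VanS W S N₃ n := fun f hf => by
  obtain ⟨s, g, hg⟩ := h₂ (f ∘ₗ p) (by rw [← LinearMap.comp_assoc, hf, LinearMap.zero_comp])
  obtain ⟨t, h, hh⟩ := h₁.prev (j := n - 2) (by omega) (g ∘ₗ i) (by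
    rw [show n - 1 + 1 = n by omega, ← LinearMap.comp_assoc, hg, LinearMap.smul_comp, LinearMap.comp_assoc,
      hex.linearMap_comp_eq_zero, LinearMap.comp_zero, smul_zero])
  obtain ⟨H, hH⟩ := exists_extend (hW (n - 2)) hi h
  obtain ⟨g', hg'⟩ := exists_desc hp hex ((t : A) • g - (W.d (n - 2) (n - 1)).hom ∘ₗ H) (by
    rw [LinearMap.sub_comp, LinearMap.smul_comp, LinearMap.comp_assoc, hH, hh, sub_self])
  refine ⟨t * s, g', comp_right_cancel hp ?_⟩
  rw [LinearMap.comp_assoc, hg', LinearMap.comp_sub, LinearMap.comp_smul, hg, dd_comp, sub_zero,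
    LinearMap.smul_comp, Submonoid.coe_mul, mul_smul]

theorem VanS.left {n : ℤ} (h₂ : VanS W S N₂ n) (h₃ : VanS W S N₃ (n + 1)) : VanS W S N₁ n := fun f hf => by
  obtain ⟨F, hF⟩ := exists_extend (hW n) hi f
  obtain ⟨e, he⟩ := exists_desc hp hex ((W.d n (n + 1)).hom ∘ₗ F) (by rw [LinearMap.comp_assoc, hF, hf])
  obtain ⟨s, k, hk⟩ := h₃.prev rfl e (comp_right_cancel hp (by
    rw [LinearMap.comp_assoc, he, dd_comp, LinearMap.zero_comp]))
  obtain ⟨t, g, hg⟩ := h₂ ((s : A) • F - k ∘ₗ p) (by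
    rw [LinearMap.comp_sub, LinearMap.comp_smul, ← LinearMap.comp_assoc, hk, LinearMap.smul_comp, he, sub_self])
  refine ⟨t * s, g ∘ₗ i, ?_⟩
  rw [← LinearMap.comp_assoc, hg, LinearMap.smul_comp, LinearMap.sub_comp, LinearMap.smul_comp, hF,
    LinearMap.comp_assoc, hex.linearMap_comp_eq_zero, LinearMap.comp_zero, sub_zero, Submonoid.coe_mul, mul_smul]

end Exact

/-- The cohomology of `Hom(N, W)` is finitely generated. -/
def FinV (W : DRing.Cx A) (N : Type u) [AddCommGroup N] [Module A N] (i : ℤ) : Prop :=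
  ∃ (r : ℕ) (fl : Fin r → (N →ₗ[A] W.X i)), (∀ l, (W.d i (i + 1)).hom ∘ₗ fl l = 0) ∧
    ∀ f : N →ₗ[A] W.X i, (W.d i (i + 1)).hom ∘ₗ f = 0 →
      ∃ (c : Fin r → A) (g : N →ₗ[A] W.X (i - 1)), f = ∑ l, c l • fl l + (W.d (i - 1) i).hom ∘ₗ g

theorem FinV.prev {N : Type u} [AddCommGroup N] [Module A N] {i : ℤ} (h : FinV W N i) {j : ℤ} (hj : j + 1 = i) :
    ∃ (r : ℕ) (fl : Fin r → (N →ₗ[A] W.X i)), (∀ l, (W.d i (i + 1)).hom ∘ₗ fl l = 0) ∧
    ∀ f : N →ₗ[A] W.X i, (W.d i (i + 1)).hom ∘ₗ f = 0 →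
      ∃ (c : Fin r → A) (g : N →ₗ[A] W.X j), f = ∑ l, c l • fl l + (W.d j i).hom ∘ₗ g := by
  obtain rfl : j = i - 1 := by omega
  exact h

theorem finV_free [IsNoetherianRing A] {ι : Type} [Fintype ι] [DecidableEq ι] (i : ℤ)
    (h : Module.Finite A (W.homology i)) : FinV W (ι → A) i := by
  classical
  obtain ⟨N, hN, hNc, hNs⟩ := HTFin27.finH_of_finite W i h
  obtain ⟨r, z, hz⟩ := Submodule.fg_iff_exists_fin_generating_family.1 hN
  let fl : ι × Fin r → ((ι → A) →ₗ[A] W.X i) := fun jl =>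
    (LinearMap.toSpanSingleton A (W.X i) (z jl.2)) ∘ₗ LinearMap.proj jl.1
  let e := Fintype.equivFin (ι × Fin r)
  refine ⟨Fintype.card (ι × Fin r), fun l => fl (e.symm l), fun l => LinearMap.ext fun v => ?_, fun f hf => ?_⟩
  · show W.d i (i + 1) (v (e.symm l).1 • z (e.symm l).2) = 0
    have hzc : W.d i (i + 1) (z (e.symm l).2) = 0 :=
      (ExtCechLib.mem_Cy W rfl).1 (hNc (hz ▸ Submodule.subset_span ⟨_, rfl⟩))
    rw [map_smul, hzc, smul_zero]
  · have key : ∀ j : ι, ∃ (c : Fin r → A) (y : W.X (i - 1)), f (Pi.single j 1) = ∑ l, c l • z l + W.d (i - 1) i y := fun j => by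
      obtain ⟨n, hn, b, hb, hnb⟩ := Submodule.mem_sup.1 (hNs ((ExtCechLib.mem_Cy W rfl).2
        (LinearMap.congr_fun hf (Pi.single j 1))))
      rw [← hz] at hn
      obtain ⟨c, hc⟩ := (Submodule.mem_span_range_iff_exists_fun A).1 hn
      obtain ⟨y, hy⟩ := (ExtCechLib.mem_Bd W (show i - 1 + 1 = i by omega)).1 hb
      exact ⟨c, y, by rw [hc, ← hnb]; exact congrArg (n + ·) hy.symm⟩
    choose c y hcy using key
    refine ⟨fun l => c (e.symm l).1 (e.symm l).2, Fintype.linearCombination A y, ?_⟩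
    refine LinearMap.pi_ext' fun j => LinearMap.ext_ring ?_
    show f (Pi.single j 1) = ((∑ l, c (e.symm l).1 (e.symm l).2 • fl (e.symm l)) : (ι → A) →ₗ[A] W.X i) (Pi.single j 1) +
      W.d (i - 1) i (Fintype.linearCombination A y (Pi.single j 1))
    rw [Fintype.linearCombination_apply_single, one_smul, LinearMap.sum_apply,
      Equiv.sum_comp e.symm (fun jl => (c jl.1 jl.2 • fl jl) (Pi.single j (1 : A))), Fintype.sum_prod_type,
      Finset.sum_eq_single j]
    · rw [hcy j]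
      congr 1
      refine Finset.sum_congr rfl fun l _ => ?_
      simp [fl]
    · intro j' _ hne
      refine Finset.sum_eq_zero fun l _ => ?_
      simp [fl, Pi.single_eq_of_ne hne]
    · simp

theorem finV_of_finite [IsNoetherianRing A] (hW : ∀ i, Injective (W.X i)) (lo : ℤ) [W.IsStrictlyGE lo]
    (hH : ∀ i, Module.Finite A (W.homology i)) :
    ∀ (k : ℕ) (i : ℤ), i < lo + k → ∀ (N : Type u) [AddCommGroup N] [Module A N] [Module.Finite A N], FinV W N i
  | 0, i, hi, N, _, _, _ => by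
    haveI := ModuleCat.subsingleton_of_isZero (W.isZero_of_isStrictlyGE lo i (by simpa using hi))
    exact ⟨0, Fin.elim0, fun l => l.elim0, fun f _ => ⟨Fin.elim0, 0, Subsingleton.elim _ _⟩⟩
  | k + 1, i, hi, N, _, _, _ => by
    classical
    obtain ⟨m, p, hp⟩ := Module.Finite.exists_fin' A N
    let ι : ↥(LinearMap.ker p) →ₗ[A] (Fin m → A) := (LinearMap.ker p).subtype
    have hex : Function.Exact ι p := LinearMap.exact_subtype_ker_map p
    have hι : Function.Injective ι := Submodule.injective_subtype _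
    obtain ⟨r, F, hF, hFs⟩ := finV_free (W := W) (ι := Fin m) i (hH i)
    obtain ⟨r', K, hK, hKs⟩ := (finV_of_finite hW lo hH k (i - 1) (by push_cast at hi ⊢; omega) (LinearMap.ker p)).prev
      (j := i - 2) (by omega)
    let L : Submodule A (Fin r → A) :=
      { carrier := {a | ∃ (f : N →ₗ[A] W.X i) (g : (Fin m → A) →ₗ[A] W.X (i - 1)),
          (W.d i (i + 1)).hom ∘ₗ f = 0 ∧ ∑ l, a l • F l = f ∘ₗ p + (W.d (i - 1) i).hom ∘ₗ g}
        zero_mem' := ⟨0, 0, LinearMap.comp_zero _, by simp⟩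
        add_mem' := by
          rintro a b ⟨f, g, hf, h⟩ ⟨f', g', hf', h'⟩
          refine ⟨f + f', g + g', by rw [LinearMap.comp_add, hf, hf', add_zero], ?_⟩
          simp only [Pi.add_apply, add_smul, Finset.sum_add_distrib, h, h', LinearMap.add_comp, LinearMap.comp_add]
          abel
        smul_mem' := by
          rintro c a ⟨f, g, hf, h⟩
          refine ⟨c • f, c • g, by rw [LinearMap.comp_smul, hf, smul_zero], ?_⟩
          simp only [Pi.smul_apply, smul_eq_mul, mul_smul, ← Finset.smul_sum, h, smul_add, LinearMap.smul_comp,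
            LinearMap.comp_smul] }
    obtain ⟨t, b, hb⟩ := Submodule.fg_iff_exists_fin_generating_family.1 (IsNoetherian.noetherian L)
    have hbL : ∀ l, b l ∈ L := fun l => hb ▸ Submodule.subset_span ⟨l, rfl⟩
    choose fb gb hfb hgb using hbL
    choose KE hKE using fun l => exists_extend (hW (i - 1)) hι (K l)
    choose δl hδl using fun l => exists_desc hp hex ((W.d (i - 1) i).hom ∘ₗ KE l) (by
      rw [LinearMap.comp_assoc, hKE]
      have := hK l
      rwa [show i - 1 + 1 = i by omega] at this)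
    refine ⟨t + r', Fin.append fb δl, fun l => ?_, fun f hf => ?_⟩
    · induction l using Fin.addCases with
      | left l => rw [Fin.append_left]; exact hfb l
      | right l =>
        rw [Fin.append_right]
        exact comp_right_cancel hp (by rw [LinearMap.comp_assoc, hδl, dd_comp, LinearMap.zero_comp])
    · obtain ⟨c, g, hcg⟩ := hFs (f ∘ₗ p) (by rw [← LinearMap.comp_assoc, hf, LinearMap.zero_comp])
      have hcL : c ∈ L := ⟨f, -g, hf, by rw [LinearMap.comp_neg, hcg]; abel⟩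
      rw [← hb] at hcL
      obtain ⟨d, hd⟩ := (Submodule.mem_span_range_iff_exists_fun A).1 hcL
      let g₂ : (Fin m → A) →ₗ[A] W.X (i - 1) := g + ∑ j, d j • gb j
      have h2 : (f - ∑ j, d j • fb j) ∘ₗ p = (W.d (i - 1) i).hom ∘ₗ g₂ := by
        have h3 : ∑ l, c l • F l = (∑ j, d j • fb j) ∘ₗ p + (W.d (i - 1) i).hom ∘ₗ ∑ j, d j • gb j := by
          have : ∀ j, d j • (fb j ∘ₗ p + (W.d (i - 1) i).hom ∘ₗ gb j) = ∑ l, (d j * b j l) • F l := fun j => by
            rw [← hgb j, Finset.smul_sum]; simp [smul_smul]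
          calc ∑ l, c l • F l = ∑ l, (∑ j, d j * b j l) • F l := by
                refine Finset.sum_congr rfl fun l _ => ?_
                rw [← hd]; simp [Finset.sum_apply]
            _ = ∑ j, d j • (fb j ∘ₗ p + (W.d (i - 1) i).hom ∘ₗ gb j) := by
                simp_rw [this, Finset.sum_smul]; rw [Finset.sum_comm]
            _ = _ := by
                ext v
                simp [Finset.sum_add_distrib, LinearMap.sum_apply, map_sum]
        rw [LinearMap.sub_comp, hcg, h3]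
        simp only [g₂, LinearMap.comp_add]
        abel
      obtain ⟨e, h, heh⟩ := hKs (g₂ ∘ₗ ι) (by
        rw [show i - 1 + 1 = i by omega, ← LinearMap.comp_assoc, ← h2, LinearMap.comp_assoc,
          hex.linearMap_comp_eq_zero, LinearMap.comp_zero])
      obtain ⟨H, hH'⟩ := exists_extend (hW (i - 2)) hι h
      obtain ⟨g', hg'⟩ := exists_desc hp hex (g₂ - ∑ l, e l • KE l - (W.d (i - 2) (i - 1)).hom ∘ₗ H) (by
        have hsum : (∑ l, e l • KE l) ∘ₗ ι = ∑ l, e l • K l := by
          ext v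
          simp [LinearMap.sum_apply, ← hKE]
        rw [LinearMap.sub_comp, LinearMap.sub_comp, LinearMap.comp_assoc, hH', hsum, heh]
        abel)
      refine ⟨Fin.append d e, g', comp_right_cancel hp ?_⟩
      rw [Fin.sum_univ_add]
      simp only [Fin.append_left, Fin.append_right]
      rw [LinearMap.add_comp, LinearMap.add_comp, LinearMap.comp_assoc, hg', LinearMap.comp_sub, LinearMap.comp_sub,
        dd_comp, sub_zero, ← h2, LinearMap.sub_comp]
      have hsum2 : (∑ l, e l • δl l) ∘ₗ p = (W.d (i - 1) i).hom ∘ₗ ∑ l, e l • KE l := by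
        ext v
        simp only [LinearMap.comp_apply, LinearMap.sum_apply, LinearMap.smul_apply, map_sum, map_smul]
        exact Finset.sum_congr rfl fun l _ => congrArg (e l • ·) (LinearMap.congr_fun (hδl l) _)
      rw [hsum2]
      abel

theorem finV [IsNoetherianRing A] (hW : ∀ i, Injective (W.X i)) (lo : ℤ) [W.IsStrictlyGE lo]
    (hH : ∀ i, Module.Finite A (W.homology i)) (N : Type u) [AddCommGroup N] [Module A N] [Module.Finite A N]
    (i : ℤ) : FinV W N i :=
  finV_of_finite hW lo hH (i - lo + 1).toNat i (by omega) N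

/-- Nakayama's lemma for the cohomology of `Hom(N, W)`. -/
theorem vanS_of_surjective {N : Type u} [AddCommGroup N] [Module A N] {i : ℤ} (hfin : FinV W N i)
    (q : Ideal A) [q.IsPrime] {x : A} (hx : x ∈ q)
    (hsurj : ∀ f : N →ₗ[A] W.X i, (W.d i (i + 1)).hom ∘ₗ f = 0 → ∃ (s : q.primeCompl)
      (f' : N →ₗ[A] W.X i) (g : N →ₗ[A] W.X (i - 1)), (W.d i (i + 1)).hom ∘ₗ f' = 0 ∧
        (s : A) • f = x • f' + (W.d (i - 1) i).hom ∘ₗ g) :
    VanS W q.primeCompl N i := by
  let Zs : Submodule A (N →ₗ[A] W.X i) :=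
    { carrier := {f | (W.d i (i + 1)).hom ∘ₗ f = 0}
      zero_mem' := LinearMap.comp_zero _
      add_mem' := fun {f g} hf hg => by
        show _ ∘ₗ (f + g) = 0
        rw [LinearMap.comp_add, show (W.d i (i + 1)).hom ∘ₗ f = 0 from hf, show (W.d i (i + 1)).hom ∘ₗ g = 0 from hg, add_zero]
      smul_mem' := fun c f hf => by
        show _ ∘ₗ (c • f) = 0
        rw [LinearMap.comp_smul, show (W.d i (i + 1)).hom ∘ₗ f = 0 from hf, smul_zero] }
  let Bs : Submodule A Zs := Submodule.comap Zs.subtype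
    (LinearMap.range (LinearMap.compRight A (M := N) (W.d (i - 1) i).hom))
  have hmemB : ∀ z : Zs, z ∈ Bs ↔ ∃ g : N →ₗ[A] W.X (i - 1), (W.d (i - 1) i).hom ∘ₗ g = z.1 := fun z => Iff.rfl
  obtain ⟨r, fl, hfl, hfs⟩ := hfin
  let fl' : Fin r → Zs ⧸ Bs := fun l => Submodule.Quotient.mk ⟨fl l, hfl l⟩
  haveI : Module.Finite A (Zs ⧸ Bs) := by
    refine Module.Finite.of_surjective (Fintype.linearCombination A fl') fun z => ?_
    obtain ⟨⟨f, hf⟩, rfl⟩ := Submodule.Quotient.mk_surjective Bs z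
    obtain ⟨c, g, hcg⟩ := hfs f hf
    refine ⟨c, ?_⟩
    rw [Fintype.linearCombination_apply]
    simp only [fl', ← Submodule.mkQ_apply, ← map_smul, ← map_sum]
    rw [Submodule.mkQ_apply, Submodule.mkQ_apply, Submodule.Quotient.eq, hmemB]
    refine ⟨-g, ?_⟩
    simp [hcg]
  let L := LocalizedModule q.primeCompl (Zs ⧸ Bs)
  haveI : Module.Finite (Localization q.primeCompl) L :=
    Module.Finite.of_isLocalizedModule q.primeCompl (LocalizedModule.mkLinearMap q.primeCompl (Zs ⧸ Bs))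
  have hle : (⊤ : Submodule (Localization q.primeCompl) L) ≤
      IsLocalRing.maximalIdeal (Localization q.primeCompl) • ⊤ := by
    rintro z -
    induction z using LocalizedModule.induction_on with
    | h z t =>
      obtain ⟨⟨f, hf⟩, rfl⟩ := Submodule.Quotient.mk_surjective Bs z
      obtain ⟨s, f', g, hf', hfg⟩ := hsurj f hf
      have hmk : (s : A) • (Submodule.Quotient.mk ⟨f, hf⟩ : Zs ⧸ Bs) = x • Submodule.Quotient.mk ⟨f', hf'⟩ := by
        rw [← Submodule.Quotient.mk_smul, ← Submodule.Quotient.mk_smul, Submodule.Quotient.eq, hmemB]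
        exact ⟨g, by simp [hfg]⟩
      have : LocalizedModule.mk (Submodule.Quotient.mk ⟨f, hf⟩) t =
          algebraMap A (Localization q.primeCompl) x •
            (LocalizedModule.mk (Submodule.Quotient.mk (p := Bs) ⟨f', hf'⟩) (t * s) : L) := by
        rw [algebraMap_smul, LocalizedModule.smul'_mk, LocalizedModule.mk_eq]
        exact ⟨1, by rw [one_smul, one_smul, ← hmk, Submonoid.smul_def, Submonoid.smul_def, smul_smul, Submonoid.coe_mul]⟩
      rw [this]
      refine Submodule.smul_mem_smul ?_ Submodule.mem_top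
      rw [IsLocalRing.mem_maximalIdeal, mem_nonunits_iff,
        IsLocalization.AtPrime.isUnit_to_map_iff (Localization q.primeCompl) q x]
      exact fun h => h hx
  have hbot : (⊤ : Submodule (Localization q.primeCompl) L) = ⊥ :=
    Submodule.eq_bot_of_le_smul_of_le_jacobson_bot _ _ Module.Finite.fg_top hle
      (IsLocalRing.maximalIdeal_le_jacobson _)
  intro f hf
  have h0 : (LocalizedModule.mk (Submodule.Quotient.mk (p := Bs) ⟨f, hf⟩) 1 : L) = 0 := by
    rw [← Submodule.mem_bot (Localization q.primeCompl), ← hbot]; trivial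
  rw [← LocalizedModule.zero_mk (S := q.primeCompl) 1, LocalizedModule.mk_eq] at h0
  obtain ⟨s, hs⟩ := h0
  simp only [one_smul, smul_zero, Submonoid.smul_def] at hs
  rw [← Submodule.Quotient.mk_smul, Submodule.Quotient.mk_eq_zero, hmemB] at hs
  obtain ⟨g, hg⟩ := hs
  exact ⟨s, g, hg⟩

end Groth.Agent.Dlz27
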