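import Groth.Agent.Lib.Dlz27.Loc
import Groth.Agent.Lib.Dlz27.Van
import Mathlib.RingTheory.Support

/-!
# The degree function of a dualizing complex
-/

set_option autoImplicit false
universe u

open CategoryTheory CategoryTheory.Limits

attribute [local instance] HasDerivedCategory.standard

noncomputable section

namespace Groth.Agent.Dlz27

variable {A : Type u} [CommRing A] {W : DRing.Cx A}

theorem vanS_iff_classes [IsNoetherianRing A] (p : Ideal A) [p.IsPrime] (i : ℤ) :
    VanS W p.primeCompl (A ⧸ p) i ↔ ∀ y, XCy (locCx p.primeCompl W) (IsLocalRing.maximalIdeal (Localization p.primeCompl)) i y →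
      XBd (locCx p.primeCompl W) (IsLocalRing.maximalIdeal (Localization p.primeCompl)) i y := by
  classical
  let S := p.primeCompl
  let B := Localization S
  let 𝔪 := IsLocalRing.maximalIdeal B
  have hm : 𝔪 = p.map (algebraMap A B) := (Localization.AtPrime.map_eq_maximalIdeal).symm
  obtain ⟨r, g, hg⟩ := Submodule.fg_iff_exists_fin_generating_family.1 (IsNoetherian.noetherian p)
  have hkill : ∀ (j : ℤ) (x : W.X j), x ∈ Xk W p j → (W.X j).localizedModuleMkLinearMap S x ∈ Xk (locCx S W) 𝔪 j := by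
    intro j x hx
    refine (mem_Xk _ _).2 ?_
    rw [mem_Xk] at hx
    let K : Ideal B := LinearMap.ker (LinearMap.toSpanSingleton B ((W.X j).localizedModule S)
      ((W.X j).localizedModuleMkLinearMap S x))
    have hle : 𝔪 ≤ K := by
      rw [hm, Ideal.map_le_iff_le_comap]
      intro a ha
      show algebraMap A B a • (W.X j).localizedModuleMkLinearMap S x = 0
      rw [algebraMap_smul, ← map_smul, hx a ha, map_zero]
    exact fun b hb => hle hb
  have hlift : ∀ (j : ℤ) (y : (locCx S W).X j), y ∈ Xk (locCx S W) 𝔪 j →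
      ∃ (s : S) (x : W.X j), x ∈ Xk W p j ∧ algebraMap A B s • y = (W.X j).localizedModuleMkLinearMap S x := by
    intro j y hy
    let y' : (W.X j).localizedModule S := y
    obtain ⟨⟨x, s⟩, hxs⟩ := IsLocalizedModule.surj S ((W.X j).localizedModuleMkLinearMap S) y'
    have hy' : ∀ b ∈ 𝔪, b • y' = 0 := (mem_Xk _ _).1 hy
    have hx0 : ∀ l, (W.X j).localizedModuleMkLinearMap S (g l • x) = 0 := fun l => by
      rw [map_smul, ← hxs, Submonoid.smul_def, smul_comm,
        ← algebraMap_smul B (g l) y', hy' _ (hm ▸ Ideal.mem_map_of_mem _ (hg ▸ Submodule.subset_span ⟨l, rfl⟩)), smul_zero]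
    choose t ht using fun l => (IsLocalizedModule.eq_zero_iff S ((W.X j).localizedModuleMkLinearMap S)).1 (hx0 l)
    refine ⟨(∏ l, t l) * s, ((∏ l, t l : S) : A) • x, ?_, ?_⟩
    · have hle : p ≤ LinearMap.ker (LinearMap.toSpanSingleton A (W.X j) (((∏ l, t l : S) : A) • x)) := by
        rw [← hg, Submodule.span_le]
        rintro _ ⟨l, rfl⟩
        show g l • ((∏ l, t l : S) : A) • x = 0
        rw [smul_comm, ← Finset.prod_erase_mul _ _ (Finset.mem_univ l), Submonoid.coe_mul, mul_smul,
          show (t l : A) • g l • x = 0 from ht l, smul_zero]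
      exact (mem_Xk W p).2 fun a ha => hle ha
    · show algebraMap A B _ • y' = _
      rw [map_smul, ← hxs, algebraMap_smul, Submonoid.coe_mul, mul_smul, Submonoid.smul_def]
  constructor
  · rintro h y ⟨hy, hyd⟩
    obtain ⟨s, x, hx, hxy⟩ := hlift i y hy
    have hdx : (W.X (i + 1)).localizedModuleMkLinearMap S (W.d i (i + 1) x) = 0 := by
      rw [← locF_map_mk S (W.d i (i + 1)) x, ← hxy]
      refine (map_smul ((locCx S W).d i (i + 1)).hom _ _).trans ?_
      exact (congrArg (algebraMap A B s • ·) hyd).trans (smul_zero _)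
    obtain ⟨t, ht⟩ := (IsLocalizedModule.eq_zero_iff S ((W.X (i + 1)).localizedModuleMkLinearMap S)).1 hdx
    have htx : (t : A) • x ∈ Xk W p i := (Xk W p i).smul_mem _ hx
    obtain ⟨u, g', hg'⟩ := h (ofKilled ((t : A) • x) htx) (linearMap_ext_one (by
      show W.d i (i + 1) (ofKilled ((t : A) • x) htx 1) = 0
      rw [ofKilled_one, map_smul]
      exact ht))
    have h1 : W.d (i - 1) i (g' 1) = (u : A) • (t : A) • x :=
      (LinearMap.congr_fun hg' 1).trans (congrArg ((u : A) • ·) (ofKilled_one _ htx))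
    obtain ⟨c, hc⟩ := (IsLocalization.map_units B (u * t * s : S))
    refine ⟨(↑c⁻¹ : B) • ((W.X (i - 1)).localizedModuleMkLinearMap S (g' 1)),
      (Xk (locCx S W) 𝔪 (i - 1)).smul_mem _ (hkill _ _ (killed_one g')), ?_⟩
    refine (map_smul ((locCx S W).d (i - 1) i).hom _ _).trans ?_
    rw [show ((locCx S W).d (i - 1) i).hom ((W.X (i - 1)).localizedModuleMkLinearMap S (g' 1)) =
      (W.X i).localizedModuleMkLinearMap S (W.d (i - 1) i (g' 1)) from locF_map_mk S _ _, h1, map_smul, map_smul]
    let y' : (W.X i).localizedModule S := y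
    have hxy' : algebraMap A B s • y' = (W.X i).localizedModuleMkLinearMap S x := hxy
    have h2 : (↑c : B) • y' = (u : A) • (t : A) • (W.X i).localizedModuleMkLinearMap S x := by
      rw [hc, ← hxy', algebraMap_smul, algebraMap_smul, Submonoid.coe_mul, Submonoid.coe_mul, mul_smul, mul_smul]
    show (↑c⁻¹ : B) • ((u : A) • (t : A) • (W.X i).localizedModuleMkLinearMap S x) = y'
    rw [← h2, smul_smul, Units.inv_mul, one_smul]
  · intro h f hf
    have hcy : XCy (locCx S W) 𝔪 i ((W.X i).localizedModuleMkLinearMap S (f 1)) := by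
      refine ⟨hkill _ _ (killed_one f), ?_⟩
      rw [show (locCx S W).d i (i + 1) ((W.X i).localizedModuleMkLinearMap S (f 1)) =
        (W.X (i + 1)).localizedModuleMkLinearMap S (W.d i (i + 1) (f 1)) from locF_map_mk S _ _]
      rw [show W.d i (i + 1) (f 1) = 0 from LinearMap.congr_fun hf 1, map_zero]
      rfl
    obtain ⟨y', hy', hdy'⟩ := h _ hcy
    obtain ⟨s, x, hx, hxy⟩ := hlift (i - 1) y' hy'
    have h1 : (W.X i).localizedModuleMkLinearMap S (W.d (i - 1) i x) =
        (W.X i).localizedModuleMkLinearMap S ((s : A) • f 1) := by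
      rw [← locF_map_mk S (W.d (i - 1) i) x, ← hxy]
      refine (map_smul ((locCx S W).d (i - 1) i).hom _ _).trans ?_
      rw [map_smul]
      exact (congrArg (algebraMap A B s • ·) hdy').trans
        (algebraMap_smul B (s : A) ((W.X i).localizedModuleMkLinearMap S (f 1)))
    obtain ⟨r, hr⟩ := (IsLocalizedModule.eq_iff_exists S ((W.X i).localizedModuleMkLinearMap S)).1 h1
    refine ⟨r * s, ofKilled ((r : A) • x) ((Xk W p _).smul_mem _ hx), linearMap_ext_one ?_⟩
    show W.d (i - 1) i (ofKilled ((r : A) • x) _ 1) = ((r * s : S) : A) • f 1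
    rw [ofKilled_one, map_smul, Submonoid.coe_mul, mul_smul]
    exact hr

instance wellFoundedGT_primeSpectrum [IsNoetherianRing A] : WellFoundedGT (PrimeSpectrum A) :=
  ⟨InvImage.wf PrimeSpectrum.asIdeal (wellFounded_gt (α := Ideal A))⟩

variable [IsNoetherianRing A] {ω : Dual.D A} (hω : Dual.IsDualizing A ω) (M : Model ω)

/-- The localized model. -/
def locModel (S : Submonoid A) : Model (DerivedCategory.Q.obj (locCx S M.W)) where
  W := locCx S M.W
  lo := M.lo
  hi := M.hi
  isGE := inferInstance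
  isLE := inferInstance
  inj i := injective_locF S (M.inj i)
  kinj := haveI : ∀ i, Injective ((locCx S M.W).X i) := fun i => injective_locF S (M.inj i)
    CochainComplex.isKInjective_of_injective _ M.lo
  e := Iso.refl _

include hω in
theorem exists_deg_prime (p : Ideal A) [p.IsPrime] :
    ∃ n : ℤ, M.lo ≤ n ∧ n ≤ M.hi ∧ ∀ i, VanS M.W p.primeCompl (A ⧸ p) i ↔ i ≠ n := by
  haveI : IsNoetherianRing (Localization p.primeCompl) := IsLocalization.isNoetherianRing p.primeCompl _ inferInstance
  obtain ⟨n, x, hx, hxb, hvan, -⟩ := exists_deg (isDualizing_locCx p.primeCompl hω M)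
    (IsLocalRing.maximalIdeal (Localization p.primeCompl)) (locModel M p.primeCompl)
  have hnz : ¬ IsZero ((locCx p.primeCompl M.W).X n) := fun hz => by
    haveI := ModuleCat.subsingleton_of_isZero hz
    exact hxb ⟨0, Submodule.zero_mem _, @Subsingleton.elim _ this _ _⟩
  refine ⟨n, ?_, ?_, fun i => ⟨fun h hin => ?_, fun h => ?_⟩⟩
  · by_contra hcon
    exact hnz ((locCx p.primeCompl M.W).isZero_of_isStrictlyGE M.lo n (not_le.1 hcon))
  · by_contra hcon
    exact hnz ((locCx p.primeCompl M.W).isZero_of_isStrictlyLE M.hi n (not_le.1 hcon))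
  · subst hin
    exact hxb ((vanS_iff_classes p i).1 h x hx)
  · exact (vanS_iff_classes p i).2 ((van_residue_iff i).1 (hvan i h))

/-- The degree of a prime. -/
def deg (p : PrimeSpectrum A) : ℤ := (exists_deg_prime hω M p.asIdeal).choose

theorem deg_ge (p : PrimeSpectrum A) : M.lo ≤ deg hω M p := (exists_deg_prime hω M p.asIdeal).choose_spec.1

theorem deg_le (p : PrimeSpectrum A) : deg hω M p ≤ M.hi := (exists_deg_prime hω M p.asIdeal).choose_spec.2.1

theorem vanS_iff_ne_deg (p : PrimeSpectrum A) (i : ℤ) :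
    VanS M.W p.asIdeal.primeCompl (A ⧸ p.asIdeal) i ↔ i ≠ deg hω M p :=
  (exists_deg_prime hω M p.asIdeal).choose_spec.2.2 i

include hω in
theorem finite_homology (i : ℤ) : Module.Finite A (M.W.homology i) := by
  have := hω.finite_cohomology i
  have l : Dual.HD A ω i ≃ₗ[A] M.W.homology i := ((DerivedCategory.homologyFunctor (ModuleCat.{u} A) i).mapIso M.e.symm ≪≫
    (DerivedCategory.homologyFunctorFactors (ModuleCat.{u} A) i).app M.W).toLinearEquiv
  exact Module.Finite.equiv l

omit [IsNoetherianRing A] in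
theorem vanS_quotient_of_not_le (r : PrimeSpectrum A) (q : Ideal A) [q.IsPrime] (h : ¬ r.asIdeal ≤ q) (i : ℤ) :
    VanS W q.primeCompl (A ⧸ r.asIdeal) i := by
  obtain ⟨a, har, haq⟩ := SetLike.not_le_iff_exists.1 h
  refine vanS_of_killed _ (⟨a, haq⟩ : q.primeCompl) (fun x => ?_) i
  obtain ⟨x, rfl⟩ := Ideal.Quotient.mk_surjective x
  show Submodule.Quotient.mk (a * x) = 0
  exact (Submodule.Quotient.mk_eq_zero _).2 (Ideal.mul_mem_right x _ har)

/-- Dévissage along the support. -/
theorem vanS_of_support (hW : ∀ i, Injective (W.X i)) (S : Submonoid A) (i : ℤ) (N : Type u) [AddCommGroup N]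
    [Module A N] [Module.Finite A N] (h : ∀ r ∈ Module.support A N, VanS W S (A ⧸ r.asIdeal) i) : VanS W S N i := by
  revert h
  refine IsNoetherianRing.induction_on_isQuotientEquivQuotientPrime A (motive := fun N _ _ _ =>
    (∀ r ∈ Module.support A N, VanS W S (A ⧸ r.asIdeal) i) → VanS W S N i) (inferInstance : Module.Finite A N) ?_ ?_ ?_
  · exact fun N _ _ _ _ _ => vanS_of_subsingleton N i
  · intro N _ _ _ p e h
    refine (h p ?_).equiv e.symm
    rw [e.support_eq, Module.support_eq_zeroLocus, PrimeSpectrum.mem_zeroLocus, Ideal.annihilator_quotient]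
  · intro N₁ _ _ _ N₂ _ _ _ N₃ _ _ _ f g hf hg hex h₁ h₃ h
    have hs := Module.support_of_exact hex hf hg
    exact VanS.mid hW hf hg hex (h₁ fun r hr => h r (hs ▸ Or.inl hr)) (h₃ fun r hr => h r (hs ▸ Or.inr hr))

variable (W) in
/-- The multiplication sequence on `A ⧸ p`. -/
theorem exists_surj_of_vanS (hW : ∀ i, Injective (W.X i)) (p : Ideal A) [p.IsPrime] (x : A) (hxp : x ∉ p)
    (q : Ideal A) [q.IsPrime] (i : ℤ) (h : VanS W q.primeCompl (A ⧸ (p ⊔ Ideal.span {x})) (i + 1))
    (f : A ⧸ p →ₗ[A] W.X i) (hf : (W.d i (i + 1)).hom ∘ₗ f = 0) :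
    ∃ (s : q.primeCompl) (f' : A ⧸ p →ₗ[A] W.X i) (g : A ⧸ p →ₗ[A] W.X (i - 1)),
      (W.d i (i + 1)).hom ∘ₗ f' = 0 ∧ (s : A) • f = x • f' + (W.d (i - 1) i).hom ∘ₗ g := by
  let μ : A ⧸ p →ₗ[A] A ⧸ p := x • LinearMap.id
  have hμ : Function.Injective μ := by
    rw [injective_iff_map_eq_zero]
    intro v hv
    obtain ⟨v, rfl⟩ := Ideal.Quotient.mk_surjective v
    have hv' : x * v ∈ p := (Submodule.Quotient.mk_eq_zero p).1 hv
    exact (Submodule.Quotient.mk_eq_zero p).2 (((inferInstance : p.IsPrime).mem_or_mem hv').resolve_left hxp)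
  let π : A ⧸ p →ₗ[A] A ⧸ (p ⊔ Ideal.span {x}) := Submodule.factor le_sup_left
  have hπ : Function.Surjective π := fun v => by
    obtain ⟨v, rfl⟩ := Submodule.Quotient.mk_surjective _ v
    exact ⟨Submodule.Quotient.mk v, rfl⟩
  have hex : Function.Exact μ π := fun v => by
    obtain ⟨v, rfl⟩ := Submodule.Quotient.mk_surjective p v
    constructor
    · intro hv
      obtain ⟨a, ha, b, hb, rfl⟩ := Submodule.mem_sup.1 ((Submodule.Quotient.mk_eq_zero _).1
        (show Submodule.Quotient.mk (p := p ⊔ Ideal.span {x}) v = 0 from hv))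
      obtain ⟨c, rfl⟩ := Ideal.mem_span_singleton'.1 hb
      refine ⟨Submodule.Quotient.mk c, ?_⟩
      show Submodule.Quotient.mk (x * c) = _
      rw [Submodule.Quotient.eq, mul_comm x c]
      simpa using p.neg_mem ha
    · rintro ⟨w, hw⟩
      obtain ⟨w, rfl⟩ := Submodule.Quotient.mk_surjective p w
      rw [← hw]
      show Submodule.Quotient.mk (p := p ⊔ Ideal.span {x}) (x * w) = 0
      exact (Submodule.Quotient.mk_eq_zero _).2 (Submodule.mem_sup_right
        (Ideal.mem_span_singleton'.2 ⟨w, mul_comm w x⟩))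
  obtain ⟨F, hF⟩ := exists_extend (hW i) hμ f
  obtain ⟨e, he⟩ := exists_desc hπ hex ((W.d i (i + 1)).hom ∘ₗ F) (by rw [LinearMap.comp_assoc, hF, hf])
  obtain ⟨s, k, hk⟩ := h.prev rfl e (comp_right_cancel hπ (by
    rw [LinearMap.comp_assoc, he, dd_comp, LinearMap.zero_comp]))
  refine ⟨s, (s : A) • F - k ∘ₗ π, 0, ?_, ?_⟩
  · rw [LinearMap.comp_sub, LinearMap.comp_smul, ← LinearMap.comp_assoc, hk, LinearMap.smul_comp, he, sub_self]
  · rw [LinearMap.comp_zero, add_zero, ← hF]
    refine LinearMap.ext fun v => ?_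
    have hπx : π (x • v) = 0 := (hex (x • v)).2 ⟨v, rfl⟩
    have h2 : x • k (π v) = 0 := by rw [← map_smul, ← map_smul, hπx, map_zero]
    show (s : A) • F (x • v) = x • ((s : A) • F v - k (π v))
    rw [smul_sub, h2, sub_zero, map_smul, smul_comm]

theorem mem_support_quotient {J : Ideal A} {r : PrimeSpectrum A} (h : r ∈ Module.support A (A ⧸ J)) :
    J ≤ r.asIdeal := by
  rw [Module.support_eq_zeroLocus, PrimeSpectrum.mem_zeroLocus, Ideal.annihilator_quotient] at h
  exact h

theorem deg_covBy {p q : PrimeSpectrum A} (h : p ⋖ q) : deg hω M q = deg hω M p + 1 := by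
  obtain ⟨x, hxq, hxp⟩ := SetLike.exists_of_lt (show p.asIdeal < q.asIdeal from h.lt)
  have hvan : ∀ i, i ≠ deg hω M q → VanS M.W q.asIdeal.primeCompl (A ⧸ (p.asIdeal ⊔ Ideal.span {x})) i := by
    intro i hi
    refine vanS_of_support M.inj _ i _ fun r hr => ?_
    have hr' := mem_support_quotient hr
    by_cases hrq : r.asIdeal ≤ q.asIdeal
    · have hpr : p < r := lt_of_le_of_ne (le_sup_left.trans hr') fun e => hxp
        (e ▸ hr' (Submodule.mem_sup_right (Ideal.mem_span_singleton_self x)))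
      obtain rfl : r = q := (eq_or_lt_of_le (show r ≤ q from hrq)).resolve_right (h.2 hpr)
      exact (vanS_iff_ne_deg hω M r i).2 hi
    · exact vanS_quotient_of_not_le r q.asIdeal hrq i
  by_contra hne
  refine (vanS_iff_ne_deg hω M p (deg hω M p)).1 ?_ rfl
  refine (vanS_of_surjective (finV M.inj M.lo (finite_homology hω M) _ _) q.asIdeal hxq fun f hf =>
    exists_surj_of_vanS M.W M.inj p.asIdeal x hxp q.asIdeal _ (hvan _ (fun e => hne e.symm)) f hf).mono
    fun a ha hap => ha (h.lt.le hap)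

theorem deg_lt_deg : ∀ (k : ℕ) {p q : PrimeSpectrum A}, p < q → deg hω M q < M.lo + k → deg hω M p < deg hω M q
  | 0, p, q, _, hq => absurd (deg_ge hω M q) (by push_cast at hq; omega)
  | k + 1, p, q, hpq, hq => by
    obtain ⟨r, ⟨hpr, hrq⟩, hmax⟩ := WellFounded.has_min (wellFounded_gt (α := PrimeSpectrum A))
      {r : PrimeSpectrum A | p ≤ r ∧ r < q} ⟨p, le_refl p, hpq⟩
    have hcov : r ⋖ q := ⟨hrq, fun c hrc hcq => hmax c ⟨hpr.trans hrc.le, hcq⟩ hrc⟩
    have h1 := deg_covBy hω M hcov
    rcases eq_or_lt_of_le hpr with rfl | hlt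
    · omega
    · have := deg_lt_deg k hlt (by push_cast at hq; omega)
      omega

theorem deg_strictMono : StrictMono (deg hω M) := fun _ q h =>
  deg_lt_deg hω M (deg hω M q - M.lo + 1).toNat h (by omega)

theorem vanS_prime_outside : ∀ (p q : PrimeSpectrum A), p ≤ q → ∀ i : ℤ, (i < deg hω M p ∨ deg hω M q < i) →
    VanS M.W q.asIdeal.primeCompl (A ⧸ p.asIdeal) i := by
  intro p
  induction p using WellFoundedGT.induction with
  | _ p ih =>
  intro q hpq i hi
  rcases eq_or_lt_of_le hpq with rfl | hlt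
  · exact (vanS_iff_ne_deg hω M p i).2 (by omega)
  · obtain ⟨x, hxq, hxp⟩ := SetLike.exists_of_lt (show p.asIdeal < q.asIdeal from hlt)
    refine vanS_of_surjective (finV M.inj M.lo (finite_homology hω M) _ _) q.asIdeal hxq fun f hf =>
      exists_surj_of_vanS M.W M.inj p.asIdeal x hxp q.asIdeal _ ?_ f hf
    refine vanS_of_support M.inj _ _ _ fun r hr => ?_
    have hr' := mem_support_quotient hr
    by_cases hrq : r.asIdeal ≤ q.asIdeal
    · have hpr : p < r := lt_of_le_of_ne (le_sup_left.trans hr') fun e => hxp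
        (e ▸ hr' (Submodule.mem_sup_right (Ideal.mem_span_singleton_self x)))
      have := deg_strictMono hω M hpr
      exact ih r hpr q hrq (i + 1) (by omega)
    · exact vanS_quotient_of_not_le r q.asIdeal hrq _

theorem vanS_low (q : PrimeSpectrum A) (i : ℤ) (N : Type u) [AddCommGroup N] [Module A N] [Module.Finite A N]
    (h : ∀ r ∈ Module.support A N, r ≤ q → i < deg hω M r) : VanS M.W q.asIdeal.primeCompl N i :=
  vanS_of_support M.inj _ i N fun r hr => by
    by_cases hrq : r ≤ q
    · exact vanS_prime_outside hω M r q hrq i (Or.inl (h r hr hrq))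
    · exact vanS_quotient_of_not_le r q.asIdeal hrq i

theorem vanS_high (q : PrimeSpectrum A) (i : ℤ) (N : Type u) [AddCommGroup N] [Module A N] [Module.Finite A N]
    (h : deg hω M q < i) : VanS M.W q.asIdeal.primeCompl N i :=
  vanS_of_support M.inj _ i N fun r _ => by
    by_cases hrq : r ≤ q
    · exact vanS_prime_outside hω M r q hrq i (Or.inr h)
    · exact vanS_quotient_of_not_le r q.asIdeal hrq i

include hω M in
theorem ringKrullDim_lt_top : ringKrullDim A < ⊤ := by
  let N : ℕ := (M.hi - M.lo).toNat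
  refine lt_of_le_of_lt (iSup_le fun l : LTSeries (PrimeSpectrum A) => ?_ : ringKrullDim A ≤ (N : WithBot ℕ∞))
    (WithBot.coe_lt_coe.2 (ENat.natCast_lt_top N))
  let f : Fin (l.length + 1) → Fin (N + 1) := fun j => ⟨(deg hω M (l j) - M.lo).toNat, by
    have := deg_le hω M (l j); omega⟩
  have hf : StrictMono f := fun j k hjk => by
    have := deg_strictMono hω M (l.strictMono hjk)
    have := deg_ge hω M (l j)
    show (deg hω M (l j) - M.lo).toNat < (deg hω M (l k) - M.lo).toNat
    omega
  have := Fintype.card_le_of_injective f hf.injective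
  rw [Fintype.card_fin, Fintype.card_fin] at this
  exact_mod_cast (show l.length ≤ N by omega)

/-- Localized vanishing in terms of morphisms in the derived category. -/
theorem vanS_iff_hom (S : Submonoid A) (N : Type u) [AddCommGroup N] [Module A N] (i : ℤ) :
    VanS M.W S N i ↔ ∀ φ : Dual.inD A N ⟶ ω⟦i⟧, ∃ s : S, (s : A) • φ = 0 := by
  constructor
  · intro h φ
    obtain ⟨f, hf, rfl⟩ := cl_surjective M φ
    obtain ⟨s, g, hg⟩ := h f hf
    refine ⟨s, ?_⟩
    rw [← cl_smul, cl_eq_zero_iff]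
    exact ⟨g, hg⟩
  · intro h f hf
    obtain ⟨s, hs⟩ := h (cl M f hf)
    rw [← cl_smul, cl_eq_zero_iff] at hs
    obtain ⟨g, hg⟩ := hs
    exact ⟨s, g, hg⟩

theorem nontrivial_localized_iff (q : PrimeSpectrum A) (N : Type u) [AddCommGroup N] [Module A N] (i : ℤ) :
    Nontrivial (LocalizedModule q.asIdeal.primeCompl (Dual.inD A N ⟶ ω⟦i⟧)) ↔
      ¬ VanS M.W q.asIdeal.primeCompl N i := by
  rw [vanS_iff_hom, ← not_subsingleton_iff_nontrivial, LocalizedModule.subsingleton_iff]
  simp only [Subtype.exists, exists_prop]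

end Groth.Agent.Dlz27
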