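import Groth.Agent.Lib.Dlz27.DegApps
import Mathlib.RingTheory.KrullDimension.NonZeroDivisors

/-!
# Dualizing complexes over local rings
-/

set_option autoImplicit false
universe u

open CategoryTheory CategoryTheory.Limits

attribute [local instance] HasDerivedCategory.standard

noncomputable section

namespace Groth.Agent.Dlz27

variable {A : Type u} [CommRing A] [IsLocalRing A] {W : DRing.Cx A}

theorem isUnit_of_notMem_maximalIdeal {s : A} (hs : s ∈ (IsLocalRing.maximalIdeal A).primeCompl) : IsUnit s :=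
  IsLocalRing.notMem_maximalIdeal.1 hs

theorem vanS_maximal_iff {N : Type u} [AddCommGroup N] [Module A N] (i : ℤ) :
    VanS W (IsLocalRing.maximalIdeal A).primeCompl N i ↔ Van W N i := by
  refine ⟨fun h f hf => ?_, fun h => h.vanS _⟩
  obtain ⟨s, g, hg⟩ := h f hf
  obtain ⟨c, hc⟩ := isUnit_of_notMem_maximalIdeal s.2
  refine ⟨(↑c⁻¹ : A) • g, ?_⟩
  rw [LinearMap.comp_smul, hg, ← hc, smul_smul, Units.inv_mul, one_smul]

variable (A) in
/-- The closed point. -/
abbrev clPt : PrimeSpectrum A := IsLocalRing.closedPoint A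

variable [IsNoetherianRing A] {ω : Dual.D A} (hω : Dual.IsDualizing A ω) (M : Model ω)

theorem deg_closedPoint (hn : Dual.IsNormalized A ω) : deg hω M (clPt A) = 0 := by
  by_contra hne
  have h : VanS M.W (clPt A).asIdeal.primeCompl (A ⧸ (clPt A).asIdeal) (deg hω M (clPt A)) :=
    (vanS_maximal_iff _).2 ((subsingleton_hom_iff_van M.e _ _).1 (hn _ hne))
  exact (vanS_iff_ne_deg hω M (clPt A) _).1 h rfl

theorem deg_le_closedPoint (p : PrimeSpectrum A) : deg hω M p ≤ deg hω M (clPt A) :=
  (deg_strictMono hω M).monotone (IsLocalRing.le_maximalIdeal p.isPrime.ne_top)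

/-- The dimension of `A ⧸ p`. -/
theorem dim_quotient (p : PrimeSpectrum A) :
    ringKrullDim (A ⧸ p.asIdeal) = (((deg hω M (clPt A) - deg hω M p).toNat : ℕ∞) : WithBot ℕ∞) := by
  have hle : p ≤ clPt A := IsLocalRing.le_maximalIdeal p.isPrime.ne_top
  let e : PrimeSpectrum.zeroLocus (R := A) (p.asIdeal : Set A) ≃o Set.Ici p :=
    { toFun := fun r => ⟨r.1, r.2⟩
      invFun := fun r => ⟨r.1, r.2⟩
      left_inv := fun _ => rfl
      right_inv := fun _ => rfl
      map_rel_iff' := Iff.rfl }
  letI : OrderTop (Set.Ici p) :=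
    { top := ⟨clPt A, hle⟩
      le_top := fun r => IsLocalRing.le_maximalIdeal r.1.isPrime.ne_top }
  rw [ringKrullDim_quotient, Order.krullDim_eq_of_orderIso e, ← Order.height_top_eq_krullDim]
  exact congrArg _ (height_eq_deg_sub M hω p (clPt A) hle)

theorem dim_quotient_normalized (hn : Dual.IsNormalized A ω) (p : PrimeSpectrum A) :
    deg hω M p ≤ 0 ∧ ringKrullDim (A ⧸ p.asIdeal) = (((-deg hω M p).toNat : ℕ∞) : WithBot ℕ∞) := by
  have h1 := deg_le_closedPoint hω M p
  have h2 := dim_quotient hω M p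
  rw [deg_closedPoint hω M hn] at h1 h2
  rw [zero_sub] at h2
  exact ⟨h1, h2⟩

end Groth.Agent.Dlz27
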