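import Groth.Agent.Lib.Dlz27.Deg

/-!
# First consequences of the degree function
-/

set_option autoImplicit false
universe u

open CategoryTheory CategoryTheory.Limits

attribute [local instance] HasDerivedCategory.standard

noncomputable section

namespace Groth.Agent.Dlz27

variable {A : Type u} [CommRing A] {ω : Dual.D A} (M : Model ω)

theorem vanS_self_iff (S : Submonoid A) (i : ℤ) :
    VanS M.W S A i ↔ ∀ z : Dual.HD A ω i, ∃ s : S, (s : A) • z = 0 := by
  let l : Dual.HD A ω i ≃ₗ[A] M.W.homology i := ((DerivedCategory.homologyFunctor (ModuleCat.{u} A) i).mapIso M.e.symm ≪≫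
    (DerivedCategory.homologyFunctorFactors (ModuleCat.{u} A) i).app M.W).toLinearEquiv
  constructor
  · intro h z
    obtain ⟨w, hw⟩ := DMod.homologyπ_surjective M.W i (l z)
    obtain ⟨s, g, hg⟩ := h (LinearMap.toSpanSingleton A (M.W.X i) (M.W.iCycles i w)) (LinearMap.ext_ring (by
      show M.W.d i (i + 1) ((1 : A) • M.W.iCycles i w) = 0
      rw [one_smul]; exact DMod.d_iCycles i (i + 1) w))
    refine ⟨s, l.injective ?_⟩
    rw [map_smul, map_zero, ← hw, ← map_smul, DMod.homologyπ_eq_zero_iff (K := M.W) (i := i - 1) (by simp)]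
    exact ⟨g 1, (LinearMap.congr_fun hg 1).trans (by simp [map_smul])⟩
  · intro h f hf
    obtain ⟨w, hw⟩ := DMod.exists_cycle (K := M.W) (k := i + 1) (by simp) (f 1) (LinearMap.congr_fun hf 1)
    obtain ⟨s, hs⟩ := h (l.symm (M.W.homologyπ i w))
    rw [← map_smul, LinearEquiv.map_eq_zero_iff, ← map_smul,
      DMod.homologyπ_eq_zero_iff (K := M.W) (i := i - 1) (by simp)] at hs
    obtain ⟨y, hy⟩ := hs
    refine ⟨s, LinearMap.toSpanSingleton A _ y, LinearMap.ext_ring ?_⟩
    show M.W.d (i - 1) i ((1 : A) • y) = (s : A) • f 1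
    rw [one_smul, hy, map_smul, hw]

theorem nontrivial_localized_HD_iff (q : PrimeSpectrum A) (i : ℤ) :
    Nontrivial (LocalizedModule q.asIdeal.primeCompl (Dual.HD A ω i)) ↔ ¬ VanS M.W q.asIdeal.primeCompl A i := by
  rw [vanS_self_iff, ← not_subsingleton_iff_nontrivial, LocalizedModule.subsingleton_iff]
  simp only [Subtype.exists, exists_prop]

variable [IsNoetherianRing A] (hω : Dual.IsDualizing A ω)

theorem vanS_self_minimal_iff (p : PrimeSpectrum A) (hp : p.asIdeal ∈ minimalPrimes A) (i : ℤ) :
    VanS M.W p.asIdeal.primeCompl A i ↔ i ≠ deg hω M p := by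
  have key : ∀ (N : Type u) [AddCommGroup N] [Module A N] [Module.Finite A N] (j : ℤ), j ≠ deg hω M p →
      VanS M.W p.asIdeal.primeCompl N j := fun N _ _ _ j hj =>
    vanS_of_support M.inj _ j N fun r _ => by
      by_cases hrp : r.asIdeal ≤ p.asIdeal
      · obtain rfl : r = p := PrimeSpectrum.ext (le_antisymm hrp (hp.2 ⟨r.isPrime, bot_le⟩ hrp))
        exact (vanS_iff_ne_deg hω M r j).2 hj
      · exact vanS_quotient_of_not_le r p.asIdeal hrp j
  refine ⟨fun h hi => ?_, fun h => key A i h⟩
  subst hi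
  refine (vanS_iff_ne_deg hω M p _).1 (VanS.right M.inj (i := p.asIdeal.subtype) (p := p.asIdeal.mkQ)
    p.asIdeal.injective_subtype (Submodule.mkQ_surjective _) (LinearMap.exact_subtype_mkQ _) h
    (key p.asIdeal _ (by omega))) rfl

theorem exists_deg_series : ∀ (k : ℕ) (p q : PrimeSpectrum A), p ≤ q → deg hω M q - deg hω M p = k →
    ∃ l : LTSeries (Set.Ici p), l.length = k ∧ (RelSeries.last l).1 = q
  | 0, p, q, hpq, hk => by
    obtain rfl : p = q := (eq_or_lt_of_le hpq).resolve_right fun h => by
      have := deg_strictMono hω M h; omega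
    exact ⟨RelSeries.singleton _ ⟨p, le_refl p⟩, rfl, rfl⟩
  | k + 1, p, q, hpq, hk => by
    have hlt : p < q := lt_of_le_of_ne hpq fun e => by subst e; push_cast at hk; omega
    obtain ⟨r, ⟨hpr, hrq⟩, hmax⟩ := WellFounded.has_min (wellFounded_gt (α := PrimeSpectrum A))
      {r : PrimeSpectrum A | p ≤ r ∧ r < q} ⟨p, le_refl p, hlt⟩
    have h1 := deg_covBy hω M (⟨hrq, fun c hrc hcq => hmax c ⟨hpr.trans hrc.le, hcq⟩ hrc⟩ : r ⋖ q)
    obtain ⟨l, hl, hlr⟩ := exists_deg_series k p r hpr (by push_cast at hk; omega)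
    refine ⟨l.snoc ⟨q, hpq⟩ (show (RelSeries.last l).1 < q from hlr ▸ hrq), by simp [hl], ?_⟩
    rw [RelSeries.last_snoc]

/-- The height above a smaller prime is the difference of degrees. -/
theorem height_eq_deg_sub (p q : PrimeSpectrum A) (hpq : p ≤ q) :
    Order.height (⟨q, hpq⟩ : Set.Ici p) = ((deg hω M q - deg hω M p).toNat : ℕ∞) := by
  refine le_antisymm (Order.height_le fun l hl => ?_) ?_
  · have h0 := deg_le hω M q
    have key : ∀ j : Fin (l.length + 1), (j : ℤ) ≤ deg hω M (l j).1 - deg hω M p := fun j => by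
      induction j using Fin.induction with
      | zero =>
        have := (deg_strictMono hω M).monotone (l 0).2
        simp only [Fin.val_zero, Nat.cast_zero]; omega
      | succ j ih =>
        have := deg_strictMono hω M (show (l j.castSucc).1 < (l j.succ).1 from l.strictMono (Fin.castSucc_lt_succ (i := j)))
        simp only [Fin.coe_castSucc] at ih
        simp only [Fin.val_succ, Nat.cast_add, Nat.cast_one]; omega
    have h1 := key (Fin.last l.length)
    rw [show (l (Fin.last l.length)).1 = q from congrArg Subtype.val hl] at h1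
    simp only [Fin.val_last] at h1
    exact_mod_cast (show l.length ≤ (deg hω M q - deg hω M p).toNat by omega)
  · have := (deg_strictMono hω M).monotone hpq
    obtain ⟨l, hl, hlq⟩ := exists_deg_series M hω (deg hω M q - deg hω M p).toNat p q hpq (by omega)
    rw [← hl]
    exact Order.length_le_height (le_of_eq (Subtype.ext hlq))

end Groth.Agent.Dlz27
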