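import Groth.Agent.Lib.Dlz27.LocalExt
import Groth.Agent.Lib.Depth3.Zero
import Groth.Agent.Lib.FlatDepth.GenericDepth

/-!
# Depth at a prime via a dualizing complex
-/

set_option autoImplicit false
universe u

open CategoryTheory CategoryTheory.Limits Pointwise

attribute [local instance] HasDerivedCategory.standard

noncomputable section

namespace Groth.Agent.Dlz27

variable {A : Type u} [CommRing A]

theorem exists_mul_kills (S : Submonoid A) (K : Type u) [AddCommGroup K] [Module A K] [Module.Finite A K]
    (h : ∀ x : K, ∃ s ∈ S, s • x = 0) : ∃ s : S, ∀ x : K, (s : A) • x = 0 := by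
  classical
  obtain ⟨n, v, hv⟩ := Module.Finite.exists_fin (R := A) (M := K)
  choose s hsS hs using fun l => h (v l)
  let s' : Fin n → S := fun l => ⟨s l, hsS l⟩
  refine ⟨∏ l, s' l, fun x => ?_⟩
  have hx : x ∈ Submodule.span A (Set.range v) := hv ▸ Submodule.mem_top
  induction hx using Submodule.span_induction with
  | mem y hy =>
    obtain ⟨l, rfl⟩ := hy
    rw [← Finset.prod_erase_mul _ s' (Finset.mem_univ l), Submonoid.coe_mul, mul_smul,
      show (s' l : A) • v l = 0 from hs l, smul_zero]
  | zero => exact smul_zero _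
  | add a b _ _ ha hb => rw [smul_add, ha, hb, add_zero]
  | smul c a _ ha => rw [smul_comm, ha, smul_zero]

section

variable {W : DRing.Cx A}

/-- The kernel of the localization map does not affect localized vanishing. -/
theorem vanS_quotient_torsion_iff [IsNoetherianRing A] (hW : ∀ i, Injective (W.X i)) (p : Ideal A) [p.IsPrime]
    (N : Type u) [AddCommGroup N] [Module A N] [Module.Finite A N] (i : ℤ) :
    VanS W p.primeCompl (N ⧸ LinearMap.ker (LocalizedModule.mkLinearMap p.primeCompl N)) i ↔
      VanS W p.primeCompl N i := by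
  let K := LinearMap.ker (LocalizedModule.mkLinearMap p.primeCompl N)
  obtain ⟨s, hs⟩ := exists_mul_kills p.primeCompl K fun x => by
    obtain ⟨s, hs, hs'⟩ := LocalizedModule.mem_ker_mkLinearMap_iff.1 x.2
    exact ⟨s, hs, Subtype.ext hs'⟩
  have hK : ∀ j, VanS W p.primeCompl K j := fun j => vanS_of_killed K s hs j
  refine ⟨fun h => VanS.mid hW K.injective_subtype K.mkQ_surjective (LinearMap.exact_subtype_mkQ _) (hK i) h,
    fun h => VanS.right hW K.injective_subtype K.mkQ_surjective (LinearMap.exact_subtype_mkQ _) h (hK (i - 1))⟩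

/-- The map to the quotient by torsion is an isomorphism after localization. -/
def quotientTorsionEquiv (p : Ideal A) [p.IsPrime] (N : Type u) [AddCommGroup N] [Module A N] :
    LocalizedModule p.primeCompl N ≃ₗ[Localization.AtPrime p]
      LocalizedModule p.primeCompl (N ⧸ LinearMap.ker (LocalizedModule.mkLinearMap p.primeCompl N)) :=
  LinearEquiv.ofBijective (LocalizedModule.map p.primeCompl (Submodule.mkQ _)) (by
    refine ⟨?_, LocalizedModule.map_surjective _ _ (Submodule.mkQ_surjective _)⟩
    rw [injective_iff_map_eq_zero]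
    intro z hz
    induction z using LocalizedModule.induction_on with
    | h x s =>
      rw [LocalizedModule.map_mk, ← LocalizedModule.zero_mk (S := p.primeCompl) s, LocalizedModule.mk_eq] at hz
      obtain ⟨u, hu⟩ := hz
      simp only [smul_zero, Submonoid.smul_def, ← map_smul] at hu
      obtain ⟨t, ht, ht'⟩ := LocalizedModule.mem_ker_mkLinearMap_iff.1 ((Submodule.Quotient.mk_eq_zero _).1 hu)
      rw [← LocalizedModule.zero_mk (S := p.primeCompl) s, LocalizedModule.mk_eq]
      exact ⟨⟨t, ht⟩ * u, by
        simp only [smul_zero, Submonoid.smul_def, mul_smul]; exact ht'⟩)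

end

variable [IsNoetherianRing A] {ω : Dual.D A} (hω : Dual.IsDualizing A ω) (M : Model ω)

/-- Depth at a prime through localized vanishing. -/
theorem vanS_of_depth (p : PrimeSpectrum A) : ∀ (n : ℕ) (N : Type u) [AddCommGroup N] [Module A N] [Module.Finite A N],
    LocCoh.depth (Localization.AtPrime p.asIdeal) (LocalizedModule p.asIdeal.primeCompl N) = n →
      (∀ δ : ℕ, δ < n → VanS M.W p.asIdeal.primeCompl N (deg hω M p - δ)) ∧
        ¬ VanS M.W p.asIdeal.primeCompl N (deg hω M p - n)
  | 0, N, _, _, _, hd => by
    refine ⟨fun δ hδ => absurd hδ δ.not_lt_zero, ?_⟩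
    have h := Module.associatedPrimes.comap_mem_associatedPrimes_of_mem_associatedPrimes_of_isLocalizedModule_of_fg
      p.asIdeal.primeCompl (LocalizedModule.mkLinearMap p.asIdeal.primeCompl N)
      (IsLocalRing.maximalIdeal (Localization.AtPrime p.asIdeal)) (Depth3.depth_eq_zero_iff.1 (by simpa using hd))
      (IsNoetherian.noetherian _)
    have h' : p.asIdeal ∈ associatedPrimes A N :=
      (Localization.AtPrime.under_maximalIdeal (I := p.asIdeal)) ▸ h
    simpa using not_vanS_of_mem_associatedPrimes hω M N p h'
  | k + 1, N, _, _, _, hd => by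
    let S := p.asIdeal.primeCompl
    let B := Localization.AtPrime p.asIdeal
    have hne : IsLocalRing.maximalIdeal B • (⊤ : Submodule B (LocalizedModule S N)) ≠ ⊤ := fun h => by
      rw [LocCoh.depth, DepthLib.idealDepth_of_smul_top_eq_top h] at hd
      exact ENat.natCast_ne_top _ hd.symm
    obtain ⟨x', hx', hreg'⟩ := DepthLib.exists_isSMulRegular_of_one_le_idealDepth hne (by
      show 1 ≤ LocCoh.depth B (LocalizedModule S N)
      rw [hd]; exact_mod_cast Nat.succ_le_succ (Nat.zero_le k))
    rw [← Localization.AtPrime.map_eq_maximalIdeal] at hx'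
    obtain ⟨⟨⟨a, ha⟩, s⟩, has⟩ := (IsLocalization.mem_map_algebraMap_iff S B).1 hx'
    have hreg : IsSMulRegular (LocalizedModule S N) (algebraMap A B a) := by
      rw [← has]
      exact hreg'.mul ((IsLocalization.map_units _ s).isSMulRegular _)
    let K := LinearMap.ker (LocalizedModule.mkLinearMap S N)
    let N' := N ⧸ K
    have hreg'' : IsSMulRegular N' a := by
      intro v w hvw
      rw [← sub_eq_zero] at hvw ⊢
      simp only [← smul_sub] at hvw
      generalize v - w = z at hvw ⊢
      obtain ⟨z, rfl⟩ := Submodule.Quotient.mk_surjective K z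
      have hz : a • z ∈ K := (Submodule.Quotient.mk_eq_zero K).1 hvw
      refine (Submodule.Quotient.mk_eq_zero K).2 (LinearMap.mem_ker.2 (hreg ?_))
      show algebraMap A B a • LocalizedModule.mkLinearMap S N z = algebraMap A B a • (0 : LocalizedModule S N)
      rw [smul_zero, algebraMap_smul, ← map_smul]
      exact hz
    have hd' : LocCoh.depth B (LocalizedModule S (QuotSMulTop a N')) = k := by
      have hB : IsSMulRegular (LocalizedModule S N') (algebraMap A B a) :=
        ((quotientTorsionEquiv p.asIdeal N).isSMulRegular_congr _).1 hreg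
      have h := DepthLib.idealDepth_quotSMulTop_add_one (M := LocalizedModule S N')
        (I := IsLocalRing.maximalIdeal B) (x := algebraMap A B a)
        (Localization.AtPrime.map_eq_maximalIdeal (I := p.asIdeal) ▸ Ideal.mem_map_of_mem _ ha) hB
      rw [← DepthLib.idealDepth_congr (FlatDepth.quotSMulTopAtEquiv p.asIdeal (M := N') a),
        ← DepthLib.idealDepth_congr (I := IsLocalRing.maximalIdeal B) (quotientTorsionEquiv p.asIdeal N),
        show LocCoh.idealDepth (IsLocalRing.maximalIdeal B) (LocalizedModule S N) =
          LocCoh.depth B (LocalizedModule S N) from rfl, hd, Nat.cast_succ] at h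
      exact ENat.add_left_injective_of_ne_top ENat.one_ne_top h
    obtain ⟨hlow, htop⟩ := vanS_of_depth p k (QuotSMulTop a N') hd'
    let π : N' →ₗ[A] QuotSMulTop a N' := Submodule.mkQ _
    have hπ : Function.Surjective π := Submodule.mkQ_surjective _
    have hex : Function.Exact (a • (LinearMap.id : N' →ₗ[A] N')) π := fun v => by
      constructor
      · intro hv
        obtain ⟨w, -, hw⟩ := (Submodule.mem_smul_pointwise_iff_exists _ _ _).1
          ((Submodule.Quotient.mk_eq_zero _).1 hv)
        exact ⟨w, hw⟩
      · rintro ⟨w, rfl⟩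
        exact (Submodule.Quotient.mk_eq_zero _).2 (Submodule.smul_mem_pointwise_smul w a ⊤ Submodule.mem_top)
    have hvan : ∀ δ : ℕ, δ < k + 1 → VanS M.W p.asIdeal.primeCompl N' (deg hω M p - δ) := fun δ hδ => by
      refine vanS_of_surjective (finV M.inj M.lo (finite_homology hω M) _ _) _ ha fun f hf =>
        exists_surj_of_exact M.inj a _ hreg'' hπ hex _ ?_ f hf
      cases δ with
      | zero => exact vanS_high hω M p _ _ (by simp)
      | succ δ =>
        have h := hlow δ (by omega)
        rwa [show deg hω M p - ((δ + 1 : ℕ) : ℤ) + 1 = deg hω M p - δ by push_cast; ring]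
    have hμ : Function.Injective (a • (LinearMap.id : N' →ₗ[A] N')) := hreg''
    refine ⟨fun δ hδ => (vanS_quotient_torsion_iff M.inj _ N _).1 (hvan δ hδ), fun h =>
      htop (VanS.right M.inj hμ hπ hex (hvan k (by omega)) ?_)⟩
    rw [show deg hω M p - (k : ℤ) - 1 = deg hω M p - ((k + 1 : ℕ) : ℤ) by push_cast; ring]
    exact (vanS_quotient_torsion_iff M.inj _ N _).2 h

omit [IsNoetherianRing A] in
theorem vanS_of_subsingleton_localized (p : PrimeSpectrum A) (N : Type u) [AddCommGroup N] [Module A N]
    [Module.Finite A N] [Subsingleton (LocalizedModule p.asIdeal.primeCompl N)] (i : ℤ) {W : DRing.Cx A} :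
    VanS W p.asIdeal.primeCompl N i := by
  obtain ⟨s, hs⟩ := exists_mul_kills p.asIdeal.primeCompl N fun x =>
    LocalizedModule.subsingleton_iff.1 inferInstance x
  exact vanS_of_killed N s hs i

omit [IsNoetherianRing A] in
theorem depth_eq_top_of_subsingleton (p : PrimeSpectrum A) (N : Type u) [AddCommGroup N] [Module A N]
    [Subsingleton (LocalizedModule p.asIdeal.primeCompl N)] :
    LocCoh.depth (Localization.AtPrime p.asIdeal) (LocalizedModule p.asIdeal.primeCompl N) = ⊤ :=
  DepthLib.idealDepth_of_smul_top_eq_top (Subsingleton.elim _ _)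

end Groth.Agent.Dlz27
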