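import Groth.Agent.Lib.Dlz27.LocCx
import Groth.Agent.Lib.HTFin27.Complex
import Groth.Agent.Lib.InjHull.Change
import Mathlib.Algebra.Module.FinitePresentation
import Mathlib.RingTheory.Ideal.MinimalPrime.Localization

/-!
# Power torsion in localized complexes
-/

set_option autoImplicit false
universe u

open CategoryTheory CategoryTheory.Limits

attribute [local instance] HasDerivedCategory.standard

noncomputable section

namespace Groth.Agent.Dlz27

open ExtCechLib

variable {A : Type u} [CommRing A] [IsNoetherianRing A]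

theorem ok_zeroLocus_iff {I J : Ideal A} :
    HTFin27.Ok (PrimeSpectrum.zeroLocus (I : Set A)) J ↔ ∃ k : ℕ, I ^ k ≤ J := by
  rw [HTFin27.Ok, PrimeSpectrum.zeroLocus_subset_zeroLocus_iff]
  exact ⟨fun h => Ideal.exists_pow_le_of_le_radical_of_fg h (IsNoetherian.noetherian I),
    fun ⟨k, hk⟩ a ha => ⟨k, hk (Ideal.pow_mem_pow ha k)⟩⟩

theorem mem_TTors_zeroLocus_iff {I : Ideal A} {M : Type u} [AddCommGroup M] [Module A M] {x : M} :
    x ∈ HTFin27.TTors (PrimeSpectrum.zeroLocus (I : Set A)) M ↔ x ∈ InjHullLib.powTors I M := by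
  rw [InjHullLib.mem_powTors_iff]
  constructor
  · rintro ⟨J, hJ, hx⟩
    obtain ⟨k, hk⟩ := ok_zeroLocus_iff.1 hJ
    exact ⟨k, fun r hr => hx r (hk hr)⟩
  · rintro ⟨k, hk⟩
    exact ⟨I ^ k, ok_zeroLocus_iff.2 ⟨k, le_rfl⟩, hk⟩

omit [IsNoetherianRing A] in
theorem powTors_le_TTors {T : Set (PrimeSpectrum A)} (hT : StableUnderSpecialization T) {q : PrimeSpectrum A}
    (hq : q ∈ T) (M : Type u) [AddCommGroup M] [Module A M] :
    InjHullLib.powTors q.asIdeal M ≤ HTFin27.TTors T M := fun x hx => by
  obtain ⟨k, hk⟩ := InjHullLib.mem_powTors_iff.1 hx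
  refine ⟨q.asIdeal ^ k, HTFin27.Ok.pow (fun r hr => hT ?_ hq) k, hk⟩
  exact (PrimeSpectrum.le_iff_specializes q r).1 hr

omit [IsNoetherianRing A] in
theorem map_powTors {I : Ideal A} {M N : Type u} [AddCommGroup M] [Module A M] [AddCommGroup N] [Module A N]
    (f : M →ₗ[A] N) {x : M} (hx : x ∈ InjHullLib.powTors I M) : f x ∈ InjHullLib.powTors I N := by
  obtain ⟨k, hk⟩ := InjHullLib.mem_powTors_iff.1 hx
  exact InjHullLib.mem_powTors_iff.2 ⟨k, fun r hr => by rw [← map_smul, hk r hr, map_zero]⟩

section Mk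

variable (S : Submonoid A) (M : ModuleCat.{u} A)

/-- The localization map. -/
abbrev mkL : M →ₗ[A] M.localizedModule S := M.localizedModuleMkLinearMap S

omit [IsNoetherianRing A] in
theorem mkL_surj (y : M.localizedModule S) : ∃ (x : M) (t : S), (t : A) • y = mkL S M x := by
  obtain ⟨⟨x, t⟩, h⟩ := IsLocalizedModule.surj S (mkL S M) y
  exact ⟨x, t, h⟩

omit [IsNoetherianRing A] in
theorem mkL_eq_zero_iff {x : M} : mkL S M x = 0 ↔ ∃ s : S, (s : A) • x = 0 :=
  IsLocalizedModule.eq_zero_iff S (mkL S M)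

omit [IsNoetherianRing A] in
theorem algebraMap_smul_loc (a : A) (y : M.localizedModule S) :
    algebraMap A (Localization S) a • y = a • y := algebraMap_smul (Localization S) a y

omit [IsNoetherianRing A] in
theorem smul_loc_cancel (s : S) {y z : M.localizedModule S} (h : (s : A) • y = (s : A) • z) : y = z :=
  (IsLocalizedModule.smul_inj (mkL S M) s y z).1 h

omit [IsNoetherianRing A] in
theorem locCx_d_mkL (W : DRing.Cx A) (i j : ℤ) (x : W.X i) :
    (locCx S W).d i j (mkL S (W.X i) x) = mkL S (W.X j) (W.d i j x) :=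
  locF_map_mk S (W.d i j) x

omit [IsNoetherianRing A] in
theorem isLocalizedModule_mkL : IsLocalizedModule S (mkL S M) := inferInstance

/-- Localization of a linear map. -/
def mapL {N : Type u} [AddCommGroup N] [Module A N] (f : N →ₗ[A] M) :
    (ModuleCat.of A N).localizedModule S →ₗ[Localization S] M.localizedModule S :=
  ((locF S).map (ModuleCat.ofHom f : ModuleCat.of A N ⟶ M)).hom

omit [IsNoetherianRing A] in
theorem mapL_mkL {N : Type u} [AddCommGroup N] [Module A N] (f : N →ₗ[A] M) (x : N) :
    mapL S M f (mkL S (ModuleCat.of A N) x) = mkL S M (f x) :=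
  locF_map_mk S (ModuleCat.ofHom f : ModuleCat.of A N ⟶ M) x

omit [IsNoetherianRing A] in
theorem ext_mkL {N : Type u} [AddCommGroup N] [Module A N]
    {f g : (ModuleCat.of A N).localizedModule S →ₗ[Localization S] M.localizedModule S}
    (h : ∀ x : N, f (mkL S (ModuleCat.of A N) x) = g (mkL S (ModuleCat.of A N) x)) : f = g := by
  refine LinearMap.ext fun y => ?_
  obtain ⟨x, t, ht⟩ := mkL_surj S (ModuleCat.of A N) y
  refine smul_loc_cancel S M t ?_
  rw [← LinearMap.map_smul_of_tower, ← LinearMap.map_smul_of_tower, ht]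
  exact h x

end Mk

section DL

variable (S : Submonoid A) (W : DRing.Cx A)

/-- The differential of a localized complex. -/
def dL (i j : ℤ) : (W.X i).localizedModule S →ₗ[Localization S] (W.X j).localizedModule S :=
  ((locCx S W).d i j).hom

omit [IsNoetherianRing A] in
theorem dL_mkL (i j : ℤ) (x : W.X i) : dL S W i j (mkL S (W.X i) x) = mkL S (W.X j) (W.d i j x) :=
  locCx_d_mkL S W i j x

omit [IsNoetherianRing A] in
theorem dL_smul (i j : ℤ) (a : A) (y : (W.X i).localizedModule S) : dL S W i j (a • y) = a • dL S W i j y :=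
  LinearMap.map_smul_of_tower _ _ _

end DL

variable (q : Ideal A) [q.IsPrime]

/-- The maximal ideal of the local ring at `q`. -/
abbrev mQ : Ideal (Localization q.primeCompl) := IsLocalRing.maximalIdeal (Localization q.primeCompl)

omit [IsNoetherianRing A] in
theorem map_pow_eq (k : ℕ) : (q ^ k).map (algebraMap A (Localization q.primeCompl)) = mQ q ^ k := by
  rw [Ideal.map_pow]
  exact congrArg (· ^ k) (Localization.AtPrime.map_eq_maximalIdeal (I := q))

variable (M : ModuleCat.{u} A)

omit [IsNoetherianRing A] in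
theorem mkL_mem_powTors {z : M} (hz : z ∈ InjHullLib.powTors q M) :
    mkL q.primeCompl M z ∈ InjHullLib.powTors (mQ q) (M.localizedModule q.primeCompl) := by
  obtain ⟨k, hk⟩ := InjHullLib.mem_powTors_iff.1 hz
  refine InjHullLib.mem_powTors_iff.2 ⟨k, fun r hr => ?_⟩
  have : mQ q ^ k ≤ LinearMap.ker (LinearMap.toSpanSingleton (Localization q.primeCompl) _ (mkL q.primeCompl M z)) := by
    rw [← map_pow_eq q k, Ideal.map_le_iff_le_comap]
    intro c hc
    show algebraMap A (Localization q.primeCompl) c • mkL q.primeCompl M z = 0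
    rw [algebraMap_smul_loc, ← map_smul, hk c hc, map_zero]
  exact this hr

omit [IsNoetherianRing A] in
theorem mkL_eq_zero_of_not_le {p : Ideal A} (h : ¬ p ≤ q) {z : M} (hz : z ∈ InjHullLib.powTors p M) :
    mkL q.primeCompl M z = 0 := by
  obtain ⟨k, hk⟩ := InjHullLib.mem_powTors_iff.1 hz
  obtain ⟨e, hep, heq⟩ := SetLike.not_le_iff_exists.1 h
  exact (mkL_eq_zero_iff _ M).2 ⟨⟨e ^ k, fun hq => heq ((inferInstance : q.IsPrime).mem_of_pow_mem k hq)⟩,
    hk _ (Ideal.pow_mem_pow hep k)⟩

/-- The annihilator of an element. -/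
abbrev annEl {N : Type u} [AddCommGroup N] [Module A N] (x : N) : Ideal A := LinearMap.ker (LinearMap.toSpanSingleton A N x)

theorem mkL_mem_powTors_of_minimal {x : M} (h : q ∈ (annEl x).minimalPrimes) :
    mkL q.primeCompl M x ∈ InjHullLib.powTors (mQ q) (M.localizedModule q.primeCompl) := by
  haveI : IsNoetherianRing (Localization q.primeCompl) :=
    IsLocalization.isNoetherianRing q.primeCompl _ inferInstance
  let J : Ideal A := annEl x
  have hrad := IsLocalization.AtPrime.radical_map_of_mem_minimalPrimes (A := Localization.AtPrime q) q J h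
  have hle : mQ q ≤ (J.map (algebraMap A (Localization q.primeCompl))).radical := by
    rw [← pow_one (mQ q), ← map_pow_eq q 1, pow_one]
    exact hrad.ge
  obtain ⟨k, hk⟩ := Ideal.exists_pow_le_of_le_radical_of_fg hle (IsNoetherian.noetherian _)
  refine InjHullLib.mem_powTors_iff.2 ⟨k, fun r hr => ?_⟩
  have : J.map (algebraMap A (Localization q.primeCompl)) ≤
      LinearMap.ker (LinearMap.toSpanSingleton (Localization q.primeCompl) _ (mkL q.primeCompl M x)) := by
    rw [Ideal.map_le_iff_le_comap]
    intro c hc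
    show algebraMap A (Localization q.primeCompl) c • mkL q.primeCompl M x = 0
    rw [algebraMap_smul_loc, ← map_smul, show c • x = 0 from hc, map_zero]
  exact this (hk hr)

/-- Torsion elements of a localized injective module lift to torsion elements. -/
theorem lift_powTors (hM : Module.Injective A M) {y : M.localizedModule q.primeCompl}
    (hy : y ∈ InjHullLib.powTors (mQ q) (M.localizedModule q.primeCompl)) :
    ∃ z ∈ InjHullLib.powTors q M, mkL q.primeCompl M z = y := by
  classical
  obtain ⟨k, hk⟩ := InjHullLib.mem_powTors_iff.1 hy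
  obtain ⟨x, t, htx⟩ := mkL_surj q.primeCompl M y
  obtain ⟨G, hG⟩ := IsNoetherian.noetherian (q ^ k)
  have hg : ∀ g : G, ∃ s : q.primeCompl, (s : A) • ((g : A) • x) = 0 := fun g => by
    refine (mkL_eq_zero_iff _ M).1 ?_
    rw [map_smul, ← htx, smul_comm, ← algebraMap_smul_loc q.primeCompl M g.1,
      hk _ (map_pow_eq q k ▸ Ideal.mem_map_of_mem _ (hG ▸ Submodule.subset_span g.2)), smul_zero]
  choose s hs using hg
  let u : q.primeCompl := ∏ g, s g
  have hu : ∀ c ∈ q ^ k, c • ((u : A) • x) = 0 := by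
    intro c hc
    rw [← hG] at hc
    induction hc using Submodule.span_induction with
    | mem g hg =>
      obtain ⟨v, hv⟩ : ((s ⟨g, hg⟩ : q.primeCompl) : A) ∣ (u : A) := by
        simp only [u, Submonoid.coe_finsetProd]
        exact Finset.dvd_prod_of_mem (fun i => ((s i : q.primeCompl) : A)) (Finset.mem_univ _)
      rw [hv, smul_comm, mul_comm, mul_smul, hs ⟨g, hg⟩, smul_zero]
    | zero => exact zero_smul A _
    | add a b _ _ ha hb => rw [add_smul, ha, hb, add_zero]
    | smul a b _ hb => rw [smul_assoc, hb, smul_zero]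
  let P := InjHullLib.powTors q M
  obtain ⟨z, hz⟩ := InjHullLib.mkLinearMap_surjective_of_injective (InjHullLib.injective_powTors hM q)
    q.primeCompl (LocalizedModule.mk (⟨(u : A) • x, InjHullLib.mem_powTors_iff.2 ⟨k, hu⟩⟩ : P) (u * t))
  obtain ⟨w, hw⟩ := LocalizedModule.mk_eq.1 hz
  refine ⟨z.1, z.2, smul_loc_cancel _ M (w * (u * t)) ?_⟩
  have hw' : ((w * (u * t) : q.primeCompl) : A) • (z.1 : M) = ((w : A) * (u : A)) • x := by
    have h := congrArg Subtype.val hw
    simp only [SetLike.val_smul, Submonoid.smul_def, Submonoid.coe_one, one_smul] at h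
    rw [mul_smul, ← h, ← mul_smul, Submonoid.coe_mul]
  rw [← map_smul, hw', map_smul, ← htx, ← mul_smul]
  push_cast
  rw [mul_assoc]

/-- A linear map between localizations comes from a linear map, up to a unit. -/
theorem lift_hom (S : Submonoid A) (N : Type u) [AddCommGroup N] [Module A N] [Module.Finite A N]
    (f : (ModuleCat.of A N).localizedModule S →ₗ[Localization S] M.localizedModule S) :
    ∃ (g : N →ₗ[A] M) (s : S), ∀ x : N, mkL S M (g x) = (s : A) • f (mkL S (ModuleCat.of A N) x) := by
  haveI : Module.FinitePresentation A N := Module.finitePresentation_of_finite A N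
  obtain ⟨g, s, h⟩ := Module.FinitePresentation.exists_lift_of_isLocalizedModule S (mkL S M)
    (f.restrictScalars A ∘ₗ (mkL S (ModuleCat.of A N) : N →ₗ[A] _))
  exact ⟨g, s, fun x => LinearMap.congr_fun h x⟩

omit [IsNoetherianRing A] in
/-- Maps vanishing after localization are killed by a unit. -/
theorem kill_hom (S : Submonoid A) {N : Type u} [AddCommGroup N] [Module A N] [Module.Finite A N]
    (g : N →ₗ[A] M) (h : ∀ x : N, mkL S M (g x) = 0) : ∃ s : S, (s : A) • g = 0 := by
  obtain ⟨s, hs⟩ := Module.Finite.exists_smul_of_comp_eq_of_isLocalizedModule S (mkL S M) g 0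
    (by rw [LinearMap.comp_zero]; exact LinearMap.ext h)
  exact ⟨s, hs.trans (smul_zero _)⟩

end Groth.Agent.Dlz27
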