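import Groth.Agent.Lib.HTFin27.Main
import Groth.Agent.Lib.Dlz27.LocTors
import Groth.Agent.Lib.LocCoh.Basic

/-!
# Local cohomology at an ideal from torsion cycles of an injective resolution
-/

set_option autoImplicit false
universe u

open CategoryTheory CategoryTheory.Limits Opposite

attribute [local instance] HasDerivedCategory.standard

noncomputable section

namespace Groth.Agent.Dlz27

open ExtCechLib HTFin27 LocCohLib

variable {A : Type u} [CommRing A] [IsNoetherianRing A] (I : Ideal A) (n : ℕ) (M : ModuleCat.{u} A)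

/-- The zero locus. -/
abbrev VI : Set (PrimeSpectrum A) := PrimeSpectrum.zeroLocus (I : Set A)

/-- A power inside an index. -/
def expI (j : Dual2.IdealsIn (VI I)) : ℕ := (ok_zeroLocus_iff.1 j.property).choose

theorem expI_spec (j : Dual2.IdealsIn (VI I)) : I ^ expI I j ≤ j.obj :=
  (ok_zeroLocus_iff.1 j.property).choose_spec

/-- The projection from a power. -/
def toQ (j : Dual2.IdealsIn (VI I)) {k : ℕ} (h : I ^ k ≤ j.obj) : Q I k ⟶ qT (VI I) j :=
  ModuleCat.ofHom (Submodule.mapQ (I ^ k) j.obj LinearMap.id h : (A ⧸ I ^ k) →ₗ[A] A ⧸ j.obj)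

/-- `Hom(A/J, M[n])` as `Ext`. -/
def extOf (j : Dual2.IdealsIn (VI I)) :
    ((DerivedCategory.singleFunctor (ModuleCat.{u} A) 0).obj (qT (VI I) j) ⟶
      ((DerivedCategory.singleFunctor (ModuleCat.{u} A) 0).obj M)⟦(n : ℤ)⟧) ≃ₗ[A]
      Abelian.Ext (qT (VI I) j) M n :=
  ({ (Abelian.Ext.homAddEquiv (X := qT (VI I) j) (Y := M) (n := n)) with
      map_smul' := fun r x => Abelian.Ext.smul_hom x r } :
    Abelian.Ext (qT (VI I) j) M n ≃ₗ[A] ShiftedHom ((DerivedCategory.singleFunctor (ModuleCat.{u} A) 0).obj (qT (VI I) j))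
      ((DerivedCategory.singleFunctor (ModuleCat.{u} A) 0).obj M) (n : ℤ)).symm

/-- The value at a level. -/
def valI (j : Dual2.IdealsIn (VI I)) {k : ℕ} (h : I ^ k ≤ j.obj) :
    ((DerivedCategory.singleFunctor (ModuleCat.{u} A) 0).obj (qT (VI I) j) ⟶
      ((DerivedCategory.singleFunctor (ModuleCat.{u} A) 0).obj M)⟦(n : ℤ)⟧) →ₗ[A]
      (localCohomology I n).obj M :=
  (LocCohLib.ι I n M k ∘ₗ
    (Abelian.Ext.mk₀ (toQ I j h)).precompOfLinear A M (zero_add n)) ∘ₗ (extOf I n M j).toLinearMap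

theorem valI_apply (j : Dual2.IdealsIn (VI I)) {k : ℕ} (h : I ^ k ≤ j.obj) (φ) :
    valI I n M j h φ = LocCohLib.ι I n M k ((Abelian.Ext.mk₀ (toQ I j h)).comp (extOf I n M j φ) (zero_add n)) := rfl

theorem valI_le (j : Dual2.IdealsIn (VI I)) {k m : ℕ} (hk : I ^ k ≤ j.obj) (hkm : k ≤ m) (φ) :
    valI I n M j ((Ideal.pow_le_pow_right hkm).trans hk) φ = valI I n M j hk φ := by
  rw [valI_apply, valI_apply, ← ι_proj I n M hkm, Abelian.Ext.mk₀_comp_mk₀_assoc]
  refine congrArg (fun t => LocCohLib.ι I n M m ((Abelian.Ext.mk₀ t).comp (extOf I n M j φ) (zero_add n))) ?_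
  exact ModuleCat.hom_ext (Submodule.linearMap_qext _ (LinearMap.ext fun x => rfl))

theorem valI_indep (j : Dual2.IdealsIn (VI I)) {k m : ℕ} (hk : I ^ k ≤ j.obj) (hm : I ^ m ≤ j.obj) (φ) :
    valI I n M j hk φ = valI I n M j hm φ :=
  (valI_le I n M j hk (le_max_left k m) φ).symm.trans (valI_le I n M j hm (le_max_right k m) φ)

/-- The structure maps. -/
def κI (j : Dual2.IdealsIn (VI I)) :
    ((DerivedCategory.singleFunctor (ModuleCat.{u} A) 0).obj (qT (VI I) j) ⟶
      ((DerivedCategory.singleFunctor (ModuleCat.{u} A) 0).obj M)⟦(n : ℤ)⟧) →ₗ[A]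
      (localCohomology I n).obj M :=
  valI I n M j (expI_spec I j)

theorem extOf_precomp {j j' : Dual2.IdealsIn (VI I)} (g : qT (VI I) j' ⟶ qT (VI I) j) (φ) :
    extOf I n M j' ((DerivedCategory.singleFunctor (ModuleCat.{u} A) 0).map g ≫ φ) =
      (Abelian.Ext.mk₀ g).comp (extOf I n M j φ) (zero_add n) := by
  obtain ⟨x, rfl⟩ : ∃ x : Abelian.Ext (qT (VI I) j) M n, (extOf I n M j).symm x = φ :=
    ⟨extOf I n M j φ, LinearEquiv.symm_apply_apply _ _⟩
  rw [LinearEquiv.apply_symm_apply]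
  refine (extOf I n M j').symm.injective ?_
  rw [LinearEquiv.symm_apply_apply]
  show _ = ((Abelian.Ext.mk₀ g).comp x (zero_add n)).hom
  rw [Abelian.Ext.comp_hom, Abelian.Ext.mk₀_hom, ShiftedHom.mk₀_comp]
  rfl

theorem isColimK_κI : IsColimK (VI I) (n : ℤ) (κI I n M) where
  w j j' f φ := by
    have hle : j'.obj ≤ j.obj := leOfHom f.hom
    rw [κI, κI, valI_indep I n M j (expI_spec I j) ((expI_spec I j').trans hle), valI_apply, valI_apply,
      extOf_precomp, Abelian.Ext.mk₀_comp_mk₀_assoc]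
    refine congrArg (fun t => LocCohLib.ι I n M _ ((Abelian.Ext.mk₀ t).comp (extOf I n M j φ) (zero_add n))) ?_
    exact ModuleCat.hom_ext (Submodule.linearMap_qext _ (LinearMap.ext fun x => rfl))
  surj v := by
    obtain ⟨k, x, rfl⟩ := LocCohLib.exists_ι I n M v
    let j : Dual2.IdealsIn (VI I) := mkI _ (I ^ k) (ok_zeroLocus_iff.2 ⟨k, le_rfl⟩)
    refine ⟨j, (extOf I n M j).symm x, ?_⟩
    rw [κI, valI_indep I n M j (expI_spec I j) (le_refl (I ^ k)), valI_apply, LinearEquiv.apply_symm_apply,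
      show toQ I j (le_refl (I ^ k)) = 𝟙 _ from
        ModuleCat.hom_ext (Submodule.linearMap_qext _ (LinearMap.ext fun x => rfl))]
    exact congrArg (LocCohLib.ι I n M k) (Abelian.Ext.mk₀_id_comp x)
  zero j φ h := by
    rw [κI, valI_apply] at h
    obtain ⟨m, hm, h0⟩ := (LocCohLib.ι_eq_zero_iff I n M _).1 h
    let j' : Dual2.IdealsIn (VI I) := mkI _ (I ^ m) (ok_zeroLocus_iff.2 ⟨m, le_rfl⟩)
    let f : j' ⟶ j := leI _ ((Ideal.pow_le_pow_right hm).trans (expI_spec I j) : (I ^ m) ≤ j.obj)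
    refine ⟨j', f, (extOf I n M j').injective ?_⟩
    rw [extOf_precomp, map_zero]
    refine Eq.trans ?_ h0
    rw [Abelian.Ext.mk₀_comp_mk₀_assoc]
    refine congrArg (fun t => (Abelian.Ext.mk₀ t).comp (extOf I n M j φ) (zero_add n)) ?_
    exact ModuleCat.hom_ext (Submodule.linearMap_qext _ (LinearMap.ext fun x => rfl))

/-- Annihilation of cohomology with supports, elementwise. -/
theorem smul_eq_zero_iff_cycles {T : Set (PrimeSpectrum A)} (W : DRing.Cx A) [W.IsKInjective] {K : Dual.D A}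
    (e : DerivedCategory.Q.obj W ≅ K) (i : ℤ) {V : Type*} [AddCommGroup V] [Module A V]
    {κ : ∀ j : Dual2.IdealsIn T, ((DerivedCategory.singleFunctor (ModuleCat.{u} A) 0).obj (qT T j) ⟶ K⟦i⟧) →ₗ[A] V}
    (hκ : IsColimK T i κ) (a : A) :
    (∀ v : V, a • v = 0) ↔ ∀ z ∈ TCy T W i, a • z ∈ TBd T W i := by
  constructor
  · intro h z hz
    exact (toT_eq_zero_iff T W e i hκ (a • ⟨z, hz⟩)).1 ((map_smul _ _ _).trans (h _))
  · intro h v
    obtain ⟨z, rfl⟩ := toT_surjective T W e i hκ v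
    rw [← map_smul, toT_eq_zero_iff]
    exact h z.1 z.2

/-- An injective resolution of a module. -/
theorem exists_res_module (N : Type u) [AddCommGroup N] [Module A N] :
    ∃ W : DRing.Cx A, W.IsStrictlyGE 0 ∧ (∀ i, Injective (W.X i)) ∧ W.IsKInjective ∧
      Nonempty (DerivedCategory.Q.obj W ≅ Dual.inD A N) := by
  have hge : (Dual.inD A N).IsGE 0 := inferInstanceAs
    (((DerivedCategory.singleFunctor (ModuleCat.{u} A) 0).obj (ModuleCat.of A N)).IsGE 0)
  exact exists_res_bounded (Dual.inD A N) 0 ((DMod.isGE_iff _ 0).1 hge)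

/-- Localizing a resolution. -/
theorem exists_locCx_iso (S : Submonoid A) (W : DRing.Cx A) (N : Type u) [AddCommGroup N] [Module A N]
    (e : DerivedCategory.Q.obj W ≅ Dual.inD A N) :
    Nonempty (DerivedCategory.Q.obj (locCx S W) ≅
      Dual.inD (Localization S) ((ModuleCat.of A N).localizedModule S)) :=
  ⟨((locF S).mapDerivedCategoryFactors.app W).symm ≪≫ (locF S).mapDerivedCategory.mapIso e ≪≫
    ((locF S).mapDerivedCategorySingleFunctor 0).app (ModuleCat.of A N)⟩

end Groth.Agent.Dlz27
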