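import Groth.Agent.Lib.Dlz27.Deg
import Groth.Agent.Lib.Dlz27.LocTors

/-!
# Shifts of dualizing complexes, morphisms into a dualizing complex after localization
-/

set_option autoImplicit false
universe u

open CategoryTheory CategoryTheory.Limits

attribute [local instance] HasDerivedCategory.standard

noncomputable section

namespace Groth.Agent.Dlz27

variable {A : Type u} [CommRing A]

theorem isDualizing_shift {ω : Dual.D A} (h : Dual.IsDualizing A ω) (d : ℤ) : Dual.IsDualizing A (ω⟦d⟧) := by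
  obtain ⟨a, b, hab⟩ := h.finite_injective_dimension
  refine ⟨h.isNoetherianRing, ⟨a - d, b - d, fun M _ _ i hi => ?_⟩, fun i => ?_, ⟨fun x y hxy => ?_, fun φ => ?_⟩,
    fun i hi => ?_⟩
  · have := hab M (d + i) (by omega)
    exact (Iso.homCongr (Iso.refl _) ((shiftFunctorAdd' (Dual.D A) d i (d + i) rfl).app ω)).symm.subsingleton
  · have : Module.Finite A (((DerivedCategory.homologyFunctor (ModuleCat.{u} A) 0).shift (d + i)).obj ω) :=
      h.finite_cohomology (d + i)
    exact Module.Finite.equiv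
      (((DerivedCategory.homologyFunctor (ModuleCat.{u} A) 0).shiftIso d i (d + i) rfl).app ω).toLinearEquiv.symm
  · refine h.toEnd_bijective.1 ((shiftFunctor (Dual.D A) d).map_injective ?_)
    simpa only [Functor.map_smul, CategoryTheory.Functor.map_id] using hxy
  · obtain ⟨x, hx⟩ := h.toEnd_bijective.2 ((shiftFunctor (Dual.D A) d).preimage φ)
    refine ⟨x, ?_⟩
    have h' := congrArg (shiftFunctor (Dual.D A) d).map hx
    simpa only [Functor.map_smul, CategoryTheory.Functor.map_id, Functor.map_preimage] using h'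
  · have := h.ext_self_subsingleton i hi
    haveI : Subsingleton (ω⟦d⟧ ⟶ (shiftFunctor (Dual.D A) i ⋙ shiftFunctor (Dual.D A) d).obj ω) := ⟨fun φ ψ => by
      rw [← (shiftFunctor (Dual.D A) d).map_preimage φ, ← (shiftFunctor (Dual.D A) d).map_preimage ψ]
      exact congrArg _ (Subsingleton.elim _ _)⟩
    exact (Iso.homCongr (Iso.refl _) ((shiftFunctorComm (Dual.D A) i d).app ω)).symm.subsingleton

/-- Morphisms into a double shift. -/
def homShift {X ω : Dual.D A} (d i j : ℤ) (h : d + i = j) : (X ⟶ (ω⟦d⟧)⟦i⟧) ≃ₗ[A] (X ⟶ ω⟦j⟧) :=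
  Linear.homCongr A (Iso.refl X) ((shiftFunctorAdd' (Dual.D A) d i j h).app ω).symm

variable [IsNoetherianRing A] {ω : Dual.D A} (hω : Dual.IsDualizing A ω) (M : Model ω)

/-- The localized dualizing complex. -/
abbrev omegaAt (q : PrimeSpectrum A) : Dual.D (Localization q.asIdeal.primeCompl) :=
  DerivedCategory.Q.obj (locCx q.asIdeal.primeCompl M.W)

include hω in
theorem isDualizing_omegaAt (q : PrimeSpectrum A) :
    Dual.IsDualizing (Localization q.asIdeal.primeCompl) (omegaAt M q) :=
  isDualizing_locCx q.asIdeal.primeCompl hω M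

/-- The degree normalizes the localization. -/
theorem isNormalized_omegaAt (q : PrimeSpectrum A) :
    Dual.IsNormalized (Localization q.asIdeal.primeCompl) ((omegaAt M q)⟦deg hω M q⟧) := fun i hi => by
  let S := q.asIdeal.primeCompl
  haveI : (locCx S M.W).IsKInjective := (locModel M S).kinj
  have hv : Van (locCx S M.W) (Localization S ⧸ IsLocalRing.maximalIdeal (Localization S)) (deg hω M q + i) :=
    (van_residue_iff _).2 ((vanS_iff_classes q.asIdeal _).1 ((vanS_iff_ne_deg hω M q _).2 (by omega)))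
  have : Subsingleton (Dual.inD (Localization S) (IsLocalRing.ResidueField (Localization S)) ⟶
      (omegaAt M q)⟦deg hω M q + i⟧) :=
    (subsingleton_hom_iff_van (locModel M S).e _ _).2 hv
  exact (homShift (deg hω M q) i _ rfl).toEquiv.subsingleton

section Transfer

variable (S : Submonoid A) (N : Type u) [AddCommGroup N] [Module A N] [Module.Finite A N]

/-- The localized module. -/
abbrev NAt : Type u := (ModuleCat.of A N).localizedModule S

instance finite_NAt : Module.Finite (Localization S) (NAt S N) := by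
  have := isLocalizedModule_mkL S (ModuleCat.of A N)
  exact Module.Finite.of_isLocalizedModule S (mkL S (ModuleCat.of A N))

theorem comp_eq_zero_mapL (i j : ℤ) (f : N →ₗ[A] M.W.X i) (hf : (M.W.d i j).hom ∘ₗ f = 0) :
    dL S M.W i j ∘ₗ mapL S (M.W.X i) f = 0 := by
  refine ext_mkL S (M.W.X j) fun x => ?_
  rw [LinearMap.comp_apply, mapL_mkL, dL_mkL]
  exact (congrArg (mkL S (M.W.X j)) (LinearMap.congr_fun hf x)).trans (map_zero _)

theorem kills_hom_loc_iff (j : ℤ) (a : A) :
    (∀ ψ : Dual.inD (Localization S) (NAt S N) ⟶ (DerivedCategory.Q.obj (locCx S M.W))⟦j⟧,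
        algebraMap A (Localization S) a • ψ = 0) ↔
      ∀ φ : Dual.inD A N ⟶ ω⟦j⟧, ∃ s : S, ((s : A) * a) • φ = 0 := by
  let Mq := locModel M S
  constructor
  · intro h φ
    obtain ⟨f, hf, rfl⟩ := cl_surjective M φ
    have h1 := h (cl Mq (N := NAt S N) (mapL S (M.W.X j) f) (comp_eq_zero_mapL M S N j (j + 1) f hf))
    rw [← cl_smul, cl_eq_zero_iff] at h1
    obtain ⟨h', hh'⟩ := h1
    let h'' : (ModuleCat.of A N).localizedModule S →ₗ[Localization S] (M.W.X (j - 1)).localizedModule S := h'
    have hh2 : ∀ y, dL S M.W (j - 1) j (h'' y) = a • mapL S (M.W.X j) f y := fun y =>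
      (LinearMap.congr_fun hh' y).trans (algebraMap_smul_loc S _ a _)
    obtain ⟨g, s, hg⟩ := lift_hom (M.W.X (j - 1)) S N h''
    obtain ⟨t, ht⟩ := kill_hom (M.W.X j) S ((M.W.d (j - 1) j).hom ∘ₗ g - ((s : A) * a) • f) fun x => by
      show mkL S (M.W.X j) (M.W.d (j - 1) j (g x) - ((s : A) * a) • f x) = 0
      rw [map_sub, map_smul, ← dL_mkL, hg, dL_smul, hh2, mapL_mkL, smul_smul, sub_self]
    refine ⟨t * s, ?_⟩
    rw [← cl_smul, cl_eq_zero_iff]
    refine ⟨(t : A) • g, ?_⟩
    rw [smul_sub, sub_eq_zero] at ht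
    rw [LinearMap.comp_smul, ht, smul_smul, Submonoid.coe_mul, mul_assoc]
  · intro h ψ
    obtain ⟨f', hf', rfl⟩ := cl_surjective Mq (N := NAt S N) ψ
    let f'' : (ModuleCat.of A N).localizedModule S →ₗ[Localization S] (M.W.X j).localizedModule S := f'
    have hf2 : ∀ y, dL S M.W j (j + 1) (f'' y) = 0 := fun y => LinearMap.congr_fun hf' y
    obtain ⟨g, s, hg⟩ := lift_hom (M.W.X j) S N f''
    obtain ⟨t, ht⟩ := kill_hom (M.W.X (j + 1)) S ((M.W.d j (j + 1)).hom ∘ₗ g) fun x => by
      show mkL S (M.W.X (j + 1)) (M.W.d j (j + 1) (g x)) = 0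
      rw [← dL_mkL, hg, dL_smul, hf2, smul_zero]
    obtain ⟨r, hr⟩ := h (cl M ((t : A) • g) (by rw [LinearMap.comp_smul]; exact ht))
    rw [← cl_smul, cl_eq_zero_iff] at hr
    obtain ⟨k, hk⟩ := hr
    rw [← cl_smul, cl_eq_zero_iff]
    have hu : IsUnit (algebraMap A (Localization S) ((r : A) * t * s)) :=
      IsLocalization.map_units (Localization S) (r * t * s)
    obtain ⟨u, hu⟩ := hu
    refine ⟨((↑u⁻¹ : Localization S) • mapL S (M.W.X (j - 1)) k :
      (ModuleCat.of A N).localizedModule S →ₗ[Localization S] (M.W.X (j - 1)).localizedModule S), ?_⟩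
    show dL S M.W (j - 1) j ∘ₗ ((↑u⁻¹ : Localization S) • mapL S (M.W.X (j - 1)) k) =
      algebraMap A (Localization S) a • f''
    refine ext_mkL S (M.W.X j) fun x => ?_
    have step : mkL S (M.W.X j) (M.W.d (j - 1) j (k x)) =
        (u : Localization S) • algebraMap A (Localization S) a • f'' (mkL S (ModuleCat.of A N) x) := by
      rw [show M.W.d (j - 1) j (k x) = ((r : A) * a) • (t : A) • g x from LinearMap.congr_fun hk x, map_smul,
        map_smul, hg, hu, algebraMap_smul_loc, algebraMap_smul_loc, smul_smul, smul_smul, smul_smul]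
      exact congrArg (· • f'' (mkL S (ModuleCat.of A N) x)) (by ring)
    rw [LinearMap.comp_apply, LinearMap.smul_apply, LinearMap.smul_apply, map_smul, mapL_mkL, dL_mkL, step,
      smul_smul, Units.inv_mul, one_smul]

end Transfer

end Groth.Agent.Dlz27
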