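import Groth.Agent.Lib.Dlz27.Converse
import Groth.Agent.Lib.Dlz27.Shift
import Groth.Agent.Lib.Dlz27.HKappa

/-!
# Dualizing complexes are recognized locally
-/

set_option autoImplicit false
universe u

open CategoryTheory CategoryTheory.Limits CochainComplex.HomComplex

attribute [local instance] HasDerivedCategory.standard

noncomputable section

namespace Groth.Agent.Dlz27

variable {A : Type u} [CommRing A]

/-- The submonoids cover the spectrum. -/
def Covers {ι : Type*} (S : ι → Submonoid A) : Prop :=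
  ∀ I : Ideal A, (∀ j, ∃ s ∈ S j, s ∈ I) → I = ⊤

theorem covers_maximal : Covers fun m : {m : Ideal A // m.IsMaximal} => (haveI := m.2; m.1.primeCompl) := fun I hI => by
  by_contra h
  obtain ⟨m, hm, hIm⟩ := Ideal.exists_le_maximal I h
  obtain ⟨s, hs, hsI⟩ := hI ⟨m, hm⟩
  exact hs (hIm hsI)

theorem covers_primes : Covers fun p : PrimeSpectrum A => p.asIdeal.primeCompl := fun I hI => by
  by_contra h
  obtain ⟨m, hm, hIm⟩ := Ideal.exists_le_maximal I h
  obtain ⟨s, hs, hsI⟩ := hI ⟨m, hm.isPrime⟩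
  exact hs (hIm hsI)

theorem covers_powers {ι : Type*} (f : ι → A) (hf : Ideal.span (Set.range f) = ⊤) :
    Covers fun j => Submonoid.powers (f j) := fun I hI => by
  refine Ideal.radical_eq_top.1 (top_le_iff.1 (hf ▸ Ideal.span_le.2 ?_))
  rintro _ ⟨j, rfl⟩
  obtain ⟨_, ⟨n, rfl⟩, hn⟩ := hI j
  exact ⟨n, hn⟩

/-- Vanishing is local. -/
theorem van_of_vanS_cover {W : DRing.Cx A} {ι : Type*} {S : ι → Submonoid A} (hS : Covers S) (N : Type u)
    [AddCommGroup N] [Module A N] (i : ℤ) (h : ∀ j, VanS W (S j) N i) : Van W N i := fun f hf => by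
  let I : Ideal A := (LinearMap.range (LinearMap.compRight A (M := N) (W.d (i - 1) i).hom)).comap
    (LinearMap.toSpanSingleton A _ f)
  have hI : I = ⊤ := hS I fun j => by
    obtain ⟨s, g, hg⟩ := h j f hf
    exact ⟨s, s.2, g, hg⟩
  obtain ⟨g, hg⟩ : (1 : A) ∈ I := hI ▸ Submodule.mem_top
  exact ⟨g, hg.trans (one_smul A f)⟩

variable [IsNoetherianRing A]

/-- Vanishing over a localization. -/
theorem vanS_of_van_loc (S : Submonoid A) (W : DRing.Cx A) (N : Type u) [AddCommGroup N] [Module A N]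
    [Module.Finite A N] (i : ℤ) (h : Van (locCx S W) (NAt S N) i) : VanS W S N i := fun f hf => by
  obtain ⟨g', hg'⟩ := h (mapL S (W.X i) f) (ext_mkL S (W.X (i + 1)) fun x => by
    show dL S W i (i + 1) (mapL S (W.X i) f (mkL S (ModuleCat.of A N) x)) = 0
    rw [mapL_mkL, dL_mkL, show W.d i (i + 1) (f x) = 0 from LinearMap.congr_fun hf x, map_zero])
  let g'' : (ModuleCat.of A N).localizedModule S →ₗ[Localization S] (W.X (i - 1)).localizedModule S := g'
  have hg2 : ∀ y, dL S W (i - 1) i (g'' y) = mapL S (W.X i) f y := fun y => LinearMap.congr_fun hg' y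
  obtain ⟨g, s, hg⟩ := lift_hom (W.X (i - 1)) S N g''
  obtain ⟨t, ht⟩ := kill_hom (W.X i) S ((W.d (i - 1) i).hom ∘ₗ g - (s : A) • f) fun x => by
    show mkL S (W.X i) (W.d (i - 1) i (g x) - (s : A) • f x) = 0
    rw [map_sub, map_smul, ← dL_mkL, hg, dL_smul, hg2, mapL_mkL, sub_self]
  refine ⟨t * s, (t : A) • g, ?_⟩
  rw [smul_sub, sub_eq_zero] at ht
  rw [LinearMap.comp_smul, ht, smul_smul, Submonoid.coe_mul]

/-- Localized complexes of isomorphic objects. -/
theorem exists_locCx_congr (S : Submonoid A) {W W' : DRing.Cx A}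
    (e : DerivedCategory.Q.obj W ≅ DerivedCategory.Q.obj W') :
    Nonempty (DerivedCategory.Q.obj (locCx S W) ≅ DerivedCategory.Q.obj (locCx S W')) :=
  ⟨((locF S).mapDerivedCategoryFactors.app W).symm ≪≫ (locF S).mapDerivedCategory.mapIso e ≪≫
    (locF S).mapDerivedCategoryFactors.app W'⟩

/-- Being dualizing is local. -/
theorem isDualizing_of_cover {R : Dual.D A} (hfin : ∀ i : ℤ, Module.Finite A (Dual.HD A R i)) (M : Model R)
    {ι : Type*} {S : ι → Submonoid A} (hS : Covers S)
    (h : ∀ j, Dual.IsDualizing (Localization (S j)) (DerivedCategory.Q.obj (locCx (S j) M.W))) :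
    Dual.IsDualizing A R := by
  haveI : (DerivedCategory.Q.obj M.W).IsLE M.hi := inferInstance
  obtain ⟨P, hPle, hP, ⟨eP⟩⟩ := exists_res_finiteFree (DerivedCategory.Q.obj M.W) M.hi fun i => by
    haveI := hfin i
    exact Module.Finite.equiv ((DerivedCategory.homologyFunctor (ModuleCat.{u} A) i).mapIso M.e).toLinearEquiv.symm
  obtain ⟨q, hq⟩ := KInjLib.exists_map_eq eP.hom
  haveI hqi : IsIso (DerivedCategory.Q.map q) := by rw [hq]; infer_instance
  let Lq : ∀ j, locCx (S j) P ⟶ locCx (S j) M.W := fun j => ((locF (S j)).mapHomologicalComplex (ComplexShape.up ℤ)).map q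
  haveI hLq : ∀ j, IsIso (DerivedCategory.Q.map (Lq j)) := fun j => by
    haveI := (DerivedCategory.isIso_Q_map_iff_quasiIso _ q).1 hqi
    exact (DerivedCategory.isIso_Q_map_iff_quasiIso _ _).2 inferInstance
  haveI hK : ∀ j, (locCx (S j) M.W).IsKInjective := fun j => (locModel M (S j)).kinj
  -- cocycles which are locally coboundaries are coboundaries
  have hlocal : ∀ (n : ℤ) (z : Cochain P M.W n),
      (∀ j, ∃ w : Cochain (locCx (S j) P) (locCx (S j) M.W) (n - 1), δ (n - 1) n w = z.map (locF (S j))) →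
      ∃ w : Cochain P M.W (n - 1), δ (n - 1) n w = z := by
    intro n z hz
    let I : Ideal A := (LinearMap.range (δ_hom A P M.W (n - 1) n)).comap (LinearMap.toSpanSingleton A _ z)
    have hI : I = ⊤ := hS I fun j => by
      obtain ⟨w, hw⟩ := hz j
      obtain ⟨s, c, hc⟩ := exists_lift_cochain (S j) M.lo M.hi hP w
      have h0 : (δ (n - 1) n c - (s : A) • z).map (locF (S j)) = 0 := by
        rw [Cochain.map_sub, ← δ_map, ← hc, δ_smul, hw, map_smul_cochain, sub_self]
      obtain ⟨t, ht⟩ := exists_kill_cochain (S j) M.lo M.hi hP _ h0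
      refine ⟨t * s, (t * s).2, (t : A) • c, ?_⟩
      rw [smul_sub, sub_eq_zero] at ht
      show δ_hom A P M.W (n - 1) n ((t : A) • c) = ((t : A) * (s : A)) • z
      rw [map_smul, δ_hom_apply, ht, mul_smul]
    obtain ⟨w, hw⟩ : (1 : A) ∈ I := hI ▸ Submodule.mem_top
    exact ⟨w, hw.trans (one_smul A z)⟩
  let eW : DerivedCategory.Q.obj P ≅ R := asIso (DerivedCategory.Q.map q) ≪≫ M.e
  refine ⟨inferInstance, ⟨M.lo, M.hi, fun N _ _ i hi => ?_⟩, hfin, ⟨fun c c' hcc => ?_, fun φ => ?_⟩, fun n hn => ?_⟩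
  · refine (subsingleton_hom_iff_van M.e N i).2 fun f _ => ⟨0, ?_⟩
    haveI : Subsingleton (M.W.X i) := ModuleCat.subsingleton_of_isZero (by
      rcases hi with hi | hi
      · exact M.W.isZero_of_isStrictlyGE M.lo i hi
      · exact M.W.isZero_of_isStrictlyLE M.hi i hi)
    exact Subsingleton.elim _ _
  · refine sub_eq_zero.1 ?_
    have h0 : DerivedCategory.Q.map ((c - c') • q) = DerivedCategory.Q.map 0 := by
      rw [Functor.map_zero, Functor.map_smul, ← cancel_epi eW.inv, ← cancel_mono M.e.hom, comp_zero, zero_comp]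
      simp only [eW, Iso.trans_inv, asIso_inv, Category.assoc, Linear.comp_smul, Linear.smul_comp,
        IsIso.inv_hom_id_assoc, Iso.inv_hom_id]
      rw [sub_smul, sub_eq_zero]; exact hcc
    obtain ⟨H⟩ := (KInjLib.map_eq_iff _ _).1 h0
    obtain ⟨w, hw⟩ := Cochain.equivHomotopy _ _ H
    rw [Cochain.ofHom_zero, add_zero] at hw
    have hw' : (c - c') • Cochain.ofHom q = δ (-1) 0 w := by
      rw [← hw]; ext p; simp
    let J : Ideal A := LinearMap.ker (LinearMap.toSpanSingleton A A (c - c'))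
    have hJ : J = ⊤ := hS J fun j => by
      have h1 : algebraMap A (Localization (S j)) (c - c') • Cochain.ofHom (Lq j) = δ (-1) 0 (w.map (locF (S j))) := by
        rw [δ_map, ← hw', map_smul_cochain, Cochain.map_ofHom]
      have h2 := scalar_eq_zero (h j) (Lq j) (Iso.refl _) h1
      obtain ⟨s, hs⟩ := (IsLocalization.map_eq_zero_iff (S j) (Localization (S j)) (c - c')).1 h2
      exact ⟨s, s.2, hs⟩
    have h1 : (1 : A) * (c - c') = 0 := LinearMap.mem_ker.1 (hJ ▸ Submodule.mem_top : (1 : A) ∈ J)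
    rwa [one_mul] at h1
  · obtain ⟨g, hg⟩ := KInjLib.exists_map_eq (eW.hom ≫ φ ≫ M.e.inv)
    let I : Ideal A :=
      (Submodule.span A {Cochain.ofHom q} ⊔ LinearMap.range (δ_hom A P M.W (-1) 0)).comap
        (LinearMap.toSpanSingleton A _ (Cochain.ofHom g))
    have hI : I = ⊤ := hS I fun j => by
      obtain ⟨a, w, hw⟩ := exists_scalar (h j) (Lq j) (Iso.refl _) ((Cochain.ofHom g).map (locF (S j)))
        (by rw [δ_map, δ_ofHom, Cochain.map_zero])
      obtain ⟨⟨a₀, s₀⟩, ha⟩ := IsLocalization.surj (S j) a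
      obtain ⟨s, c, hc⟩ := exists_lift_cochain (S j) M.lo M.hi hP w
      let T : A := (s : A) * s₀
      have h0 : (T • Cochain.ofHom g - (((s : A) * a₀) • Cochain.ofHom q + (s₀ : A) • δ (-1) 0 c)).map (locF (S j)) = 0 := by
        rw [Cochain.map_sub, Cochain.map_add, map_smul_cochain, map_smul_cochain, map_smul_cochain, ← δ_map, ← hc, hw,
          δ_smul, Cochain.map_ofHom, smul_add, smul_smul, smul_smul, map_mul, map_mul, mul_assoc,
          mul_comm (algebraMap A (Localization (S j)) (s₀ : A)) a, ha,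
          mul_comm (algebraMap A (Localization (S j)) (s₀ : A)) (algebraMap A (Localization (S j)) (s : A)), sub_self]
      obtain ⟨t, ht⟩ := exists_kill_cochain (S j) M.lo M.hi hP _ h0
      refine ⟨(t * (s * s₀) : S j), (t * (s * s₀)).2, ?_⟩
      rw [smul_sub, sub_eq_zero] at ht
      show ((t : A) * ((s : A) * s₀)) • Cochain.ofHom g ∈
        Submodule.span A {Cochain.ofHom q} ⊔ LinearMap.range (δ_hom A P M.W (-1) 0)
      rw [mul_smul, ht, smul_add, smul_smul, smul_smul]
      exact Submodule.add_mem_sup (Submodule.smul_mem _ _ (Submodule.mem_span_singleton_self _))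
        (Submodule.smul_mem _ _ ⟨c, rfl⟩)
    have h1 : Cochain.ofHom g ∈ Submodule.span A {Cochain.ofHom q} ⊔ LinearMap.range (δ_hom A P M.W (-1) 0) := by
      have : (1 : A) ∈ I := hI ▸ Submodule.mem_top
      simpa [I] using this
    obtain ⟨y, hy, z, ⟨w, rfl⟩, hyz⟩ := Submodule.mem_sup.1 h1
    obtain ⟨c, rfl⟩ := Submodule.mem_span_singleton.1 hy
    refine ⟨c, ?_⟩
    show c • 𝟙 R = φ
    have h2 : DerivedCategory.Q.map g = DerivedCategory.Q.map (c • q) := (KInjLib.map_eq_iff _ _).2
      ⟨(Cochain.equivHomotopy g (c • q)).symm ⟨w, by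
        rw [show Cochain.ofHom (c • q) = c • Cochain.ofHom q by ext p; simp, ← hyz, add_comm]; rfl⟩⟩
    rw [Functor.map_smul, hg] at h2
    rw [← cancel_epi eW.hom, ← cancel_mono M.e.inv, Category.assoc, Category.assoc, h2]
    simp [eW]
  · refine subsingleton_of_forall_eq 0 fun φ => ?_
    obtain ⟨z, hz⟩ := hcl_surjective (eW.hom ≫ φ ≫ (shiftFunctor (Dual.D A) n).map M.e.inv)
    obtain ⟨w, hw⟩ := hlocal n z.1 fun j => coboundary_of_subsingleton (asIso (DerivedCategory.Q.map (Lq j))) (Iso.refl _)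
      ((h j).ext_self_subsingleton n hn) _ (by rw [δ_map, Cocycle.δ_eq_zero, Cochain.map_zero])
    rw [(hcl_eq_zero_iff z).2 ⟨w, hw⟩] at hz
    rw [← cancel_epi eW.hom, ← cancel_mono ((shiftFunctor (Dual.D A) n).mapIso M.e.symm).hom, comp_zero, zero_comp,
      Category.assoc]
    exact hz.symm

/-- Finite injective dimension from finitely many localizations. -/
theorem van_all_of_cover (W : DRing.Cx A) (hW : ∀ i, Injective (W.X i)) {ι : Type*} {S : ι → Submonoid A}
    (hS : Covers S) (d : ℤ) (h : ∀ j (N : Type u) [AddCommGroup N] [Module (Localization (S j)) N] (i : ℤ),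
      d < i → Van (locCx (S j) W) N i)
    (N : Type u) [AddCommGroup N] [Module A N] (i : ℤ) (hi : d < i) : Van W N i :=
  van_of_cyclic W hW d (fun J l hl => van_of_vanS_cover hS _ l fun j => vanS_of_van_loc (S j) W (A ⧸ J) l (h j _ l hl))
    N i hi

/-- A residual degree at every prime. -/
def CoDeg (W : DRing.Cx A) : Prop :=
  ∀ p : PrimeSpectrum A, ∃ n : ℤ, ∀ i, VanS W p.asIdeal.primeCompl (A ⧸ p.asIdeal) i ↔ i ≠ n

theorem coDeg_of_local (W : DRing.Cx A) (hW : ∀ i, Injective (W.X i)) (lo : ℤ) [W.IsStrictlyGE lo]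
    (h : ∀ p : PrimeSpectrum A,
      Dual.IsDualizing (Localization p.asIdeal.primeCompl) (DerivedCategory.Q.obj (locCx p.asIdeal.primeCompl W))) :
    CoDeg W := fun p => by
  haveI : IsNoetherianRing (Localization p.asIdeal.primeCompl) :=
    IsLocalization.isNoetherianRing p.asIdeal.primeCompl _ inferInstance
  haveI : ∀ i, Injective ((locCx p.asIdeal.primeCompl W).X i) := fun i => injective_locF _ (hW i)
  haveI : (locCx p.asIdeal.primeCompl W).IsKInjective := CochainComplex.isKInjective_of_injective _ lo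
  obtain ⟨n, hvan, ⟨e⟩⟩ := ext_residue (h p) (IsLocalRing.maximalIdeal (Localization p.asIdeal.primeCompl))
  refine ⟨n, fun i => ?_⟩
  rw [vanS_iff_classes p.asIdeal i, ← van_residue_iff, ← subsingleton_hom_iff_van (Iso.refl _)]
  refine ⟨fun hs hi => ?_, fun hi => hvan i hi⟩
  subst hi
  haveI := hs
  haveI : Subsingleton (Localization p.asIdeal.primeCompl ⧸ IsLocalRing.maximalIdeal (Localization p.asIdeal.primeCompl)) :=
    e.symm.toEquiv.subsingleton
  exact (IsLocalRing.maximalIdeal.isMaximal _).ne_top (Ideal.Quotient.subsingleton_iff.1 ‹_›)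

/-- Residual degrees bound the injective dimension. -/
theorem exists_bound_of_coDeg (W : DRing.Cx A) (hW : ∀ i, Injective (W.X i)) (lo : ℤ) [W.IsStrictlyGE lo]
    (hH : ∀ i, Module.Finite A (W.homology i)) (hco : CoDeg W) (hdim : ringKrullDim A < ⊤) :
    ∃ B : ℤ, ∀ (N : Type u) [AddCommGroup N] [Module A N] (i : ℤ), B < i → Van W N i := by
  choose n hn using hco
  have hstep : ∀ p q : PrimeSpectrum A, p ⋖ q → n q = n p + 1 := by
    intro p q h
    obtain ⟨x, hxq, hxp⟩ := SetLike.exists_of_lt (show p.asIdeal < q.asIdeal from h.lt)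
    have hvan : ∀ i, i ≠ n q → VanS W q.asIdeal.primeCompl (A ⧸ (p.asIdeal ⊔ Ideal.span {x})) i := fun i hi => by
      refine vanS_of_support hW _ i _ fun r hr => ?_
      have hr' := mem_support_quotient hr
      by_cases hrq : r.asIdeal ≤ q.asIdeal
      · have hpr : p < r := lt_of_le_of_ne (le_sup_left.trans hr') fun e => hxp
          (e ▸ hr' (Submodule.mem_sup_right (Ideal.mem_span_singleton_self x)))
        obtain rfl : r = q := (eq_or_lt_of_le (show r ≤ q from hrq)).resolve_right (h.2 hpr)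
        exact (hn r i).2 hi
      · exact vanS_quotient_of_not_le r q.asIdeal hrq i
    by_contra hne
    refine (hn p (n p)).1 ?_ rfl
    refine (vanS_of_surjective (finV hW lo hH _ _) q.asIdeal hxq fun f hf =>
      exists_surj_of_vanS W hW p.asIdeal x hxp q.asIdeal _ (hvan _ (fun e => hne e.symm)) f hf).mono
      fun a ha hap => ha (h.lt.le hap)
  have hfin : ((fun p : PrimeSpectrum A => n p) '' {p | p.asIdeal ∈ minimalPrimes A}).Finite := by
    refine Set.Finite.image _ (Set.Finite.of_finite_image ?_ (fun p _ q _ e => PrimeSpectrum.ext e))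
    exact (minimalPrimes.finite_of_isNoetherianRing A).subset (by rintro _ ⟨p, hp, rfl⟩; exact hp)
  obtain ⟨N₀, hN₀⟩ := hfin.bddAbove
  have hbound : ∀ (k : ℕ) (q : PrimeSpectrum A), Order.height q ≤ k → n q ≤ N₀ + k := by
    intro k
    induction k with
    | zero =>
      intro q hq
      have hmin : IsMin q := Order.height_eq_zero.1 (le_antisymm (by simpa using hq) bot_le)
      have : q.asIdeal ∈ minimalPrimes A := by
        obtain ⟨p, hp, hpq⟩ := Ideal.exists_minimalPrimes_le (I := (⊥ : Ideal A)) (J := q.asIdeal) bot_le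
        have hp' : (⟨p, hp.1.1⟩ : PrimeSpectrum A) = q := le_antisymm hpq (hmin hpq)
        rw [← hp']; exact hp
      simpa using hN₀ ⟨q, this, rfl⟩
    | succ k ih =>
      intro q hq
      by_cases hmin : IsMin q
      · have h0 : Order.height q = 0 := Order.height_eq_zero.2 hmin
        exact (ih q (by rw [h0]; exact bot_le)).trans (by push_cast; omega)
      obtain ⟨r, hrq⟩ := not_isMin_iff.1 hmin
      obtain ⟨p, ⟨hrp, hpq⟩, hmax⟩ := WellFounded.has_min (wellFounded_gt (α := PrimeSpectrum A))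
        {p | r ≤ p ∧ p < q} ⟨r, le_rfl, hrq⟩
      have hcov : p ⋖ q := ⟨hpq, fun c hpc hcq => hmax c ⟨hrp.trans hpc.le, hcq⟩ hpc⟩
      have hp : Order.height p ≤ k := by
        have h1 : Order.height p + 1 ≤ Order.height q := Order.height_add_one_le hpq
        have h2 := h1.trans hq
        rw [Nat.cast_succ] at h2
        exact (ENat.add_le_add_iff_right ENat.one_ne_top).1 h2
      have := ih p hp
      rw [hstep p q hcov]
      push_cast; omega
  obtain ⟨D, hD⟩ : ∃ D : ℕ, ∀ q : PrimeSpectrum A, Order.height q ≤ D := by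
    rcases isEmpty_or_nonempty (PrimeSpectrum A) with h | h
    · exact ⟨0, fun q => (h.false q).elim⟩
    have h1 : ringKrullDim A = ⨆ q : PrimeSpectrum A, (Order.height q : WithBot ℕ∞) := Order.krullDim_eq_iSup_height
    obtain ⟨D, hD⟩ : ∃ D : ℕ, ringKrullDim A ≤ D := by
      revert hdim
      cases h' : ringKrullDim A with
      | bot => exact fun _ => ⟨0, bot_le⟩
      | coe m =>
        intro hdim
        cases m with
        | top => exact absurd hdim (lt_irrefl _)
        | coe D => exact ⟨D, le_rfl⟩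
    refine ⟨D, fun q => ?_⟩
    have h2 : (Order.height q : WithBot ℕ∞) ≤ D := (le_iSup (fun q : PrimeSpectrum A => (Order.height q : WithBot ℕ∞)) q).trans
      (h1.symm.le.trans hD)
    exact_mod_cast h2
  refine ⟨N₀ + D, fun N _ _ i hi => van_of_cyclic W hW (N₀ + D) (fun J l hl => ?_) N i hi⟩
  refine van_of_vanS_cover covers_maximal _ l fun m => ?_
  obtain ⟨m, hm⟩ := m
  let mp : PrimeSpectrum A := ⟨m, hm.isPrime⟩
  have key : ∀ r : PrimeSpectrum A, r ≤ mp → ∀ i, N₀ + D < i → VanS W mp.asIdeal.primeCompl (A ⧸ r.asIdeal) i := by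
    intro r
    induction r using WellFoundedGT.induction with
    | ind r ih =>
      intro hrm i hi
      by_cases hr : r = mp
      · subst hr
        exact (hn mp i).2 (by have := hbound D mp (hD mp); omega)
      obtain ⟨x, hxm, hxr⟩ := SetLike.exists_of_lt (show r.asIdeal < mp.asIdeal from lt_of_le_of_ne hrm fun e => hr (PrimeSpectrum.ext e))
      refine vanS_of_surjective (finV hW lo hH _ _) mp.asIdeal hxm fun f hf =>
        exists_surj_of_vanS W hW r.asIdeal x hxr mp.asIdeal i (vanS_of_support hW _ _ _ fun s hs => ?_) f hf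
      have hs' := mem_support_quotient hs
      by_cases hsm : s.asIdeal ≤ mp.asIdeal
      · exact ih s (lt_of_le_of_ne (le_sup_left.trans hs') fun e => hxr
          (e ▸ hs' (Submodule.mem_sup_right (Ideal.mem_span_singleton_self x)))) hsm (i + 1) (by omega)
      · exact vanS_quotient_of_not_le s mp.asIdeal hsm (i + 1)
  exact vanS_of_support hW _ _ _ fun r _ => by
    by_cases hrm : r.asIdeal ≤ mp.asIdeal
    · exact key r hrm l hl
    · exact vanS_quotient_of_not_le r mp.asIdeal hrm l

end Groth.Agent.Dlz27
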