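import Groth.Agent.Lib.Dlz27.Unique
import Groth.Agent.Lib.Dlz27.GlueApps

/-!
# The Gorenstein locus
-/

set_option autoImplicit false
universe u

open CategoryTheory CategoryTheory.Limits

attribute [local instance] HasDerivedCategory.standard

noncomputable section

namespace Groth.Agent.Dlz27

variable {A : Type u} [CommRing A] [IsNoetherianRing A]

theorem exists_killer (p : PrimeSpectrum A) (N : Type u) [AddCommGroup N] [Module A N] [Module.Finite A N]
    (h : ∀ x : N, ∃ s ∉ p.asIdeal, s • x = 0) : ∃ s ∉ p.asIdeal, ∀ x : N, s • x = 0 := by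
  classical
  obtain ⟨t, ht⟩ := (Module.Finite.fg_top : (⊤ : Submodule A N).FG)
  choose s hs hx using h
  refine ⟨∏ y ∈ t, s y, fun hp => ?_, fun x => ?_⟩
  · obtain ⟨y, -, hy⟩ := p.isPrime.prod_mem_iff.1 hp
    exact hs y hy
  · induction (ht ▸ Submodule.mem_top : x ∈ Submodule.span A (t : Set N)) using Submodule.span_induction with
    | mem y hy => obtain ⟨d, hd⟩ := Finset.dvd_prod_of_mem s hy; rw [hd, mul_comm, mul_smul, hx, smul_zero]
    | zero => exact smul_zero _
    | add a b _ _ ha hb => rw [smul_add, ha, hb, add_zero]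
    | smul a y _ hy => rw [smul_comm, hy, smul_zero]

/-- The pointwise criterion: locally only one cohomology module, which is free of rank one. -/
def OneFree (W : DRing.Cx A) (q : PrimeSpectrum A) : Prop :=
  ∃ (j₀ : ℤ) (x : W.homology j₀), (∀ j ≠ j₀, ∀ y : W.homology j, ∃ s ∉ q.asIdeal, s • y = 0) ∧
    (∀ a : A, a • x = 0 → ∃ s ∉ q.asIdeal, s * a = 0) ∧
    ∀ y : W.homology j₀, ∃ s ∉ q.asIdeal, ∃ a : A, s • y = a • x

theorem isOpen_oneFree (W : DRing.Cx A) (lo hi : ℤ) [W.IsStrictlyGE lo] [W.IsStrictlyLE hi]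
    (hfin : ∀ i, Module.Finite A (W.homology i)) : IsOpen {q | OneFree W q} := by
  classical
  refine isOpen_iff_forall_mem_open.2 fun p hp => ?_
  obtain ⟨j₀, x, hj, hinj, hsur⟩ := hp
  have hk : ∀ j, ∃ s ∉ p.asIdeal, j ≠ j₀ → ∀ y : W.homology j, s • y = 0 := fun j => by
    by_cases h : j = j₀
    · exact ⟨1, p.asIdeal.one_notMem, fun h' => absurd h h'⟩
    · haveI := hfin j
      obtain ⟨s, hs, hs'⟩ := exists_killer p (W.homology j) (hj j h)
      exact ⟨s, hs, fun _ => hs'⟩
  choose s hs hs' using hk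
  let K := LinearMap.ker (LinearMap.toSpanSingleton A (W.homology j₀) x)
  obtain ⟨t, ht, ht'⟩ := exists_killer p K fun a => by
    obtain ⟨c, hc, hc'⟩ := hinj a (LinearMap.mem_ker.1 a.2)
    exact ⟨c, hc, Subtype.ext hc'⟩
  haveI := hfin j₀
  obtain ⟨v, hv, hv'⟩ := exists_killer p (W.homology j₀ ⧸ Submodule.span A {x}) fun y => by
    obtain ⟨y, rfl⟩ := Submodule.Quotient.mk_surjective _ y
    obtain ⟨c, hc, a, ha⟩ := hsur y
    refine ⟨c, hc, ?_⟩
    rw [← Submodule.Quotient.mk_smul, Submodule.Quotient.mk_eq_zero, ha]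
    exact Submodule.smul_mem _ a (Submodule.mem_span_singleton_self x)
  let f := t * v * ∏ j ∈ Finset.Icc lo hi, s j
  refine ⟨PrimeSpectrum.basicOpen f, fun q hq => ?_, (PrimeSpectrum.basicOpen f).isOpen, ?_⟩
  · have hf : f ∉ q.asIdeal := hq
    refine ⟨j₀, x, fun j hjne y => ?_, fun a ha => ⟨f, hf, ?_⟩, fun y => ⟨f, hf, ?_⟩⟩
    · by_cases hmem : j ∈ Finset.Icc lo hi
      · obtain ⟨d, hd⟩ : s j ∣ f := Dvd.dvd.mul_left (Finset.dvd_prod_of_mem s hmem) _
        exact ⟨f, hf, by rw [hd, mul_comm, mul_smul, hs' j hjne, smul_zero]⟩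
      · haveI : Subsingleton (W.homology j) := by
          have hX : IsZero (W.X j) := by
            rw [Finset.mem_Icc, not_and_or, not_le, not_le] at hmem
            exact hmem.elim (fun h => W.isZero_of_isStrictlyGE lo j h) (fun h => W.isZero_of_isStrictlyLE hi j h)
          exact ModuleCat.subsingleton_of_isZero ((W.sc j).exact_iff_isZero_homology.1 ((W.sc j).exact_of_isZero_X₂ hX))
        exact ⟨f, hf, Subsingleton.elim _ _⟩
    · have := congrArg Subtype.val (ht' ⟨a, LinearMap.mem_ker.2 ha⟩)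
      rw [SetLike.val_smul, smul_eq_mul, ZeroMemClass.coe_zero] at this
      show t * v * (∏ j ∈ Finset.Icc lo hi, s j) * a = 0
      calc _ = v * (∏ j ∈ Finset.Icc lo hi, s j) * (t * a) := by ring
        _ = 0 := by rw [this, mul_zero]
    · have h1 := hv' (Submodule.Quotient.mk y)
      rw [← Submodule.Quotient.mk_smul, Submodule.Quotient.mk_eq_zero, Submodule.mem_span_singleton] at h1
      obtain ⟨a, ha⟩ := h1
      refine ⟨t * (∏ j ∈ Finset.Icc lo hi, s j) * a, ?_⟩
      rw [mul_smul _ a, ha, ← mul_smul]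
      congr 1
      show t * v * _ = _
      ring
  · intro hf
    rcases p.isPrime.mem_or_mem hf with h | h
    · exact (p.isPrime.mem_or_mem h).elim ht hv
    · obtain ⟨j, -, hj'⟩ := p.isPrime.prod_mem_iff.1 h
      exact hs j hj'

/-- Homology of a localized complex. -/
def homLocEquiv (S : Submonoid A) (W : DRing.Cx A) (i : ℤ) :
    (W.homology i).localizedModule S ≃ₗ[Localization S] Dual.HD (Localization S) (DerivedCategory.Q.obj (locCx S W)) i :=
  ((W.sc i).mapHomologyIso (locF S)).symm.toLinearEquiv ≪≫ₗ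
    ((DerivedCategory.homologyFunctorFactors _ i).app (locCx S W)).toLinearEquiv.symm

theorem oneFree_iff_exists_iso (W : DRing.Cx A) (q : PrimeSpectrum A) :
    OneFree W q ↔ ∃ n : ℤ, Nonempty (DerivedCategory.Q.obj (locCx q.asIdeal.primeCompl W) ≅
      (Dual.inD (Localization q.asIdeal.primeCompl) (Localization q.asIdeal.primeCompl))⟦n⟧) := by
  let S := q.asIdeal.primeCompl
  let L := Localization S
  let g : ∀ i, W.homology i →ₗ[A] (W.homology i).localizedModule S := fun i => (W.homology i).localizedModuleMkLinearMap S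
  have hgs : ∀ i (s : A) (y : W.homology i), g i (s • y) = algebraMap A L s • g i y := fun i s y =>
    (map_smul (g i) s y).trans (algebraMap_smul L s (g i y)).symm
  constructor
  · rintro ⟨j₀, x, hj, hinj, hsur⟩
    let φ : L →ₗ[L] (W.homology j₀).localizedModule S := LinearMap.toSpanSingleton L _ (g j₀ x)
    have hφ : Function.Bijective φ := by
      refine ⟨(injective_iff_map_eq_zero φ).2 fun b hb => ?_, fun y => ?_⟩
      · obtain ⟨⟨a, u⟩, hau⟩ := IsLocalization.surj S b
        have h0 : g j₀ (a • x) = 0 := by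
          rw [hgs, ← hau, mul_comm, mul_smul]
          exact (congrArg (algebraMap A L u • ·) (show b • g j₀ x = 0 from hb)).trans (smul_zero _)
        obtain ⟨c, hc⟩ := (IsLocalizedModule.eq_zero_iff S (g j₀)).1 h0
        rw [Submonoid.smul_def, smul_smul] at hc
        obtain ⟨d, hd, hd'⟩ := hinj _ hc
        refine ((IsLocalization.map_units L u).mul_left_eq_zero).1 ?_
        rw [hau, IsLocalization.map_eq_zero_iff S]
        exact ⟨⟨d * c, S.mul_mem hd c.2⟩, by rw [← hd']; exact mul_assoc d _ a⟩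
      · obtain ⟨⟨y, u⟩, hu⟩ := IsLocalizedModule.surj S (g j₀) y
        obtain ⟨c, hc, a, ha⟩ := hsur y
        refine ⟨IsLocalization.mk' L a (⟨c, hc⟩ * u : S), ?_⟩
        have hcu : IsUnit (algebraMap A L (c * (u : A))) := IsLocalization.map_units L (⟨c, hc⟩ * u : S)
        refine hcu.smul_left_cancel.1 ?_
        show algebraMap A L (c * (u : A)) • (IsLocalization.mk' L a (⟨c, hc⟩ * u : S) • g j₀ x) = _
        rw [smul_smul, mul_comm, ← Submonoid.coe_mul S ⟨c, hc⟩ u, IsLocalization.mk'_spec, ← hgs, ← ha, hgs,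
          show g j₀ y = _ from hu.symm, Submonoid.coe_mul, map_mul, mul_smul, Submonoid.smul_def]
        exact congrArg (algebraMap A L c • ·) (algebraMap_smul L (u : A) _).symm
    have hz : ∀ i, i ≠ j₀ → IsZero ((DerivedCategory.homologyFunctor (ModuleCat.{u} L) i).obj
        (DerivedCategory.Q.obj (locCx S W))) := fun i hi => by
      haveI : Subsingleton ((W.homology i).localizedModule S) := subsingleton_of_forall_eq 0 fun y => by
        obtain ⟨⟨y', u⟩, hu⟩ := IsLocalizedModule.surj S (g i) y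
        obtain ⟨c, hc, hc'⟩ := hj i hi y'
        have h0 : g i y' = 0 := (IsLocalizedModule.eq_zero_iff S (g i)).2 ⟨⟨c, hc⟩, hc'⟩
        exact IsLocalizedModule.smul_injective (g i) u (hu.trans (h0.trans (smul_zero u).symm))
      exact @ModuleCat.isZero_of_subsingleton _ _ _ ((homLocEquiv S W i).symm.toEquiv.subsingleton)
    haveI : (DerivedCategory.Q.obj (locCx S W)).IsGE j₀ :=
      (DerivedCategory.isGE_iff _ _).2 fun i hi => hz i (by omega)
    haveI : (DerivedCategory.Q.obj (locCx S W)).IsLE j₀ :=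
      (DerivedCategory.isLE_iff _ _).2 fun i hi => hz i (by omega)
    obtain ⟨Y, ⟨e⟩⟩ := DerivedCategory.exists_iso_singleFunctor_obj_of_isGE_of_isLE
      (DerivedCategory.Q.obj (locCx S W)) j₀
    let eY : Y ≅ ModuleCat.of L L :=
      ((DerivedCategory.singleFunctorCompHomologyFunctorIso (ModuleCat.{u} L) j₀).app Y).symm ≪≫
        (DerivedCategory.homologyFunctor (ModuleCat.{u} L) j₀).mapIso e.symm ≪≫
        ((LinearEquiv.ofBijective φ hφ ≪≫ₗ homLocEquiv S W j₀).toModuleIso (X₁ := L)).symm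
    exact ⟨-j₀, ⟨e ≪≫ (DerivedCategory.singleFunctor _ j₀).mapIso eY ≪≫
      (((DerivedCategory.singleFunctors (ModuleCat.{u} L)).shiftIso (-j₀) j₀ 0 (by omega)).app (ModuleCat.of L L)).symm⟩⟩
  · rintro ⟨n, ⟨e⟩⟩
    let e' : DerivedCategory.Q.obj (locCx S W) ≅ (DerivedCategory.singleFunctor _ (-n)).obj (ModuleCat.of L L) :=
      e ≪≫ ((DerivedCategory.singleFunctors (ModuleCat.{u} L)).shiftIso n (-n) 0 (by omega)).app (ModuleCat.of L L)
    let ι : L ≃ₗ[L] (W.homology (-n)).localizedModule S :=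
      ((DerivedCategory.singleFunctorCompHomologyFunctorIso (ModuleCat.{u} L) (-n)).app (ModuleCat.of L L)).symm.toLinearEquiv ≪≫ₗ
        ((DerivedCategory.homologyFunctor (ModuleCat.{u} L) (-n)).mapIso e'.symm).toLinearEquiv ≪≫ₗ
        (homLocEquiv S W (-n)).symm
    obtain ⟨⟨x, s⟩, hx⟩ := IsLocalizedModule.surj S (g (-n)) (ι 1)
    have hgx : g (-n) x = ι (algebraMap A L s) := by
      have h : (s : A) • ι 1 = g (-n) x := hx
      rw [← h, ← algebraMap_smul L (s : A) (ι 1), ← map_smul, smul_eq_mul, mul_one]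
    refine ⟨-n, x, fun j hjn y => ?_, fun a ha => ?_, fun y => ?_⟩
    · haveI : Subsingleton (Dual.HD L (DerivedCategory.Q.obj (locCx S W)) j) := by
        refine ModuleCat.subsingleton_of_isZero (IsZero.of_iso ?_
          ((DerivedCategory.homologyFunctor (ModuleCat.{u} L) j).mapIso e'))
        rcases lt_or_gt_of_ne hjn with h | h
        · exact (DerivedCategory.isGE_iff _ (-n)).1 inferInstance j h
        · exact (DerivedCategory.isLE_iff _ (-n)).1 inferInstance j h
      haveI := (homLocEquiv S W j).toEquiv.subsingleton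
      obtain ⟨c, hc⟩ := (IsLocalizedModule.eq_zero_iff S (g j)).1 (Subsingleton.elim (g j y) 0)
      exact ⟨c, c.2, hc⟩
    · have h0 : ι (algebraMap A L (a * s)) = 0 := by
        rw [map_mul, ← smul_eq_mul, map_smul, ← hgx, ← hgs, ha, map_zero]
      rw [LinearEquiv.map_eq_zero_iff, IsLocalization.map_eq_zero_iff S] at h0
      obtain ⟨c, hc⟩ := h0
      exact ⟨c * s, S.mul_mem c.2 s.2, by rw [← hc]; ring⟩
    · obtain ⟨b, hb⟩ := ι.surjective (g (-n) y)
      obtain ⟨⟨a, u⟩, hau⟩ := IsLocalization.surj S b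
      have h1 : g (-n) (((s : A) * u) • y) = g (-n) (a • x) := by
        rw [hgs, hgs, ← hb, hgx, ← map_smul, ← map_smul, smul_eq_mul, smul_eq_mul]
        congr 1
        rw [map_mul, ← hau]
        ring
      obtain ⟨c, hc⟩ := IsLocalizedModule.exists_of_eq (S := S) h1
      rw [Submonoid.smul_def, Submonoid.smul_def, smul_smul, smul_smul] at hc
      exact ⟨_, S.mul_mem c.2 (S.mul_mem s.2 u.2), (c : A) * a, hc⟩

/-- The Gorenstein locus of a ring with a dualizing complex is open. -/
theorem isOpen_gorenstein {ω : Dual.D A} (hω : Dual.IsDualizing A ω) :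
    IsOpen {p : PrimeSpectrum A | LocCoh.IsGorensteinLocalRing (Localization.AtPrime p.asIdeal)} := by
  let M := model hω
  haveI : ∀ p : PrimeSpectrum A, IsNoetherianRing (Localization p.asIdeal.primeCompl) := fun p =>
    IsLocalization.isNoetherianRing p.asIdeal.primeCompl _ inferInstance
  convert isOpen_oneFree M.W M.lo M.hi (finite_homology_model hω.finite_cohomology M.W M.e) using 2
  ext p
  show LocCoh.IsGorensteinLocalRing (Localization.AtPrime p.asIdeal) ↔ _
  rw [oneFree_iff_exists_iso, gorenstein_iff_isDualizing]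
  refine ⟨fun h => exists_shift_iso h (isDualizing_omegaAt hω M p), fun ⟨n, ⟨e⟩⟩ => ?_⟩
  refine isDualizing_of_iso ?_ (isDualizing_shift (isDualizing_omegaAt hω M p) (-n))
  exact (shiftFunctor _ (-n)).mapIso e ≪≫ (shiftFunctorCompIsoId _ n (-n) (add_neg_cancel n)).app _

end Groth.Agent.Dlz27
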