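import Groth.Agent.Lib.Dlz27.DepthAt

/-!
# The Cohen-Macaulay locus via a dualizing complex
-/

set_option autoImplicit false
universe u

open CategoryTheory CategoryTheory.Limits

attribute [local instance] HasDerivedCategory.standard

noncomputable section

namespace Groth.Agent.Dlz27

variable {A : Type u} [CommRing A] [IsNoetherianRing A] {ω : Dual.D A} (hω : Dual.IsDualizing A ω) (M : Model ω)

include hω in
theorem isOpen_vanS (N : Type u) [AddCommGroup N] [Module A N] [Module.Finite A N] (i : ℤ) :
    IsOpen {q : PrimeSpectrum A | VanS M.W q.asIdeal.primeCompl N i} := by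
  refine isOpen_iff_forall_mem_open.2 fun q hq => ?_
  obtain ⟨r, fl, hfl, hfs⟩ := finV M.inj M.lo (finite_homology hω M) N i
  choose s g hg using fun l => hq (fl l) (hfl l)
  let s₀ : q.asIdeal.primeCompl := ∏ l, s l
  refine ⟨PrimeSpectrum.basicOpen (s₀ : A), fun q' hq' f hf => ?_, (PrimeSpectrum.basicOpen _).isOpen, s₀.2⟩
  obtain ⟨c, g₀, rfl⟩ := hfs f hf
  refine ⟨⟨(s₀ : A), hq'⟩, ∑ l, (c l * ((∏ m ∈ Finset.univ.erase l, s m : q.asIdeal.primeCompl) : A)) • g l +
    (s₀ : A) • g₀, ?_⟩
  ext v
  simp only [LinearMap.comp_apply, LinearMap.add_apply, LinearMap.sum_apply, LinearMap.smul_apply, map_add, map_sum,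
    map_smul, smul_add, Finset.smul_sum]
  refine congrArg (· + _) (Finset.sum_congr rfl fun l _ => ?_)
  rw [show (M.W.d (i - 1) i).hom (g l v) = (s l : A) • fl l v from LinearMap.congr_fun (hg l) v,
    smul_smul, smul_smul, mul_assoc, ← Submonoid.coe_mul, Finset.prod_erase_mul _ _ (Finset.mem_univ l), mul_comm]

omit [IsNoetherianRing A] in
theorem vanS_outside (S : Submonoid A) (N : Type u) [AddCommGroup N] [Module A N] (i : ℤ)
    (hi : i < M.lo ∨ M.hi < i) : VanS M.W S N i := by
  have : Subsingleton (M.W.X i) := ModuleCat.subsingleton_of_isZero <| hi.elim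
    (fun h => M.W.isZero_of_isStrictlyGE M.lo i h) (fun h => M.W.isZero_of_isStrictlyLE M.hi i h)
  exact fun f _ => ⟨1, 0, LinearMap.ext fun x => Subsingleton.elim _ _⟩

/-- At most one degree fails to vanish at `p`. -/
def Single (N : Type u) [AddCommGroup N] [Module A N] (p : PrimeSpectrum A) : Prop :=
  ∀ i j, ¬ VanS M.W p.asIdeal.primeCompl N i → ¬ VanS M.W p.asIdeal.primeCompl N j → i = j

include hω in
theorem isOpen_single (N : Type u) [AddCommGroup N] [Module A N] [Module.Finite A N] :
    IsOpen {p : PrimeSpectrum A | Single M N p} := by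
  classical
  have h : {p : PrimeSpectrum A | Single M N p} = ⋂ ij ∈ ((Finset.Icc M.lo M.hi ×ˢ Finset.Icc M.lo M.hi).filter
      fun ij : ℤ × ℤ => ij.1 ≠ ij.2), ({p : PrimeSpectrum A | VanS M.W p.asIdeal.primeCompl N ij.1} ∪
        {p | VanS M.W p.asIdeal.primeCompl N ij.2}) := by
    ext p
    simp only [Set.mem_iInter, Set.mem_union, Set.mem_ofPred_eq, Finset.mem_filter, Finset.mem_product, Finset.mem_Icc]
    constructor
    · intro hs ij h
      by_contra hcon
      rw [not_or] at hcon
      exact h.2 (hs _ _ hcon.1 hcon.2)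
    · intro h i j hi hj
      by_contra hne
      refine (h (i, j) ⟨⟨?_, ?_⟩, hne⟩).elim hi hj <;> constructor <;> by_contra hcon
      exacts [hi (vanS_outside M _ N i (Or.inl (not_le.1 hcon))), hi (vanS_outside M _ N i (Or.inr (not_le.1 hcon))),
        hj (vanS_outside M _ N j (Or.inl (not_le.1 hcon))), hj (vanS_outside M _ N j (Or.inr (not_le.1 hcon)))]
  rw [h]
  exact isOpen_biInter_finset fun ij _ => (isOpen_vanS hω M N _).union (isOpen_vanS hω M N _)

theorem supportDim_localized_le (p : PrimeSpectrum A) (N : Type u) [AddCommGroup N] [Module A N] [Module.Finite A N]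
    (n : ℕ) (h : ∀ r ∈ Module.support A N, r ≤ p → deg hω M p - n ≤ deg hω M r) :
    Module.supportDim (Localization.AtPrime p.asIdeal) (LocalizedModule p.asIdeal.primeCompl N) ≤ (n : WithBot ℕ∞) := by
  refine iSup_le fun l : LTSeries (Module.support (Localization.AtPrime p.asIdeal)
    (LocalizedModule p.asIdeal.primeCompl N)) => ?_
  let r : Fin (l.length + 1) → PrimeSpectrum A := fun j =>
    PrimeSpectrum.comap (algebraMap A (Localization.AtPrime p.asIdeal)) (l j).1
  have hrp : ∀ j, r j ≤ p := fun j => by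
    show Ideal.comap (algebraMap A (Localization.AtPrime p.asIdeal)) (l j).1.asIdeal ≤ p.asIdeal
    exact (Ideal.comap_mono (IsLocalRing.le_maximalIdeal (l j).1.isPrime.ne_top)).trans
      (Localization.AtPrime.under_maximalIdeal).le
  have key : ∀ j, deg hω M p - n ≤ deg hω M (r j) ∧ deg hω M (r j) ≤ deg hω M p := fun j =>
    ⟨h _ (DepthLib.mem_support_comap p.asIdeal (l j).2) (hrp j), (deg_strictMono hω M).monotone (hrp j)⟩
  let f : Fin (l.length + 1) → Fin (n + 1) := fun j => ⟨(deg hω M (r j) - (deg hω M p - n)).toNat, by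
    have := key j; omega⟩
  have hf : StrictMono f := fun j k hjk => by
    have hlt : r j < r k := lt_of_le_of_ne (Ideal.comap_mono (show (l j).1 ≤ (l k).1 from (l.strictMono hjk).le))
      fun e => (l.strictMono hjk).ne (Subtype.ext (PrimeSpectrum.localization_comap_injective _ p.asIdeal.primeCompl e))
    have := deg_strictMono hω M hlt
    have := key j
    show (deg hω M (r j) - (deg hω M p - n)).toNat < (deg hω M (r k) - (deg hω M p - n)).toNat
    omega
  have := Fintype.card_le_of_injective f hf.injective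
  rw [Fintype.card_fin, Fintype.card_fin] at this
  exact_mod_cast (show l.length ≤ n by omega)

theorem le_deg_of_supportDim_le (p : PrimeSpectrum A) (N : Type u) [AddCommGroup N] [Module A N] (n : ℕ)
    (h : Module.supportDim (Localization.AtPrime p.asIdeal) (LocalizedModule p.asIdeal.primeCompl N) ≤ (n : WithBot ℕ∞))
    (r : PrimeSpectrum A) (hr : r ∈ Module.support A N) (hrp : r ≤ p) :
    deg hω M p - n ≤ deg hω M r := by
  have hle := (deg_strictMono hω M).monotone hrp
  obtain ⟨l, hl, hlast⟩ := exists_deg_series M hω (deg hω M p - deg hω M r).toNat r p hrp (by omega)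
  have hlp : ∀ j, (l j).1 ≤ p := fun j => le_of_le_of_eq (show (l j).1 ≤ (RelSeries.last l).1 from
    l.monotone (Fin.le_last j)) hlast
  let e := IsLocalization.AtPrime.primeSpectrumOrderIso (Localization.AtPrime p.asIdeal) p.asIdeal
  let q : Fin (l.length + 1) → PrimeSpectrum (Localization.AtPrime p.asIdeal) := fun j => e.symm ⟨(l j).1, hlp j⟩
  have hq : ∀ j, PrimeSpectrum.comap (algebraMap A (Localization.AtPrime p.asIdeal)) (q j) = (l j).1 := fun j =>
    congrArg Subtype.val (e.apply_symm_apply ⟨(l j).1, hlp j⟩)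
  have hqs : ∀ j, q j ∈ Module.support (Localization.AtPrime p.asIdeal) (LocalizedModule p.asIdeal.primeCompl N) :=
    fun j => by
    obtain ⟨x, hx⟩ := Module.mem_support_iff_exists_annihilator.1 (Module.mem_support_mono (l j).2 hr)
    refine Module.mem_support_iff_exists_annihilator.2 ⟨LocalizedModule.mk x 1, fun b hb => ?_⟩
    obtain ⟨a, t, rfl⟩ := IsLocalization.exists_mk'_eq p.asIdeal.primeCompl b
    rw [Submodule.mem_annihilator_span_singleton] at hb
    have hb2 : a • LocalizedModule.mk x (1 : p.asIdeal.primeCompl) = 0 := by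
      rw [← algebraMap_smul (Localization.AtPrime p.asIdeal) a,
        ← IsLocalization.mk'_spec (Localization.AtPrime p.asIdeal) a t,
        mul_comm, mul_smul, hb, smul_zero]
    rw [LocalizedModule.smul'_mk, ← LocalizedModule.zero_mk (S := p.asIdeal.primeCompl) 1, LocalizedModule.mk_eq] at hb2
    obtain ⟨u, hu⟩ := hb2
    simp only [smul_zero, Submonoid.smul_def, one_smul, smul_smul] at hu
    have hu' : (u : A) * a ∈ (l j).1.asIdeal := hx ((Submodule.mem_annihilator_span_singleton _ _).2 hu)
    have ha : a ∈ (l j).1.asIdeal :=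
      ((l j).1.isPrime.mem_or_mem hu').resolve_left fun hc => u.2 (hlp j hc)
    rw [IsLocalization.mk'_eq_mul_mk'_one]
    refine Ideal.mul_mem_right _ _ ?_
    have : a ∈ Ideal.comap (algebraMap A (Localization.AtPrime p.asIdeal)) (q j).asIdeal := by
      rw [show Ideal.comap (algebraMap A (Localization.AtPrime p.asIdeal)) (q j).asIdeal = (l j).1.asIdeal from
        congrArg PrimeSpectrum.asIdeal (hq j)]
      exact ha
    exact this
  let l' : LTSeries (Module.support (Localization.AtPrime p.asIdeal) (LocalizedModule p.asIdeal.primeCompl N)) :=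
    LTSeries.mk l.length (fun j => ⟨q j, hqs j⟩) fun i j hij => e.symm.strictMono
      (show (⟨(l i).1, hlp i⟩ : Set.Iic (⟨p.asIdeal, p.isPrime⟩ : PrimeSpectrum A)) < ⟨(l j).1, hlp j⟩ from
        l.strictMono hij)
  have h2 : (l.length : WithBot ℕ∞) ≤ n := (Order.LTSeries.length_le_krullDim l').trans h
  have h3 : l.length ≤ n := by exact_mod_cast h2
  omega

include hω in
/-- Cohen-Macaulay at `p` means nonvanishing in a single degree. -/
theorem single_iff (p : PrimeSpectrum A) (N : Type u) [AddCommGroup N] [Module A N] [Module.Finite A N] :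
    (Subsingleton (LocalizedModule p.asIdeal.primeCompl N) ∨
      LocCoh.IsCohenMacaulayModule (Localization.AtPrime p.asIdeal) (LocalizedModule p.asIdeal.primeCompl N)) ↔
      Single M N p := by
  rcases subsingleton_or_nontrivial (LocalizedModule p.asIdeal.primeCompl N) with hsub | hnt
  · exact iff_of_true (Or.inl hsub) fun i _ hi _ => absurd (vanS_of_subsingleton_localized p N i) hi
  have : Module.Finite (Localization.AtPrime p.asIdeal) (LocalizedModule p.asIdeal.primeCompl N) :=
    Module.Finite.of_isLocalizedModule p.asIdeal.primeCompl (LocalizedModule.mkLinearMap p.asIdeal.primeCompl N)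
  obtain ⟨n, hn⟩ := DepthLib.exists_depth_eq_natCast (R := Localization.AtPrime p.asIdeal)
    (M := LocalizedModule p.asIdeal.primeCompl N)
  obtain ⟨hlow, htop⟩ := vanS_of_depth hω M p n N hn
  have hdle := DepthLib.depth_le_supportDim (R := Localization.AtPrime p.asIdeal)
    (M := LocalizedModule p.asIdeal.primeCompl N)
  simp only [not_subsingleton_iff_nontrivial.2 hnt, false_or]
  unfold LocCoh.IsCohenMacaulayModule
  rw [hn] at hdle ⊢
  constructor
  · intro hCM
    suffices h : ∀ i, ¬ VanS M.W p.asIdeal.primeCompl N i → i = deg hω M p - n by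
      intro i j hi hj; rw [h i hi, h j hj]
    intro i hi
    obtain ⟨hip, r, hr, hrp, hri⟩ := le_deg_of_not_vanS hω M p i N hi
    have h1 := le_deg_of_supportDim_le hω M p N n hCM.le r hr hrp
    by_contra hne
    refine hi ?_
    have := hlow (deg hω M p - i).toNat (by omega)
    rwa [show deg hω M p - ((deg hω M p - i).toNat : ℤ) = i by omega] at this
  · intro hs
    refine le_antisymm (supportDim_localized_le hω M p N n fun r hr hrp => ?_) hdle
    rw [Module.support_eq_zeroLocus, PrimeSpectrum.mem_zeroLocus] at hr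
    obtain ⟨r₀, hr₀, hr₀r⟩ := Ideal.exists_minimalPrimes_le (J := r.asIdeal) hr
    let r₁ : PrimeSpectrum A := ⟨r₀, hr₀.1.1⟩
    have hr₁r : r₁ ≤ r := hr₀r
    have hnv : ¬ VanS M.W p.asIdeal.primeCompl N (deg hω M r₁) := fun hv =>
      not_vanS_of_mem_associatedPrimes hω M N r₁
        (Module.associatedPrimes.minimalPrimes_annihilator_subset_associatedPrimes A N hr₀)
        (hv.mono fun a ha hc => ha ((hr₁r.trans hrp) hc))
    rw [← hs _ _ hnv htop]
    exact (deg_strictMono hω M).monotone hr₁r

include hω M in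
theorem isCM_of_minimal (p : PrimeSpectrum A) (N : Type u) [AddCommGroup N] [Module A N] [Module.Finite A N]
    (hp : p.asIdeal ∈ (Module.annihilator A N).minimalPrimes) :
    LocCoh.IsCohenMacaulayModule (Localization.AtPrime p.asIdeal) (LocalizedModule p.asIdeal.primeCompl N) := by
  have hmem : p ∈ Module.support A N := by
    rw [Module.support_eq_zeroLocus, PrimeSpectrum.mem_zeroLocus]; exact hp.1.2
  refine ((single_iff hω M p N).2 fun i j hi hj => ?_).resolve_left (not_subsingleton_iff_nontrivial.2 hmem)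
  suffices h : ∀ i, ¬ VanS M.W p.asIdeal.primeCompl N i → i = deg hω M p by rw [h i hi, h j hj]
  intro i hi
  obtain ⟨hip, r, hr, hrp, hri⟩ := le_deg_of_not_vanS hω M p i N hi
  rw [Module.support_eq_zeroLocus, PrimeSpectrum.mem_zeroLocus] at hr
  obtain rfl : r = p := PrimeSpectrum.ext (le_antisymm hrp (hp.2 ⟨r.isPrime, hr⟩ hrp))
  omega

include hω M in
theorem support_subset_closure_cm (N : Type u) [AddCommGroup N] [Module A N] [Module.Finite A N] :
    Module.support A N ⊆ closure ({p : PrimeSpectrum A | LocCoh.IsCohenMacaulayModule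
      (Localization.AtPrime p.asIdeal) (LocalizedModule p.asIdeal.primeCompl N)} ∩ Module.support A N) := by
  intro p hp
  rw [Module.support_eq_zeroLocus, PrimeSpectrum.mem_zeroLocus] at hp
  obtain ⟨r, hr, hrp⟩ := Ideal.exists_minimalPrimes_le (J := p.asIdeal) hp
  let r₁ : PrimeSpectrum A := ⟨r, hr.1.1⟩
  have hr₁ : r₁ ∈ Module.support A N := by
    rw [Module.support_eq_zeroLocus, PrimeSpectrum.mem_zeroLocus]; exact hr.1.2
  have hcm := isCM_of_minimal hω M r₁ N hr
  refine closure_mono ?_ ((PrimeSpectrum.le_iff_mem_closure r₁ p).1 hrp)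
  rintro _ rfl
  exact ⟨hcm, hr₁⟩

include hω M in
theorem isOpen_cm (N : Type u) [AddCommGroup N] [Module A N] [Module.Finite A N] :
    IsOpen {p : PrimeSpectrum A | Subsingleton (LocalizedModule p.asIdeal.primeCompl N) ∨
      LocCoh.IsCohenMacaulayModule (Localization.AtPrime p.asIdeal) (LocalizedModule p.asIdeal.primeCompl N)} := by
  simpa only [single_iff hω M] using isOpen_single hω M N

end Groth.Agent.Dlz27
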