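import Groth.Agent.Lib.Dlz27.LowVanish

/-!
# Local duality for all complexes with finite cohomology
-/

set_option autoImplicit false
universe u

open CategoryTheory CategoryTheory.Limits CategoryTheory.Pretriangulated

attribute [local instance] HasDerivedCategory.standard

noncomputable section

namespace Groth.Agent.Dlz27

variable {A : Type u} [CommRing A] [IsLocalRing A] [IsNoetherianRing A] {ω : Dual.D A} (M : Model ω)
  (hω : Dual.IsDualizing A ω) (hn : Dual.IsNormalized A ω)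

include M in
omit [IsLocalRing A] [IsNoetherianRing A] in
theorem hom_low_eq_zero {C : Dual.D A} {m : ℤ} (hC : C.IsLE m) (h : m < M.lo) (ψ : C ⟶ ω⟦(0 : ℤ)⟧) : ψ = 0 := by
  haveI := hC
  haveI : (ω⟦(0 : ℤ)⟧).IsGE M.lo := DerivedCategory.TStructure.t.isGE_of_iso
    (((shiftFunctorZero (Dual.D A) ℤ).app ω ≪≫ M.e.symm).symm) M.lo
  exact DerivedCategory.TStructure.t.zero_of_isLE_of_isGE ψ m M.lo h inferInstance inferInstance

omit [IsLocalRing A] in
theorem hc_low_eq_zero (I : Ideal A) : ∃ r : ℕ, ∀ (C : Dual.D A) (n i : ℤ), C.IsLE n → n + r < i →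
    ∀ x : Hc I (C⟦i⟧), x = 0 := by
  obtain ⟨S, hS⟩ := (IsNoetherian.noetherian I : I.FG)
  obtain ⟨fs, rfl⟩ : ∃ fs : List A, I = Ideal.span {y : A | y ∈ fs} :=
    ⟨S.toList, by rw [← hS]; simp [Finset.mem_toList]⟩
  exact ⟨fs.length, fun C n i hC hi x => hdi_eq_zero_of_isLE fs hC hi x⟩

include hω hn in
/-- Local duality for complexes with finite cohomology. -/
theorem bijS_all (K : Dual.D A) (hK : ∀ l : ℤ, Module.Finite A (Dual.HD A K l)) : BijS M K := by
  intro i
  obtain ⟨r, hr⟩ := hc_low_eq_zero (mA (A := A))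
  set n := min (i - r - 1) (M.lo + i - 1)
  obtain ⟨T, hT, ⟨eK⟩, hXle, hYge, hlow, hhigh⟩ := trunc_triangle K n
  have hY0 := (DMod.isGE_iff T.obj₃ (n + 1)).1 hYge
  have hYfin : ∀ l, Module.Finite A (Dual.HD A T.obj₃ l) := fun l => by
    rcases le_or_gt l n with hl | hl
    · haveI := hY0 l (by omega); infer_instance
    · obtain ⟨e⟩ := hhigh l hl
      haveI := hK l
      exact Module.Finite.equiv e
  have hY : BijS M T.obj₃ := bijS_boundedBelow M hω hn T.obj₃ (n + 1) hYfin hY0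
  have hX : ∀ d : ℤ, 0 ≤ d → d ≤ 1 → BijC M ((T.obj₁⟦i⟧)⟦d⟧) := fun d hd hd' => by
    refine bijC_of_iso M ((shiftFunctorAdd' (Dual.D A) i d (i + d) rfl).app T.obj₁) ?_
    have hle : (T.obj₁⟦i + d⟧).IsLE (n - (i + d)) :=
      DerivedCategory.TStructure.t.isLE_shift T.obj₁ n (i + d) (n - (i + d)) (by omega)
    exact ⟨fun x y _ => (hr _ n (i + d) hXle (by omega) x).trans (hr _ n (i + d) hXle (by omega) y).symm,
      fun t => ⟨0, LinearMap.ext fun ψ => by
        rw [hom_low_eq_zero M hle (by omega) ψ, map_zero, map_zero]⟩⟩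
  refine bijC_of_iso M ((shiftFunctor (Dual.D A) i).mapIso eK) ?_
  exact bijC_mid M hω hn ((Triangle.shiftFunctor (Dual.D A) i).obj T) (Triangle.shift_distinguished T hT i)
    (bijC_of_iso M ((shiftFunctorZero (Dual.D A) ℤ).app (T.obj₁⟦i⟧)) (hX 0 le_rfl (by omega))) (hY i)
    (bijS_shift M hY i (-1)) (hX 1 (by omega) le_rfl)

end Groth.Agent.Dlz27

namespace Groth.Agent.Dlz27

variable {A : Type u} [CommRing A] [IsNoetherianRing A] {ω : Dual.D A} (M : Model ω) (hω : Dual.IsDualizing A ω)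

omit [IsNoetherianRing A] in
theorem hom_low_eq_zero' {C : Dual.D A} {m : ℤ} (hC : C.IsLE m) {j : ℤ} (h : m + j < M.lo) (ψ : C ⟶ ω⟦j⟧) : ψ = 0 := by
  haveI := hC
  haveI : ω.IsGE M.lo := DerivedCategory.TStructure.t.isGE_of_iso M.e M.lo
  haveI : (ω⟦j⟧).IsGE (M.lo - j) := DerivedCategory.TStructure.t.isGE_shift ω M.lo j (M.lo - j) (by omega)
  exact DerivedCategory.TStructure.t.zero_of_isLE_of_isGE ψ m (M.lo - j) (by omega) inferInstance inferInstance

include M hω in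
/-- Morphisms from a complex with finite cohomology into a shift of `ω` form a finite module. -/
theorem finite_homC_all (K : Dual.D A) (hK : ∀ l : ℤ, Module.Finite A (Dual.HD A K l)) (j : ℤ) :
    Module.Finite A (K ⟶ ω⟦j⟧) := by
  set n := M.lo - j - 1
  obtain ⟨T, hT, ⟨eK⟩, hXle, hYge, hlow, hhigh⟩ := trunc_triangle K n
  have hY0 := (DMod.isGE_iff T.obj₃ (n + 1)).1 hYge
  have hYfin : ∀ l, Module.Finite A (Dual.HD A T.obj₃ l) := fun l => by
    rcases le_or_gt l n with hl | hl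
    · haveI := hY0 l (by omega); infer_instance
    · obtain ⟨e⟩ := hhigh l hl
      haveI := hK l
      exact Module.Finite.equiv e
  haveI := finite_homC M hω T.obj₃ (n + 1) hYfin hY0 j
  let g : (T.obj₃ ⟶ ω⟦j⟧) →ₗ[A] (K ⟶ ω⟦j⟧) :=
    (Linear.homCongr A eK (Iso.refl (ω⟦j⟧))).toLinearMap ∘ₗ Linear.leftComp A _ T.mor₂
  refine Module.Finite.of_surjective g fun ψ => ?_
  obtain ⟨χ, hχ⟩ := Triangle.yoneda_exact₂ T hT (eK.hom ≫ ψ) (hom_low_eq_zero' M hXle (by omega) _)
  refine ⟨χ, ?_⟩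
  show Linear.homCongr A eK (Iso.refl (ω⟦j⟧)) (T.mor₂ ≫ χ) = ψ
  rw [← hχ, Linear.homCongr_apply, Iso.refl_hom, Category.comp_id, eK.inv_hom_id_assoc]

end Groth.Agent.Dlz27
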