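import Groth.Agent.Lib.Dlz27.Residue
import Groth.Agent.Lib.HTFin27.Bridge

/-!
# The residual degree of a dualizing complex at a maximal ideal
-/

set_option autoImplicit false
universe u

open CategoryTheory CategoryTheory.Limits

attribute [local instance] HasDerivedCategory.standard

noncomputable section

namespace Groth.Agent.Dlz27

open RGamma27

variable {A : Type u} [CommRing A]

/-- A bounded injective model. -/
structure Model (ω : Dual.D A) where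
  W : DRing.Cx A
  lo : ℤ
  hi : ℤ
  isGE : W.IsStrictlyGE lo
  isLE : W.IsStrictlyLE hi
  inj : ∀ i, Injective (W.X i)
  kinj : W.IsKInjective
  e : DerivedCategory.Q.obj W ≅ ω

instance {ω : Dual.D A} (M : Model ω) : M.W.IsKInjective := M.kinj
instance {ω : Dual.D A} (M : Model ω) : M.W.IsStrictlyGE M.lo := M.isGE
instance {ω : Dual.D A} (M : Model ω) : M.W.IsStrictlyLE M.hi := M.isLE

/-- A chosen model. -/
def model {ω : Dual.D A} (hω : Dual.IsDualizing A ω) : Model ω :=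
  Classical.choice (by
    obtain ⟨W, a, b, h1, h2, h3, h4, ⟨e⟩⟩ := exists_model ω hω
    exact ⟨⟨W, a, b, h1, h2, h3, h4, e⟩⟩)

variable {W : DRing.Cx A} {m : Ideal A}

/-- The map on `A ⧸ m` given by a killed element. -/
def ofKilled {i : ℤ} (x : W.X i) (hx : x ∈ Xk W m i) : A ⧸ m →ₗ[A] W.X i :=
  Submodule.liftQ m (LinearMap.toSpanSingleton A (W.X i) x) fun a ha => (mem_Xk W m).1 hx a ha

theorem ofKilled_one {i : ℤ} (x : W.X i) (hx : x ∈ Xk W m i) : ofKilled x hx 1 = x := one_smul A x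

theorem killed_one {i : ℤ} (f : A ⧸ m →ₗ[A] W.X i) : f 1 ∈ Xk W m i :=
  (mem_Xk W m).2 fun a ha => by
    rw [← map_smul, show a • (1 : A ⧸ m) = 0 from ?_, map_zero]
    rw [Algebra.smul_def, mul_one]
    exact (Ideal.Quotient.eq_zero_iff_mem).2 ha

section Class

variable {ω' : Dual.D A} (M : Model ω') {N : Type u} [AddCommGroup N] [Module A N] {i : ℤ}

/-- The morphism of a cocycle. -/
def cl (f : N →ₗ[A] M.W.X i) (hf : (M.W.d i (i + 1)).hom ∘ₗ f = 0) : Dual.inD A N ⟶ ω'⟦i⟧ :=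
  el (ModuleCat.ofHom f) (ModuleCat.hom_ext hf) ≫ (shiftFunctor (Dual.D A) i).map M.e.hom

theorem cl_eq_zero_iff (f : N →ₗ[A] M.W.X i) (hf : (M.W.d i (i + 1)).hom ∘ₗ f = 0) :
    cl M f hf = 0 ↔ ∃ g : N →ₗ[A] M.W.X (i - 1), (M.W.d (i - 1) i).hom ∘ₗ g = f := by
  constructor
  · intro h
    have h0 : el (ModuleCat.ofHom f) (ModuleCat.hom_ext hf) = 0 := by
      rw [← cancel_mono ((shiftFunctor (Dual.D A) i).mapIso M.e).hom, zero_comp]
      exact h
    obtain ⟨g, hg⟩ := (el_eq_zero_iff _ _).1 h0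
    exact ⟨g.hom, congrArg ModuleCat.Hom.hom hg⟩
  · rintro ⟨g, hg⟩
    rw [cl, (el_eq_zero_iff (ModuleCat.ofHom f) (ModuleCat.hom_ext hf)).2 ⟨ModuleCat.ofHom g, ModuleCat.hom_ext hg⟩]
    exact zero_comp

theorem cl_surjective (φ : Dual.inD A N ⟶ ω'⟦i⟧) : ∃ f hf, cl M (N := N) (i := i) f hf = φ := by
  obtain ⟨g, hg, hφ⟩ := el_surjective (φ ≫ (shiftFunctor (Dual.D A) i).map M.e.inv)
  refine ⟨g.hom, congrArg ModuleCat.Hom.hom hg, ?_⟩
  rw [← cancel_mono ((shiftFunctor (Dual.D A) i).mapIso M.e).inv]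
  refine Eq.trans ?_ hφ
  refine (Category.assoc _ _ _).trans ?_
  refine (congrArg (_ ≫ ·) ((shiftFunctor (Dual.D A) i).mapIso M.e).hom_inv_id).trans ?_
  exact Category.comp_id _

theorem cl_add (f g : N →ₗ[A] M.W.X i) (hf : (M.W.d i (i + 1)).hom ∘ₗ f = 0)
    (hg : (M.W.d i (i + 1)).hom ∘ₗ g = 0) :
    cl M (f + g) (by rw [LinearMap.comp_add, hf, hg, add_zero]) = cl M f hf + cl M g hg := by
  unfold cl
  refine Eq.trans ?_ (Preadditive.add_comp _ _ _ _ _ _)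
  exact congrArg (· ≫ _) (el_add (ModuleCat.ofHom f) (ModuleCat.ofHom g) (ModuleCat.hom_ext hf) (ModuleCat.hom_ext hg))

theorem cl_smul (a : A) (f : N →ₗ[A] M.W.X i) (hf : (M.W.d i (i + 1)).hom ∘ₗ f = 0) :
    cl M (a • f) (by rw [LinearMap.comp_smul, hf, smul_zero]) = a • cl M f hf := by
  unfold cl
  refine Eq.trans ?_ (Linear.smul_comp _ _ _ _ _ _)
  exact congrArg (· ≫ _) (el_smul a (ModuleCat.ofHom f) (ModuleCat.hom_ext hf))

theorem cl_congr {f g : N →ₗ[A] M.W.X i} (h : f = g) (hf : (M.W.d i (i + 1)).hom ∘ₗ f = 0) :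
    cl M f hf = cl M g (h ▸ hf) := by subst h; rfl

theorem cl_eq_iff (f g : N →ₗ[A] M.W.X i) (hf : (M.W.d i (i + 1)).hom ∘ₗ f = 0)
    (hg : (M.W.d i (i + 1)).hom ∘ₗ g = 0) :
    cl M f hf = cl M g hg ↔ ∃ t : N →ₗ[A] M.W.X (i - 1), (M.W.d (i - 1) i).hom ∘ₗ t = f - g := by
  have hfg : (M.W.d i (i + 1)).hom ∘ₗ (f - g) = 0 := by rw [LinearMap.comp_sub, hf, hg, sub_zero]
  rw [← cl_eq_zero_iff M (f - g) hfg, ← sub_eq_zero, eq_comm (a := cl M (f - g) hfg)]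
  have h : cl M f hf = cl M (f - g) hfg + cl M g hg :=
    (cl_congr M (sub_add_cancel f g).symm hf).trans (cl_add M _ _ hfg hg)
  rw [h, add_sub_cancel_right, eq_comm]

end Class

theorem linearMap_ext_one {N : Type u} [AddCommGroup N] [Module A N] {f g : A ⧸ m →ₗ[A] N} (h : f 1 = g 1) : f = g :=
  Submodule.linearMap_qext m (LinearMap.ext_ring h)

theorem van_residue_iff (i : ℤ) : Van W (A ⧸ m) i ↔ ∀ x, XCy W m i x → XBd W m i x := by
  constructor
  · rintro h x ⟨hx, hd⟩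
    obtain ⟨g, hg⟩ := h (ofKilled x hx) (linearMap_ext_one (by
      show W.d i (i + 1) (ofKilled x hx 1) = 0
      rw [ofKilled_one, hd]))
    exact ⟨g 1, killed_one g, (LinearMap.congr_fun hg 1).trans (ofKilled_one x hx)⟩
  · intro h f hf
    obtain ⟨y, hy, hd⟩ := h (f 1) ⟨killed_one f, LinearMap.congr_fun hf 1⟩
    exact ⟨ofKilled y hy, linearMap_ext_one ((congrArg (W.d (i - 1) i) (ofKilled_one y hy)).trans hd)⟩

variable [IsNoetherianRing A] {ω : Dual.D A} (hω : Dual.IsDualizing A ω)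

include hω in
theorem exists_deg (m : Ideal A) [m.IsMaximal] (M : Model ω) : ∃ (n : ℤ) (x : M.W.X n),
    XCy M.W m n x ∧ ¬ XBd M.W m n x ∧ (∀ i, i ≠ n → Van M.W (A ⧸ m) i) ∧
      ∀ y, XCy M.W m n y → ∃ a : A, XBd M.W m n (y - a • x) := by
  obtain ⟨n, x, hx, hxb⟩ := exists_class (m := m) M.e hω M.inj (a₀ := M.lo) (b₀ := M.hi)
  refine ⟨n, x, hx, hxb, fun i hi => (van_residue_iff i).2 fun y hy => ?_,
    fun y hy => exists_smul_of_eq M.e hω M.inj (a₀ := M.lo) (b₀ := M.hi) hx hxb hy⟩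
  rcases lt_or_gt_of_ne hi with h | h
  · by_contra hb
    exact hxb (XBd_of_lt M.e hω M.inj (a₀ := M.lo) (b₀ := M.hi) h hy hb hx)
  · exact XBd_of_lt M.e hω M.inj (a₀ := M.lo) (b₀ := M.hi) h hx hxb hy

include hω in
theorem ext_residue (m : Ideal A) [m.IsMaximal] : ∃ n : ℤ,
    (∀ i : ℤ, i ≠ n → Subsingleton (Dual.inD A (A ⧸ m) ⟶ ω⟦i⟧)) ∧
      Nonempty ((Dual.inD A (A ⧸ m) ⟶ ω⟦n⟧) ≃ₗ[A] (A ⧸ m)) := by
  let M := model hω
  obtain ⟨n, x, hx, hxb, hvan, hgen⟩ := exists_deg hω m M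
  refine ⟨n, fun i hi => (subsingleton_hom_iff_van M.e _ i).2 (hvan i hi), ?_⟩
  have hf : (M.W.d n (n + 1)).hom ∘ₗ ofKilled x hx.1 = 0 := linearMap_ext_one (by
    show M.W.d n (n + 1) (ofKilled x hx.1 1) = 0
    rw [ofKilled_one, hx.2])
  let v : Dual.inD A (A ⧸ m) ⟶ ω⟦n⟧ := cl M (ofKilled x hx.1) hf
  let L : A →ₗ[A] (Dual.inD A (A ⧸ m) ⟶ ω⟦n⟧) := LinearMap.toSpanSingleton A _ v
  have hsurj : Function.Surjective L := fun φ => by
    obtain ⟨g, hg, rfl⟩ := cl_surjective M φ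
    obtain ⟨a, y, hy, hd⟩ := hgen (g 1) ⟨killed_one g, LinearMap.congr_fun hg 1⟩
    refine ⟨a, ?_⟩
    show a • v = _
    rw [← cl_smul, cl_eq_iff]
    refine ⟨-(ofKilled y hy), linearMap_ext_one ?_⟩
    show M.W.d (n - 1) n (-(ofKilled y hy 1)) = a • ofKilled x hx.1 1 - g 1
    rw [ofKilled_one, ofKilled_one, map_neg, hd, neg_sub]
  have hker : LinearMap.ker L = m := by
    have hm : m ≤ LinearMap.ker L := fun a ha => by
      show a • v = 0
      rw [← cl_smul, cl_eq_zero_iff]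
      refine ⟨0, linearMap_ext_one ?_⟩
      show M.W.d (n - 1) n 0 = a • ofKilled x hx.1 1
      rw [map_zero, ofKilled_one, (mem_Xk M.W m).1 hx.1 a ha]
    refine ((inferInstance : m.IsMaximal).eq_of_le (fun htop => ?_) hm).symm
    have h1 : (1 : A) • v = 0 := LinearMap.mem_ker.1 (htop ▸ Submodule.mem_top)
    rw [one_smul, cl_eq_zero_iff] at h1
    obtain ⟨t, ht⟩ := h1
    exact hxb ⟨t 1, killed_one t, (LinearMap.congr_fun ht 1).trans (ofKilled_one x hx.1)⟩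
  exact ⟨((L.quotKerEquivOfSurjective hsurj).symm).trans (Submodule.quotEquivOfEq _ _ hker)⟩

end Groth.Agent.Dlz27
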