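import Groth.Agent.Lib.Dlz27.CMLocus
import Groth.Agent.Lib.Depth.SkOps
import Groth.Agent.Lib.FlatDepth.GenericDepth

/-!
# The lowest cohomology module of a dualizing complex
-/

set_option autoImplicit false
universe u

open CategoryTheory CategoryTheory.Limits Pointwise

attribute [local instance] HasDerivedCategory.standard

noncomputable section

namespace Groth.Agent.Dlz27

variable {A : Type u} [CommRing A] (W : DRing.Cx A) (c : ℤ)

/-- The cycles of `W` in degree `c`. -/
abbrev cyW : Submodule A (W.X c) := LinearMap.ker (W.d c (c + 1)).hom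

/-- The iso from abstract cycles. -/
def cyclesEquiv : W.cycles c ≃ₗ[A] cyW W c :=
  LinearEquiv.ofBijective (LinearMap.codRestrict (cyW W c) (W.iCycles c).hom fun w => DMod.d_iCycles c (c + 1) w)
    ⟨fun a b h => (ModuleCat.mono_iff_injective (W.iCycles c)).1 inferInstance (congrArg Subtype.val h), fun z => by
      obtain ⟨w, hw⟩ := DMod.exists_cycle (K := W) (j := c) (k := c + 1) (by simp) z.1 z.2
      exact ⟨w, Subtype.ext hw⟩⟩

/-- The class of a cycle. -/
def cls : cyW W c →ₗ[A] W.homology c := (W.homologyπ c).hom ∘ₗ (cyclesEquiv W c).symm.toLinearMap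

theorem cls_surjective : Function.Surjective (cls W c) :=
  (DMod.homologyπ_surjective W c).comp (cyclesEquiv W c).symm.surjective

theorem cls_eq_zero_iff (z : cyW W c) : cls W c z = 0 ↔ ∃ y, W.d (c - 1) c y = z.1 := by
  obtain ⟨w, rfl⟩ := (cyclesEquiv W c).surjective z
  show W.homologyπ c ((cyclesEquiv W c).symm (cyclesEquiv W c w)) = 0 ↔ _
  rw [LinearEquiv.symm_apply_apply]
  exact DMod.homologyπ_eq_zero_iff (K := W) (j := c) (i := c - 1) (by simp) w

variable {W c} [IsLocalRing A] [IsNoetherianRing A] {ω : Dual.D A} (hω : Dual.IsDualizing A ω) (M : Model ω)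
  (hc : ∀ p : PrimeSpectrum A, c ≤ deg hω M p)

include hc

theorem exists_lift_boundary (N : Type u) [AddCommGroup N] [Module A N] [Module.Finite A N]
    (f : N →ₗ[A] M.W.X c) (h : ∀ x, ∃ y, M.W.d (c - 1) c y = f x) :
    ∃ g : N →ₗ[A] M.W.X (c - 1), (M.W.d (c - 1) c).hom ∘ₗ g = f := by
  classical
  obtain ⟨r, p, hp⟩ := Module.Finite.exists_fin' A N
  choose y hy using fun l => h (p (Pi.single l 1))
  let g₀ : (Fin r → A) →ₗ[A] M.W.X (c - 1) := Fintype.linearCombination A y
  have hg₀ : (M.W.d (c - 1) c).hom ∘ₗ g₀ = f ∘ₗ p := LinearMap.pi_ext' fun l => LinearMap.ext_ring (by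
    show M.W.d (c - 1) c (Fintype.linearCombination A y (Pi.single l 1)) = f (p (Pi.single l 1))
    rw [Fintype.linearCombination_apply_single, one_smul, hy])
  let ι := (LinearMap.ker p).subtype
  have hvan : Van M.W (LinearMap.ker p) (c - 1) := (vanS_maximal_iff _).1
    (vanS_low hω M (clPt A) _ _ fun r _ _ => by have := hc r; omega)
  obtain ⟨h', hh'⟩ := hvan (g₀ ∘ₗ ι) (by
    rw [show c - 1 + 1 = c by omega, ← LinearMap.comp_assoc, hg₀, LinearMap.comp_assoc,
      (LinearMap.exact_subtype_ker_map p).linearMap_comp_eq_zero, LinearMap.comp_zero])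
  obtain ⟨H, hH⟩ := exists_extend (M.inj (c - 1 - 1)) (LinearMap.ker p).injective_subtype h'
  obtain ⟨g, hg⟩ := exists_desc hp (LinearMap.exact_subtype_ker_map p)
    (g₀ - (M.W.d (c - 1 - 1) (c - 1)).hom ∘ₗ H) (by
      rw [LinearMap.sub_comp, LinearMap.comp_assoc, hH, hh', sub_self])
  refine ⟨g, comp_right_cancel hp ?_⟩
  rw [LinearMap.comp_assoc, hg, LinearMap.comp_sub, hg₀, dd_comp, sub_zero]

theorem exists_cocycle_of_hom (N : Type u) [AddCommGroup N] [Module A N] [Module.Finite A N]
    (φ : N →ₗ[A] M.W.homology c) : ∃ g : N →ₗ[A] cyW M.W c, cls M.W c ∘ₗ g = φ := by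
  classical
  obtain ⟨r, p, hp⟩ := Module.Finite.exists_fin' A N
  choose w hw using fun l => cls_surjective M.W c (φ (p (Pi.single l 1)))
  let f : (Fin r → A) →ₗ[A] cyW M.W c := Fintype.linearCombination A w
  have hf : cls M.W c ∘ₗ f = φ ∘ₗ p := LinearMap.pi_ext' fun l => LinearMap.ext_ring (by
    show cls M.W c (Fintype.linearCombination A w (Pi.single l 1)) = φ (p (Pi.single l 1))
    rw [Fintype.linearCombination_apply_single, one_smul, hw])
  let ι := (LinearMap.ker p).subtype
  let F : (Fin r → A) →ₗ[A] M.W.X c := (cyW M.W c).subtype ∘ₗ f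
  obtain ⟨h, hh⟩ := exists_lift_boundary hω M hc (LinearMap.ker p) (F ∘ₗ ι) fun x =>
    (cls_eq_zero_iff M.W c (f x.1)).1 ((LinearMap.congr_fun hf x.1).trans
      (by rw [LinearMap.comp_apply, LinearMap.mem_ker.1 x.2, map_zero]))
  obtain ⟨H, hH⟩ := exists_extend (M.inj (c - 1)) (LinearMap.ker p).injective_subtype h
  obtain ⟨g, hg⟩ := exists_desc hp (LinearMap.exact_subtype_ker_map p) (F - (M.W.d (c - 1) c).hom ∘ₗ H) (by
    refine (LinearMap.sub_comp _ _ _).trans (sub_eq_zero.2 ?_)
    exact hh.symm.trans (congrArg ((M.W.d (c - 1) c).hom ∘ₗ ·) hH.symm))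
  have hgc : ∀ x, g x ∈ cyW M.W c := fun x => by
    obtain ⟨x, rfl⟩ := hp x
    show M.W.d c (c + 1) (g (p x)) = 0
    rw [show g (p x) = F x - M.W.d (c - 1) c (H x) from LinearMap.congr_fun hg x, map_sub,
      show M.W.d c (c + 1) (F x) = 0 from (f x).2, d_d, sub_zero]
  refine ⟨LinearMap.codRestrict _ g hgc, comp_right_cancel hp (LinearMap.ext fun x => ?_)⟩
  show cls M.W c ⟨g (p x), hgc _⟩ = φ (p x)
  rw [← LinearMap.comp_apply φ p, ← hf, LinearMap.comp_apply, ← sub_eq_zero, ← map_sub, cls_eq_zero_iff]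
  refine ⟨-(H x), ?_⟩
  show M.W.d (c - 1) c (-(H x)) = g (p x) - F x
  rw [show g (p x) = F x - M.W.d (c - 1) c (H x) from LinearMap.congr_fun hg x, map_neg]
  abel

theorem exists_kill_hom (N : Type u) [AddCommGroup N] [Module A N] [Module.Finite A N] (q : Ideal A) [q.IsPrime]
    (h : VanS M.W q.primeCompl N c) (φ : N →ₗ[A] M.W.homology c) : ∃ s : q.primeCompl, (s : A) • φ = 0 := by
  obtain ⟨g, rfl⟩ := exists_cocycle_of_hom hω M hc N φ
  obtain ⟨s, k, hk⟩ := h ((cyW M.W c).subtype ∘ₗ g) (LinearMap.ext fun x => (g x).2)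
  refine ⟨s, LinearMap.ext fun x => ?_⟩
  show (s : A) • cls M.W c (g x) = 0
  rw [← map_smul, cls_eq_zero_iff]
  exact ⟨k x, LinearMap.congr_fun hk x⟩

/-- Homomorphisms from a prime extend, locally at it, when its degree is not one above the lowest. -/
theorem exists_extend_hom (p : PrimeSpectrum A) (hp : deg hω M p ≠ c + 1) (φ : p.asIdeal →ₗ[A] M.W.homology c) :
    ∃ (s : p.asIdeal.primeCompl) (z : M.W.homology c), ∀ a : p.asIdeal, (s : A) • φ a = (a : A) • z := by
  obtain ⟨g, rfl⟩ := exists_cocycle_of_hom hω M hc p.asIdeal φ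
  obtain ⟨G, hG⟩ := exists_extend (M.inj c) p.asIdeal.injective_subtype ((cyW M.W c).subtype ∘ₗ g)
  obtain ⟨e, he⟩ := exists_desc (Submodule.mkQ_surjective p.asIdeal) (LinearMap.exact_subtype_mkQ p.asIdeal)
    ((M.W.d c (c + 1)).hom ∘ₗ G) (by
      rw [LinearMap.comp_assoc, hG]
      exact LinearMap.ext fun x => (g x).2)
  obtain ⟨s, k, hk⟩ := ((vanS_iff_ne_deg hω M p (c + 1)).2 (fun e => hp e.symm)).prev rfl e
    (comp_right_cancel (Submodule.mkQ_surjective p.asIdeal) (by
      rw [LinearMap.comp_assoc, he, dd_comp, LinearMap.zero_comp]))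
  let π := Submodule.mkQ p.asIdeal
  have hz : (s : A) • G 1 - k (π 1) ∈ cyW M.W c := by
    show M.W.d c (c + 1) ((s : A) • G 1 - k (π 1)) = 0
    rw [map_sub, map_smul, show M.W.d c (c + 1) (k (π 1)) = (s : A) • e (π 1) from LinearMap.congr_fun hk _,
      show e (π 1) = M.W.d c (c + 1) (G 1) from LinearMap.congr_fun he 1, sub_self]
  refine ⟨s, cls M.W c ⟨_, hz⟩, fun a => ?_⟩
  show (s : A) • cls M.W c (g a) = (a : A) • cls M.W c ⟨_, hz⟩
  rw [← map_smul (cls M.W c), ← map_smul (cls M.W c)]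
  refine congrArg (cls M.W c) (Subtype.ext ?_)
  show (s : A) • (g a).1 = (a : A) • ((s : A) • G 1 - k (π 1))
  rw [smul_sub, ← map_smul k, ← map_smul π, smul_comm, ← map_smul G, smul_eq_mul, mul_one,
    show π (a : A) = 0 from (Submodule.Quotient.mk_eq_zero _).2 a.2, map_zero, sub_zero]
  exact congrArg ((s : A) • ·) (LinearMap.congr_fun hG a).symm

theorem notMem_ass (p : PrimeSpectrum A) (hp : deg hω M p ≠ c) :
    p.asIdeal ∉ associatedPrimes A (M.W.homology c) := fun h => by
  obtain ⟨-, m, hm⟩ := isAssociatedPrime_iff.1 h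
  have hker : p.asIdeal = LinearMap.ker (LinearMap.toSpanSingleton A (M.W.homology c) m) := by
    rw [hm]; ext a; simp only [Submodule.mem_colon_singleton, Submodule.mem_bot, LinearMap.mem_ker, LinearMap.toSpanSingleton_apply]
  let φ : A ⧸ p.asIdeal →ₗ[A] M.W.homology c := p.asIdeal.liftQ (LinearMap.toSpanSingleton A _ m) hker.le
  obtain ⟨s, hs⟩ := exists_kill_hom hω M hc (A ⧸ p.asIdeal) p.asIdeal
    ((vanS_iff_ne_deg hω M p c).2 (fun e => hp e.symm)) φ
  refine s.2 (hker.ge (show (s : A) • m = 0 from ?_))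
  have h1 : (s : A) • φ (Submodule.Quotient.mk 1) = 0 := LinearMap.congr_fun hs _
  rwa [show φ (Submodule.Quotient.mk 1) = m from one_smul A m] at h1

theorem exists_regular (p : PrimeSpectrum A) (hp : c < deg hω M p) :
    ∃ x ∈ p.asIdeal, IsSMulRegular (M.W.homology c) x := by
  have := finite_homology hω M c
  by_contra hcon
  push Not at hcon
  obtain ⟨P, hP, hle⟩ := DepthLib.exists_associatedPrime_ge (I := p.asIdeal) hcon
  let P' : PrimeSpectrum A := ⟨P, IsAssociatedPrime.isPrime hP⟩
  have := (deg_strictMono hω M).monotone (show p ≤ P' from hle)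
  exact notMem_ass hω M hc P' (by omega) hP

omit hc in
theorem one_le_depth_of_notMem_ass (N : Type u) [AddCommGroup N] [Module A N] [Module.Finite A N]
    (p : PrimeSpectrum A) (h : p.asIdeal ∉ associatedPrimes A N) :
    (1 : ℕ∞) ≤ LocCoh.depth (Localization.AtPrime p.asIdeal) (LocalizedModule p.asIdeal.primeCompl N) := by
  refine Order.one_le_iff_ne_zero.2 fun h0 => h ?_
  have := Module.associatedPrimes.comap_mem_associatedPrimes_of_mem_associatedPrimes_of_isLocalizedModule_of_fg
    p.asIdeal.primeCompl (LocalizedModule.mkLinearMap p.asIdeal.primeCompl N)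
    (IsLocalRing.maximalIdeal (Localization.AtPrime p.asIdeal))
    (haveI : Module.Finite (Localization.AtPrime p.asIdeal) (LocalizedModule p.asIdeal.primeCompl N) :=
      Module.Finite.of_isLocalizedModule p.asIdeal.primeCompl (LocalizedModule.mkLinearMap p.asIdeal.primeCompl N)
     Depth3.depth_eq_zero_iff.1 h0) (IsNoetherian.noetherian _)
  exact (Localization.AtPrime.under_maximalIdeal (I := p.asIdeal)) ▸ this

theorem two_le_depth (p : PrimeSpectrum A) (hp : c + 1 < deg hω M p) :
    (2 : ℕ∞) ≤ LocCoh.depth (Localization.AtPrime p.asIdeal)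
      (LocalizedModule p.asIdeal.primeCompl (M.W.homology c)) := by
  have := finite_homology hω M c
  obtain ⟨x, hx, hreg⟩ := exists_regular hω M hc p (by omega)
  let B := Localization.AtPrime p.asIdeal
  let H := M.W.homology c
  have hq : p.asIdeal ∉ associatedPrimes A (QuotSMulTop x H) := fun h => by
    obtain ⟨-, m, hm⟩ := isAssociatedPrime_iff.1 h
    obtain ⟨y, rfl⟩ := Submodule.Quotient.mk_surjective _ m
    let μ : H →ₗ[A] H := x • LinearMap.id
    have hμ : Function.Injective μ := hreg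
    have hmem : ∀ a : p.asIdeal, (a : A) • y ∈ LinearMap.range μ := fun a => by
      have ha := hm.le a.2
      rw [Submodule.mem_colon_singleton] at ha
      obtain ⟨w, -, hw⟩ := (Submodule.mem_smul_pointwise_iff_exists _ _ _).1
        ((Submodule.Quotient.mk_eq_zero _).1 ((Submodule.Quotient.mk_smul _ (a : A) y).trans ((Submodule.mem_bot A).1 ha)))
      exact ⟨w, hw⟩
    let φ : p.asIdeal →ₗ[A] H := (LinearEquiv.ofInjective μ hμ).symm.toLinearMap ∘ₗ
      LinearMap.codRestrict (LinearMap.range μ)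
        (LinearMap.toSpanSingleton A H y ∘ₗ p.asIdeal.subtype) hmem
    obtain ⟨s, z, hsz⟩ := exists_extend_hom hω M hc p (by omega) φ
    have hφ : ∀ a : p.asIdeal, x • φ a = (a : A) • y := fun a =>
      congrArg Subtype.val ((LinearEquiv.ofInjective μ hμ).apply_symm_apply ⟨_, hmem a⟩)
    have h1 : (s : A) • y = x • z := by
      refine hreg ?_
      show x • ((s : A) • y) = x • (x • z)
      rw [smul_comm x (s : A) y, ← hφ ⟨x, hx⟩, smul_comm (s : A) x, hsz ⟨x, hx⟩]
    refine s.2 (hm.ge ?_)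
    rw [Submodule.mem_colon_singleton, Submodule.mem_bot, ← Submodule.Quotient.mk_smul, h1]
    exact (Submodule.Quotient.mk_eq_zero _).2 (Submodule.smul_mem_pointwise_smul z x ⊤ Submodule.mem_top)
  have hreg' : IsSMulRegular (LocalizedModule p.asIdeal.primeCompl H) (algebraMap A B x) :=
    FlatDepth.isSMulRegular_at p.asIdeal (g := 1) (fun m hm => by
      rw [one_smul]; exact hreg (hm.trans (smul_zero x).symm)) ((Ideal.ne_top_iff_one _).1 p.isPrime.ne_top)
  have : Module.Finite B (LocalizedModule p.asIdeal.primeCompl H) :=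
    Module.Finite.of_isLocalizedModule p.asIdeal.primeCompl (LocalizedModule.mkLinearMap p.asIdeal.primeCompl H)
  have h := DepthLib.idealDepth_quotSMulTop_add_one (M := LocalizedModule p.asIdeal.primeCompl H)
    (I := IsLocalRing.maximalIdeal B) (x := algebraMap A B x)
    (Localization.AtPrime.map_eq_maximalIdeal (I := p.asIdeal) ▸ Ideal.mem_map_of_mem _ hx) hreg'
  rw [← DepthLib.idealDepth_congr (FlatDepth.quotSMulTopAtEquiv p.asIdeal (M := H) x)] at h
  rw [show LocCoh.depth B (LocalizedModule p.asIdeal.primeCompl H) =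
    LocCoh.idealDepth (IsLocalRing.maximalIdeal B) (LocalizedModule p.asIdeal.primeCompl H) from rfl, ← h,
    show (2 : ℕ∞) = 1 + 1 from rfl]
  gcongr
  exact one_le_depth_of_notMem_ass _ p hq

theorem hasSk_two_homology : LocCoh.HasSk 2 A (M.W.homology c) := by
  intro p _
  have := finite_homology hω M c
  let P : PrimeSpectrum A := ⟨p, ‹p.IsPrime›⟩
  have hP := hc P
  rcases (show deg hω M P = c ∨ deg hω M P = c + 1 ∨ c + 1 < deg hω M P by omega) with h | h | h
  · refine le_trans (min_le_right _ _) ((supportDim_localized_le hω M P _ 0 fun r _ _ => ?_).trans ?_)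
    · have := hc r; push_cast; omega
    · exact WithBot.coe_le_coe.2 bot_le
  · refine le_trans (min_le_right _ _) ((supportDim_localized_le hω M P _ 1 fun r _ _ => ?_).trans ?_)
    · have := hc r; push_cast; omega
    · rw [Nat.cast_one]
      exact WithBot.coe_le_coe.2 (one_le_depth_of_notMem_ass (M.W.homology c) P
        (notMem_ass hω M hc P (by omega)))
  · exact le_trans (min_le_left _ _) (WithBot.coe_le_coe.2 (two_le_depth hω M hc P h))

end Groth.Agent.Dlz27
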