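import Groth.Agent.Lib.Dlz27.CMLocus
import Groth.Agent.Lib.Dlz27.DegApps
import Groth.Agent.Lib.Depth.SkOps
import Groth.Agent.Lib.FlatDepth.SkLocal

/-!
# Serre's conditions via a dualizing complex
-/

set_option autoImplicit false
universe u

open CategoryTheory CategoryTheory.Limits

attribute [local instance] HasDerivedCategory.standard

noncomputable section

namespace Groth.Agent.Dlz27

variable {A : Type u} [CommRing A] [IsNoetherianRing A] {ω : Dual.D A} (hω : Dual.IsDualizing A ω) (M : Model ω)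

/-- Dimension and depth at `p` as the two ends of the nonvanishing range. -/
theorem exists_profile (p : PrimeSpectrum A) (N : Type u) [AddCommGroup N] [Module A N] [Module.Finite A N]
    [Nontrivial (LocalizedModule p.asIdeal.primeCompl N)] :
    ∃ d e : ℕ, Module.supportDim (Localization.AtPrime p.asIdeal) (LocalizedModule p.asIdeal.primeCompl N) = d ∧
      LocCoh.depth (Localization.AtPrime p.asIdeal) (LocalizedModule p.asIdeal.primeCompl N) = e ∧
      e ≤ d ∧ ¬ VanS M.W p.asIdeal.primeCompl N (deg hω M p - d) ∧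
      ¬ VanS M.W p.asIdeal.primeCompl N (deg hω M p - e) ∧
      ∀ i, ¬ VanS M.W p.asIdeal.primeCompl N i → deg hω M p - d ≤ i ∧ i ≤ deg hω M p - e := by
  have : Module.Finite (Localization.AtPrime p.asIdeal) (LocalizedModule p.asIdeal.primeCompl N) :=
    Module.Finite.of_isLocalizedModule p.asIdeal.primeCompl (LocalizedModule.mkLinearMap p.asIdeal.primeCompl N)
  obtain ⟨e, he⟩ := DepthLib.exists_depth_eq_natCast (R := Localization.AtPrime p.asIdeal)
    (M := LocalizedModule p.asIdeal.primeCompl N)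
  obtain ⟨d, hd⟩ := DepthLib.exists_supportDim_eq_natCast (R := Localization.AtPrime p.asIdeal)
    (M := LocalizedModule p.asIdeal.primeCompl N)
  obtain ⟨hlow, htop⟩ := vanS_of_depth hω M p e N he
  have hed : e ≤ d := by
    have h := DepthLib.depth_le_supportDim (R := Localization.AtPrime p.asIdeal)
      (M := LocalizedModule p.asIdeal.primeCompl N)
    rw [he, hd] at h
    exact_mod_cast h
  have hrange : ∀ i, ¬ VanS M.W p.asIdeal.primeCompl N i → deg hω M p - d ≤ i ∧ i ≤ deg hω M p - e := by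
    intro i hi
    obtain ⟨hip, r, hr, hrp, hri⟩ := le_deg_of_not_vanS hω M p i N hi
    refine ⟨(le_deg_of_supportDim_le hω M p N d hd.le r hr hrp).trans hri, ?_⟩
    by_contra hlt
    refine hi ?_
    have := hlow (deg hω M p - i).toNat (by omega)
    rwa [show deg hω M p - ((deg hω M p - i).toNat : ℤ) = i by omega] at this
  refine ⟨d, e, hd, he, hed, ?_, htop, hrange⟩
  obtain ⟨r, hr, hrp, hrd⟩ : ∃ r ∈ Module.support A N, r ≤ p ∧ deg hω M r ≤ deg hω M p - d := by
    rcases Nat.eq_zero_or_pos d with rfl | hd0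
    · obtain ⟨-, r, hr, hrp, -⟩ := le_deg_of_not_vanS hω M p _ N htop
      exact ⟨r, hr, hrp, by simpa using (deg_strictMono hω M).monotone hrp⟩
    · by_contra hcon
      push Not at hcon
      have h := supportDim_localized_le hω M p N (d - 1) fun r hr hrp => by
        have := hcon r hr hrp
        omega
      rw [hd] at h
      have h' : d ≤ d - 1 := by exact_mod_cast h
      omega
  rw [Module.support_eq_zeroLocus, PrimeSpectrum.mem_zeroLocus] at hr
  obtain ⟨r₀, hr₀, hr₀r⟩ := Ideal.exists_minimalPrimes_le (J := r.asIdeal) hr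
  let r₁ : PrimeSpectrum A := ⟨r₀, hr₀.1.1⟩
  have hr₁r : r₁ ≤ r := hr₀r
  have hnv : ¬ VanS M.W p.asIdeal.primeCompl N (deg hω M r₁) := fun hv =>
    not_vanS_of_mem_associatedPrimes hω M N r₁
      (Module.associatedPrimes.minimalPrimes_annihilator_subset_associatedPrimes A N hr₀)
      (hv.mono fun a ha hc => ha ((hr₁r.trans hrp) hc))
  have h1 := (hrange _ hnv).1
  have h2 := (deg_strictMono hω M).monotone hr₁r
  rwa [show deg hω M p - d = deg hω M r₁ by omega]

include hω in
/-- The condition `(S_k)` at a single prime. -/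
theorem sk_point_iff (k : ℕ) (p : PrimeSpectrum A) (N : Type u) [AddCommGroup N] [Module A N] [Module.Finite A N] :
    min (k : WithBot ℕ∞) (Module.supportDim (Localization.AtPrime p.asIdeal) (LocalizedModule p.asIdeal.primeCompl N)) ≤
        ((LocCoh.depth (Localization.AtPrime p.asIdeal) (LocalizedModule p.asIdeal.primeCompl N) : ℕ∞) : WithBot ℕ∞) ↔
      ∀ i j : ℤ, j < i → ¬ VanS M.W p.asIdeal.primeCompl N i → ¬ VanS M.W p.asIdeal.primeCompl N j →
        (((k : ℤ) + i - j).toNat : WithBot ℕ∞) ≤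
          Module.supportDim (Localization.AtPrime p.asIdeal) (LocalizedModule p.asIdeal.primeCompl N) := by
  rcases subsingleton_or_nontrivial (LocalizedModule p.asIdeal.primeCompl N) with hs | hs
  · rw [Module.supportDim_eq_bot_of_subsingleton, min_eq_right bot_le]
    exact iff_of_true bot_le fun i _ _ hi _ => absurd (vanS_of_subsingleton_localized p N i) hi
  obtain ⟨d, e, hd, he, hed, h1, h2, h3⟩ := exists_profile hω M p N
  rw [hd, he, DepthLib.cast_min_le_iff]
  constructor
  · intro h i j hij hi hj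
    have := h3 i hi
    have := h3 j hj
    exact Nat.cast_le.2 (by omega)
  · intro h
    by_contra hcon
    have h' := h (deg hω M p - e) (deg hω M p - d) (by omega) h2 h1
    have h'' : ((k : ℤ) + (deg hω M p - e) - (deg hω M p - d)).toNat ≤ d := Nat.cast_le.1 h'
    omega

include hω in
theorem supportDim_localized_mono {p q : PrimeSpectrum A} (hpq : p ≤ q) (N : Type u) [AddCommGroup N] [Module A N]
    [Module.Finite A N] (M : Model ω) :
    Module.supportDim (Localization.AtPrime p.asIdeal) (LocalizedModule p.asIdeal.primeCompl N) ≤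
      Module.supportDim (Localization.AtPrime q.asIdeal) (LocalizedModule q.asIdeal.primeCompl N) := by
  rcases subsingleton_or_nontrivial (LocalizedModule p.asIdeal.primeCompl N) with hs | hs
  · rw [Module.supportDim_eq_bot_of_subsingleton]
    exact bot_le
  have hq : q ∈ Module.support A N := Module.mem_support_mono hpq hs
  haveI : Nontrivial (LocalizedModule q.asIdeal.primeCompl N) := hq
  obtain ⟨d, e, hd, -⟩ := exists_profile hω M q N
  rw [hd]
  refine supportDim_localized_le hω M p N d fun r hr hrp => ?_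
  have := le_deg_of_supportDim_le hω M q N d hd.le r hr (hrp.trans hpq)
  have := (deg_strictMono hω M).monotone hpq
  omega

include hω M in
/-- The `(S_k)` locus is open. -/
theorem isOpen_sk (k : ℕ) (N : Type u) [AddCommGroup N] [Module A N] [Module.Finite A N] :
    IsOpen {p : PrimeSpectrum A | EGA4.HasSkAt k A N p.asIdeal} := by
  classical
  let c : ℤ × ℤ → PrimeSpectrum A → Prop := fun ij r =>
    ij.2 < ij.1 ∧ ¬ VanS M.W r.asIdeal.primeCompl N ij.1 ∧ ¬ VanS M.W r.asIdeal.primeCompl N ij.2 ∧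
      ¬ (((k : ℤ) + ij.1 - ij.2).toNat : WithBot ℕ∞) ≤
        Module.supportDim (Localization.AtPrime r.asIdeal) (LocalizedModule r.asIdeal.primeCompl N)
  have hJ : ∀ ij : ℤ × ℤ, ∃ J : Ideal A, ∀ r : PrimeSpectrum A, J ≤ r.asIdeal ↔
      (¬ VanS M.W r.asIdeal.primeCompl N ij.1 ∧ ¬ VanS M.W r.asIdeal.primeCompl N ij.2) := fun ij => by
    obtain ⟨J, hJ⟩ := (PrimeSpectrum.isClosed_iff_zeroLocus_ideal _).1
      ((isOpen_vanS hω M N ij.1).union (isOpen_vanS hω M N ij.2)).isClosed_compl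
    refine ⟨J, fun r => ?_⟩
    rw [← not_or, ← SetLike.coe_subset_coe, ← PrimeSpectrum.mem_zeroLocus, ← hJ]
    rfl
  choose J hJ using hJ
  let S : Finset (ℤ × ℤ) := Finset.Icc M.lo M.hi ×ˢ Finset.Icc M.lo M.hi
  have hfin : ((⋃ ij ∈ S, (fun P : Ideal A => (⟨ij, P⟩ : (ℤ × ℤ) × Ideal A)) '' (J ij).minimalPrimes)).Finite :=
    S.finite_toSet.biUnion fun ij _ => (Ideal.finite_minimalPrimes_of_isNoetherianRing A (J ij)).image _
  suffices h : {p : PrimeSpectrum A | EGA4.HasSkAt k A N p.asIdeal}ᶜ =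
      ⋃ x ∈ {x ∈ ⋃ ij ∈ S, (fun P : Ideal A => (⟨ij, P⟩ : (ℤ × ℤ) × Ideal A)) '' (J ij).minimalPrimes |
        ∃ hP : x.2.IsPrime, c x.1 ⟨x.2, hP⟩}, PrimeSpectrum.zeroLocus (x.2 : Set A) by
    rw [← isClosed_compl_iff, h]
    exact (hfin.subset fun x hx => hx.1).isClosed_biUnion fun x _ => PrimeSpectrum.isClosed_zeroLocus _
  ext q
  simp only [Set.mem_compl_iff, Set.mem_setOf_eq, FlatDepth.hasSkAt_iff, Set.mem_iUnion₂, Set.mem_image,
    PrimeSpectrum.mem_zeroLocus, SetLike.coe_subset_coe]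
  constructor
  · intro h
    push Not at h
    obtain ⟨r, hr, hrq, hbad⟩ := h
    have hbad' := mt (sk_point_iff hω M k ⟨r, hr⟩ N).2 (not_le.2 hbad)
    push Not at hbad'
    obtain ⟨i, j, hij, hi, hj, hdim⟩ := hbad'
    have hS : (i, j) ∈ S := by
      simp only [S, Finset.mem_product, Finset.mem_Icc]
      refine ⟨⟨?_, ?_⟩, ?_, ?_⟩ <;> by_contra hcon
      exacts [hi (vanS_outside M _ N i (Or.inl (not_le.1 hcon))), hi (vanS_outside M _ N i (Or.inr (not_le.1 hcon))),
        hj (vanS_outside M _ N j (Or.inl (not_le.1 hcon))), hj (vanS_outside M _ N j (Or.inr (not_le.1 hcon)))]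
    obtain ⟨P, hP, hPr⟩ := Ideal.exists_minimalPrimes_le ((hJ (i, j) ⟨r, hr⟩).2 ⟨hi, hj⟩)
    haveI := hP.1.1
    obtain ⟨hPi, hPj⟩ := (hJ (i, j) ⟨P, hP.1.1⟩).1 hP.1.2
    refine ⟨((i, j), P), ⟨⟨(i, j), hS, P, hP, rfl⟩, hP.1.1, hij, hPi, hPj, fun hle => ?_⟩, hPr.trans hrq⟩
    exact (not_le.2 hdim) (hle.trans (supportDim_localized_mono hω (show (⟨P, hP.1.1⟩ : PrimeSpectrum A) ≤ ⟨r, hr⟩ from hPr) N M))
  · rintro ⟨x, ⟨-, hP, hij, hi, hj, hdim⟩, hxq⟩ h
    haveI := hP
    exact hdim ((sk_point_iff hω M k ⟨x.2, hP⟩ N).1 (h x.2 hxq) _ _ hij hi hj)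

include hω M in
/-- Under `(S_k)` few primes have depth exactly `k` without being Cohen-Macaulay. -/
theorem finite_depth_eq (k : ℕ) (N : Type u) [AddCommGroup N] [Module A N] [Module.Finite A N]
    (hN : LocCoh.HasSk k A N) : Set.Finite {p : PrimeSpectrum A |
      LocCoh.depth (Localization.AtPrime p.asIdeal) (LocalizedModule p.asIdeal.primeCompl N) = k ∧
      (k : WithBot ℕ∞) < Module.supportDim (Localization.AtPrime p.asIdeal) (LocalizedModule p.asIdeal.primeCompl N)} := by
  classical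
  have hJ : ∀ ij : ℤ × ℤ, ∃ J : Ideal A, ∀ r : PrimeSpectrum A, J ≤ r.asIdeal ↔
      (¬ VanS M.W r.asIdeal.primeCompl N ij.1 ∧ ¬ VanS M.W r.asIdeal.primeCompl N ij.2) := fun ij => by
    obtain ⟨J, hJ⟩ := (PrimeSpectrum.isClosed_iff_zeroLocus_ideal _).1
      ((isOpen_vanS hω M N ij.1).union (isOpen_vanS hω M N ij.2)).isClosed_compl
    refine ⟨J, fun r => ?_⟩
    rw [← not_or, ← SetLike.coe_subset_coe, ← PrimeSpectrum.mem_zeroLocus, ← hJ]
    rfl
  choose J hJ using hJ
  let S : Finset (ℤ × ℤ) := Finset.Icc M.lo M.hi ×ˢ Finset.Icc M.lo M.hi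
  refine Set.Finite.subset ((S.finite_toSet.biUnion fun ij _ =>
    Ideal.finite_minimalPrimes_of_isNoetherianRing A (J ij)).preimage
      (f := PrimeSpectrum.asIdeal) fun a _ b _ h => PrimeSpectrum.ext h) fun p ⟨hdep, hdim⟩ => ?_
  haveI : Nontrivial (LocalizedModule p.asIdeal.primeCompl N) := not_subsingleton_iff_nontrivial.1 fun h => by
    rw [Module.supportDim_eq_bot_of_subsingleton] at hdim
    exact not_lt_bot hdim
  obtain ⟨d, e, hd, he, -, h1, h2, -⟩ := exists_profile hω M p N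
  obtain rfl : e = k := by rw [hdep] at he; exact_mod_cast he.symm
  rw [hd] at hdim
  have hed : e < d := by exact_mod_cast hdim
  let i := deg hω M p - e
  let j := deg hω M p - d
  have hS : (i, j) ∈ S := by
    simp only [S, Finset.mem_product, Finset.mem_Icc]
    refine ⟨⟨?_, ?_⟩, ?_, ?_⟩ <;> by_contra hcon
    exacts [h2 (vanS_outside M _ N i (Or.inl (not_le.1 hcon))), h2 (vanS_outside M _ N i (Or.inr (not_le.1 hcon))),
      h1 (vanS_outside M _ N j (Or.inl (not_le.1 hcon))), h1 (vanS_outside M _ N j (Or.inr (not_le.1 hcon)))]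
  refine Set.mem_iUnion₂.2 ⟨(i, j), hS, ⟨p.isPrime, (hJ (i, j) p).2 ⟨h2, h1⟩⟩, fun Q hQ hQp => ?_⟩
  obtain ⟨r, rfl⟩ : ∃ r : PrimeSpectrum A, r.asIdeal = Q := ⟨⟨Q, hQ.1⟩, rfl⟩
  obtain ⟨hri, hrj⟩ := (hJ (i, j) r).1 hQ.2
  haveI : Nontrivial (LocalizedModule r.asIdeal.primeCompl N) := not_subsingleton_iff_nontrivial.1 fun h =>
    hri (vanS_of_subsingleton_localized r N i)
  obtain ⟨d', e', hd', he', -, -, -, hrange⟩ := exists_profile hω M r N
  have hsk := hN r.asIdeal
  rw [hd', he', DepthLib.cast_min_le_iff] at hsk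
  have := hrange _ hri
  have := hrange _ hrj
  rcases (show r ≤ p from hQp).eq_or_lt with h | h
  · exact le_of_eq (congrArg PrimeSpectrum.asIdeal h).symm
  · have := deg_strictMono hω M h
    omega


include hω M in
theorem hasSk_iff (k : ℕ) (N : Type u) [AddCommGroup N] [Module A N] [Module.Finite A N] :
    LocCoh.HasSk k A N ↔ ∀ (i j : ℤ), j < i → ∀ p : PrimeSpectrum A,
      p ∈ Module.support A (Dual.inD A N ⟶ ω⟦i⟧) → p ∈ Module.support A (Dual.inD A N ⟶ ω⟦j⟧) →
        (((k : ℤ) + i - j).toNat : WithBot ℕ∞) ≤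
          Module.supportDim (Localization.AtPrime p.asIdeal) (LocalizedModule p.asIdeal.primeCompl N) := by
  constructor
  · intro h i j hij p hi hj
    exact (sk_point_iff hω M k p N).1 (h p.asIdeal) i j hij ((nontrivial_localized_iff M p N i).1 hi)
      ((nontrivial_localized_iff M p N j).1 hj)
  · intro h p hp
    exact (sk_point_iff hω M k ⟨p, hp⟩ N).2 fun i j hij hi hj => h i j hij ⟨p, hp⟩
      ((nontrivial_localized_iff M ⟨p, hp⟩ N i).2 hi) ((nontrivial_localized_iff M ⟨p, hp⟩ N j).2 hj)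

end Groth.Agent.Dlz27
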