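import Groth.Agent.Lib.Dlz27.OffSheaf
import Groth.Agent.Lib.Depth.More
import Mathlib.LinearAlgebra.PiTensorProduct.Basis
import Mathlib.LinearAlgebra.TensorPower.Basic
import Mathlib.LinearAlgebra.Dual.Defs
import Mathlib.LinearAlgebra.Dual.Lemmas
import Mathlib.RingTheory.Localization.BaseChange
import Mathlib.Algebra.Module.FinitePresentation
import Mathlib.RingTheory.LocalProperties.Exactness

/-!
# Reflexivity across closed subsets of codimension two
-/

set_option autoImplicit false
universe u

open CategoryTheory CategoryTheory.Limits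

attribute [local instance] HasDerivedCategory.standard

noncomputable section

namespace Groth.Agent.Dlz27

variable {A : Type u} [CommRing A] [IsNoetherianRing A]

theorem finite_tensorPower (N : Type u) [AddCommGroup N] [Module A N] [Module.Finite A N] (m : ℕ) :
    Module.Finite A (TensorPower A m N) := by
  obtain ⟨a, π, hπ⟩ := Module.Finite.exists_fin' A N
  haveI : Module.Finite A (PiTensorProduct A fun _ : Fin m => (Fin a → A)) :=
    Module.Finite.of_basis (Basis.piTensorProduct fun _ : Fin m => Pi.basisFun A (Fin a))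
  refine Module.Finite.of_surjective (PiTensorProduct.map (fun _ : Fin m => π)) ?_
  rw [← LinearMap.range_eq_top, eq_top_iff, ← PiTensorProduct.span_tprod_eq_top, Submodule.span_le]
  rintro _ ⟨v, rfl⟩
  choose w hw using fun i => hπ (v i)
  exact ⟨PiTensorProduct.tprod A w, by rw [PiTensorProduct.map_tprod]; simp [hw]⟩

/-- A dual module is the kernel of a map of free modules of positive rank. -/
theorem exists_dual_presentation (N : Type u) [AddCommGroup N] [Module A N] [Module.Finite A N] :
    ∃ (a b : ℕ) (u : (Fin a → A) →ₗ[A] (Fin (b + 1) → A)), Nonempty (Module.Dual A N ≃ₗ[A] LinearMap.ker u) := by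
  classical
  obtain ⟨a, π, hπ⟩ := Module.Finite.exists_fin' A N
  obtain ⟨b, g, hg⟩ := Submodule.fg_iff_exists_fin_generating_family.1 (IsNoetherian.noetherian (LinearMap.ker π))
  let g' : Fin (b + 1) → (Fin a → A) := Fin.cons 0 g
  let u : (Fin a → A) →ₗ[A] (Fin (b + 1) → A) :=
    LinearMap.pi fun j => ∑ l, g' j l • LinearMap.proj (R := A) (φ := fun _ : Fin a => A) l
  have hu : ∀ v j, u v j = ∑ l, g' j l * v l := fun v j => by simp [u]
  have hmem : ∀ j, g' j ∈ LinearMap.ker π := fun j => by
    refine Fin.cases ?_ (fun j => ?_) j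
    · exact Submodule.zero_mem _
    · simpa [g'] using hg.le (Submodule.subset_span ⟨j, rfl⟩)
  have happ : ∀ (φ : Module.Dual A N) (x : Fin a → A), φ (π x) = ∑ l, x l * φ (π (Pi.single l 1)) := fun φ x => by
    conv_lhs => rw [pi_eq_sum_univ' x]
    simp
  let ε : Module.Dual A N →ₗ[A] LinearMap.ker u :=
    LinearMap.codRestrict (LinearMap.ker u) (LinearMap.pi fun l => LinearMap.applyₗ (π (Pi.single l 1))) fun φ => by
      refine LinearMap.mem_ker.2 (funext fun j => ?_)
      rw [hu, Pi.zero_apply]
      show ∑ l, g' j l * φ (π (Pi.single l 1)) = 0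
      rw [← happ, LinearMap.mem_ker.1 (hmem j), map_zero]
  refine ⟨a, b, u, ⟨LinearEquiv.ofBijective ε ⟨fun φ ψ h => LinearMap.ext fun y => ?_, fun v => ?_⟩⟩⟩
  · obtain ⟨x, rfl⟩ := hπ y
    rw [happ, happ]
    exact Finset.sum_congr rfl fun l _ => congrArg (x l * ·) (congrFun (congrArg Subtype.val h) l)
  · let ψ : (Fin a → A) →ₗ[A] A := ∑ l, v.1 l • LinearMap.proj l
    have hle : LinearMap.ker π ≤ LinearMap.ker ψ := by
      rw [← hg, Submodule.span_le]
      rintro _ ⟨j, rfl⟩
      show ψ (g j) = 0
      have h := congrFun (LinearMap.mem_ker.1 v.2) j.succ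
      rw [hu, Pi.zero_apply] at h
      rw [← h]
      simp [ψ, g', mul_comm]
    refine ⟨(LinearMap.ker π).liftQ ψ hle ∘ₗ (π.quotKerEquivOfSurjective hπ).symm.toLinearMap, Subtype.ext (funext fun l => ?_)⟩
    show (LinearMap.ker π).liftQ ψ hle ((π.quotKerEquivOfSurjective hπ).symm (π (Pi.single l 1))) = v.1 l
    rw [show (π.quotKerEquivOfSurjective hπ).symm (π (Pi.single l 1)) = Submodule.Quotient.mk (Pi.single l 1) from
      (LinearEquiv.symm_apply_eq _).2 (by simp)]
    simp [ψ, Pi.single_apply]

theorem mem_support_pi (p : PrimeSpectrum A) (b : ℕ) : p ∈ Module.support A (Fin (b + 1) → A) := by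
  refine Module.mem_support_iff_exists_annihilator.2 ⟨fun _ => 1, fun a ha => ?_⟩
  rw [Submodule.mem_annihilator_span_singleton] at ha
  have := congrFun ha 0
  rw [Pi.smul_apply, smul_eq_mul, mul_one, Pi.zero_apply] at this
  rw [this]; exact zero_mem _

/-- Duals of finite modules are `(S_2)` over an `(S_2)` ring. -/
theorem hasSk_two_dual (h : LocCoh.HasSk 2 A A) (N : Type u) [AddCommGroup N] [Module A N] [Module.Finite A N] :
    LocCoh.HasSk 2 A (Module.Dual A N) := by
  obtain ⟨a, b, u, ⟨e⟩⟩ := exists_dual_presentation (A := A) N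
  refine DepthLib.hasSk_congr e.symm (DepthLib.hasSk_two_ker u (fun p _ => mem_support_pi p b) ?_ (DepthLib.hasSk_pi h a))
  intro p _
  exact le_trans (min_le_min (Nat.cast_le.2 one_le_two) le_rfl) (DepthLib.hasSk_pi h (b + 1) p)

theorem two_le_idealDepth_dual (J : Ideal A) (h : 2 ≤ LocCoh.idealDepth J A) (N : Type u) [AddCommGroup N] [Module A N]
    [Module.Finite A N] : 2 ≤ LocCoh.idealDepth J (Module.Dual A N) := by
  obtain ⟨a, b, u, ⟨e⟩⟩ := exists_dual_presentation (A := A) N
  rw [DepthLib.idealDepth_congr e]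
  exact DepthLib.two_le_idealDepth_ker J u (h.trans (DepthLib.idealDepth_le_pi J a))
    ((le_trans (by decide) h).trans (DepthLib.idealDepth_le_pi J (b + 1)))

theorem eq_zero_of_one_le_idealDepth (J : Ideal A) (N : Type u) [AddCommGroup N] [Module A N] [Module.Finite A N]
    (h : 1 ≤ LocCoh.idealDepth J N) (z : N) (k : ℕ) (hz : ∀ c ∈ J ^ k, c • z = 0) : z = 0 := by
  by_cases hJ : J • (⊤ : Submodule A N) = ⊤
  · obtain ⟨r, hr, hr'⟩ := Submodule.exists_sub_one_mem_and_smul_eq_zero_of_fg_of_le_smul J ⊤ Module.Finite.fg_top hJ.ge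
    have hrz : ∀ j : ℕ, (∀ c ∈ J ^ j, c • z = 0) → z = 0 := by
      intro j
      induction j with
      | zero => intro hj; simpa using hj 1 (by simp)
      | succ j ih =>
        intro hj
        refine ih fun c hc => ?_
        have h1 : r • (c • z) = 0 := hr' _ Submodule.mem_top
        have h2 : (r - 1) • (c • z) = 0 := by
          rw [smul_smul]; exact hj _ (by rw [pow_succ']; exact Ideal.mul_mem_mul hr hc)
        rw [sub_smul, h1, zero_sub, one_smul, neg_eq_zero] at h2
        exact h2
    exact hrz k hz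
  obtain ⟨x, hx, hreg⟩ := DepthLib.exists_isSMulRegular_of_one_le_idealDepth hJ h
  refine (hreg.pow k) ?_
  show x ^ k • z = x ^ k • (0 : N)
  rw [smul_zero]
  exact hz _ (Ideal.pow_mem_pow hx k)

/-- A map which is an isomorphism off `V(J)` from depth two to depth one is bijective. -/
theorem bijective_of_two_le_idealDepth (J : Ideal A) {L N : Type u} [AddCommGroup L] [Module A L] [Module.Finite A L]
    [AddCommGroup N] [Module A N] [Module.Finite A N] (hL : 2 ≤ LocCoh.idealDepth J L) (hN : 1 ≤ LocCoh.idealDepth J N)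
    (f : L →ₗ[A] N)
    (hf : ∀ p : PrimeSpectrum A, ¬ J ≤ p.asIdeal → Function.Bijective (LocalizedModule.map p.asIdeal.primeCompl f)) :
    Function.Bijective f := by
  have hkill : ∀ (X : Type u) [AddCommGroup X] [Module A X] [Module.Finite A X],
      (∀ p : PrimeSpectrum A, ¬ J ≤ p.asIdeal → p ∉ Module.support A X) → ∃ k : ℕ, ∀ c ∈ J ^ k, ∀ x : X, c • x = 0 :=
    fun X _ _ _ h => by
    have hrad : J ≤ (Module.annihilator A X).radical := by
      rw [← PrimeSpectrum.zeroLocus_subset_zeroLocus_iff, ← Module.support_eq_zeroLocus]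
      intro p hp
      by_contra hcon
      exact h p hcon hp
    obtain ⟨k, hk⟩ := Ideal.exists_pow_le_of_le_radical_of_fg hrad (IsNoetherian.noetherian _)
    exact ⟨k, fun c hc x => Module.mem_annihilator.1 (hk hc) x⟩
  have hinj : Function.Injective f := by
    obtain ⟨k, hk⟩ := hkill (LinearMap.ker f) fun p hp => Module.notMem_support_iff'.2 fun x => by
      have h0 : LocalizedModule.mk x.1 (1 : p.asIdeal.primeCompl) = 0 := (hf p hp).1 (by
        rw [LocalizedModule.map_mk, map_zero, LinearMap.mem_ker.1 x.2, LocalizedModule.zero_mk])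
      rw [← LocalizedModule.zero_mk (S := p.asIdeal.primeCompl) 1, LocalizedModule.mk_eq] at h0
      obtain ⟨t, ht⟩ := h0
      exact ⟨t, t.2, Subtype.ext (by simpa [Submonoid.smul_def] using ht)⟩
    rw [injective_iff_map_eq_zero]
    exact fun z hz => eq_zero_of_one_le_idealDepth J L (le_trans (by decide) hL) z k fun c hc =>
      congrArg Subtype.val (hk c hc ⟨z, hz⟩)
  refine ⟨hinj, ?_⟩
  obtain ⟨k, hk⟩ := hkill (N ⧸ LinearMap.range f) fun p hp => Module.notMem_support_iff'.2 fun x => by
    obtain ⟨y, rfl⟩ := Submodule.Quotient.mk_surjective _ x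
    obtain ⟨z, hz⟩ := (hf p hp).2 (LocalizedModule.mk y 1)
    induction z using LocalizedModule.induction_on with
    | h l s =>
      rw [LocalizedModule.map_mk, LocalizedModule.mk_eq] at hz
      obtain ⟨t, ht⟩ := hz
      refine ⟨(t : A) * s, p.asIdeal.primeCompl.mul_mem t.2 s.2, ?_⟩
      rw [← Submodule.Quotient.mk_smul, Submodule.Quotient.mk_eq_zero]
      refine ⟨(t : A) • l, ?_⟩
      rw [map_smul, mul_smul]
      simpa [Submonoid.smul_def] using ht
  by_cases hJL : J • (⊤ : Submodule A L) = ⊤
  · intro y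
    obtain ⟨r, hr, hr'⟩ := Submodule.exists_sub_one_mem_and_smul_eq_zero_of_fg_of_le_smul J ⊤ Module.Finite.fg_top hJL.ge
    have h1 : r • y = 0 := by
      refine eq_zero_of_one_le_idealDepth J N hN _ k fun c hc => ?_
      obtain ⟨l, hl⟩ := (Submodule.Quotient.mk_eq_zero _).1
        ((Submodule.Quotient.mk_smul (LinearMap.range f) c y).trans (hk c hc _))
      rw [smul_comm, ← hl, ← map_smul, hr' l Submodule.mem_top, map_zero]
    have hpow : ∀ i : ℕ, (1 - r) ^ i • y = y := fun i => by
      induction i with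
      | zero => rw [pow_zero, one_smul]
      | succ i ih => rw [pow_succ', mul_smul, ih, sub_smul, h1, one_smul, sub_zero]
    obtain ⟨l, hl⟩ := (Submodule.Quotient.mk_eq_zero _).1
      ((Submodule.Quotient.mk_smul (LinearMap.range f) ((1 - r) ^ k) y).trans
        (hk _ (Ideal.pow_mem_pow (by rw [← neg_sub]; exact neg_mem hr) k) _))
    exact ⟨l, hl.trans (hpow k)⟩
  obtain ⟨x, hx, hreg⟩ := DepthLib.exists_isSMulRegular_of_one_le_idealDepth hJL (le_trans (by decide) hL)
  have hQ : 1 ≤ LocCoh.idealDepth J (QuotSMulTop x L) := by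
    exact_mod_cast (DepthLib.natCast_le_idealDepth_quotSMulTop_iff hx hreg 1).2 (by exact_mod_cast hL)
  suffices key : ∀ (j : ℕ) (y : N), (∀ c ∈ J ^ j, c • y ∈ LinearMap.range f) → y ∈ LinearMap.range f from fun y =>
    key k y fun c hc => (Submodule.Quotient.mk_eq_zero _).1
      ((Submodule.Quotient.mk_smul (LinearMap.range f) c y).trans (hk c hc _))
  intro j
  induction j with
  | zero => intro y hy; simpa using hy 1 (by simp)
  | succ j ih =>
    intro y hy
    refine ih y fun c hc => ?_
    have hJy : ∀ d ∈ J, d • (c • y) ∈ LinearMap.range f := fun d hd => by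
      rw [smul_smul]; exact hy _ (by rw [pow_succ']; exact Ideal.mul_mem_mul hd hc)
    obtain ⟨a, ha⟩ := hJy x hx
    have haQ : (Submodule.Quotient.mk a : QuotSMulTop x L) = 0 := by
      refine eq_zero_of_one_le_idealDepth J _ hQ _ 1 fun d hd => ?_
      rw [pow_one] at hd
      obtain ⟨b, hb⟩ := hJy d hd
      rw [← Submodule.Quotient.mk_smul, Submodule.Quotient.mk_eq_zero]
      refine (Submodule.mem_smul_pointwise_iff_exists _ _ _).2 ⟨b, Submodule.mem_top, hinj ?_⟩
      rw [map_smul, map_smul, hb, ha, smul_comm]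
    obtain ⟨a', -, rfl⟩ := (Submodule.mem_smul_pointwise_iff_exists _ _ _).1 ((Submodule.Quotient.mk_eq_zero _).1 haQ)
    refine ⟨a', ?_⟩
    rw [← sub_eq_zero]
    refine eq_zero_of_one_le_idealDepth J N hN _ 1 fun d hd => ?_
    rw [pow_one] at hd
    obtain ⟨b, hb⟩ := hJy d hd
    have hxd : x • (b - d • a') = 0 := hinj (by
      rw [map_smul, map_sub, map_smul, hb, map_zero, smul_sub, smul_comm x d (f a'), ← map_smul f x a', ha, smul_comm d x,
        sub_self])
    have hb' : b = d • a' := sub_eq_zero.1 (hreg (hxd.trans (smul_zero x).symm))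
    rw [smul_sub, ← hb, hb', map_smul, sub_self]


theorem natCast_le_idealDepth_of_hasSk (J : Ideal A) (k : ℕ) (hk : (k : ℕ∞) ≤ J.height) (h : LocCoh.HasSk k A A) :
    (k : ℕ∞) ≤ LocCoh.idealDepth J A := by
  refine (DepthLib.natCast_le_idealDepth_iff_forall_localized k).2 fun p hp => ?_
  have h1 := h p.asIdeal
  rw [DepthLib.supportDim_eq_ringKrullDim_of_isPrime] at h1
  have h3 : ((k : ℕ∞) : WithBot ℕ∞) ≤ (p.asIdeal.height : WithBot ℕ∞) :=
    WithBot.coe_le_coe.2 (hk.trans (Ideal.height_mono hp))
  rw [min_eq_left (le_of_eq_of_le (by rfl) h3)] at h1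
  exact WithBot.coe_le_coe.1 (le_of_eq_of_le (by rfl) h1)

/-- The biduality map is bijective at a prime where the module is free of rank one. -/
theorem bijective_eval_localized (p : PrimeSpectrum A) (L : Type u) [AddCommGroup L] [Module A L] [Module.Finite A L]
    (hfree : Module.Free (Localization.AtPrime p.asIdeal) (LocalizedModule p.asIdeal.primeCompl L))
    (hrank : Module.finrank (Localization.AtPrime p.asIdeal) (LocalizedModule p.asIdeal.primeCompl L) = 1) :
    Function.Bijective (LocalizedModule.map p.asIdeal.primeCompl (Module.Dual.eval A L)) := by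
  classical
  let B := Localization.AtPrime p.asIdeal
  let S := p.asIdeal.primeCompl
  haveI : Module.Finite B (LocalizedModule S L) :=
    Module.Finite.of_isLocalizedModule S (LocalizedModule.mkLinearMap S L)
  haveI := hfree
  let b := Module.finBasisOfFinrankEq B (LocalizedModule S L) hrank
  obtain ⟨⟨x, t⟩, hx⟩ := IsLocalizedModule.surj S (LocalizedModule.mkLinearMap S L) (b 0)
  obtain ⟨φ, s, hφ⟩ := Module.FinitePresentation.exists_lift_of_isLocalizedModule S (Algebra.linearMap A B)
    ((b.coord 0).restrictScalars A ∘ₗ LocalizedModule.mkLinearMap S L)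
    (h := Module.finitePresentation_of_finite A L)
  have hmkx : LocalizedModule.mkLinearMap S L x = algebraMap A B t • b 0 := by
    rw [algebraMap_smul]; exact hx.symm
  have hφx : algebraMap A B (φ x) = algebraMap A B (s * t) := by
    have h := LinearMap.congr_fun hφ x
    simp only [LinearMap.comp_apply, Algebra.linearMap_apply, LinearMap.smul_apply, LinearMap.restrictScalars_apply] at h
    rw [h, hmkx, map_smul, b.coord_apply, b.repr_self, Finsupp.single_eq_same, smul_eq_mul, mul_one, Submonoid.smul_def,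
      Algebra.smul_def, map_mul]
  have hx0 : φ x ∉ p.asIdeal := fun h => by
    have := (IsLocalization.AtPrime.to_map_mem_maximal_iff B p.asIdeal (φ x)).2 h
    rw [hφx, IsLocalization.AtPrime.to_map_mem_maximal_iff B p.asIdeal] at this
    exact (S.mul_mem s.2 t.2) this
  have hgen : ∀ v : L, ∃ c : A, ∃ r ∈ S, r • v = c • x := fun v => by
    obtain ⟨a, r, hr⟩ := IsLocalization.exists_mk'_eq S (b.repr (LocalizedModule.mkLinearMap S L v) 0)
    have hv : (r : A) • (t : A) • LocalizedModule.mkLinearMap S L v = a • LocalizedModule.mkLinearMap S L x := by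
      conv_lhs => rw [← b.sum_repr (LocalizedModule.mkLinearMap S L v)]
      rw [Fin.sum_univ_one, ← hr, hmkx, ← algebraMap_smul B (t : A), ← algebraMap_smul B (r : A), ← algebraMap_smul B a]
      simp only [smul_smul]
      congr 1
      calc algebraMap A B r * (algebraMap A B t * IsLocalization.mk' B a r)
          = algebraMap A B t * (IsLocalization.mk' B a r * algebraMap A B r) := by ring
        _ = algebraMap A B t * algebraMap A B a := by rw [IsLocalization.mk'_spec]
        _ = algebraMap A B a * algebraMap A B t := mul_comm _ _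
    rw [← map_smul, ← map_smul, ← map_smul, IsLocalizedModule.eq_iff_exists S] at hv
    obtain ⟨w, hw⟩ := hv
    refine ⟨w * a, w * r * t, S.mul_mem (S.mul_mem w.2 r.2) t.2, ?_⟩
    rw [mul_smul, mul_smul, mul_smul]
    simpa [Submonoid.smul_def] using hw
  obtain ⟨g, hg⟩ := Module.Finite.fg_top (R := A) (M := L)
  choose c r hr hc using hgen
  let r₀ : A := ∏ v ∈ g, r v
  have hr₀ : r₀ ∈ S := prod_mem fun v _ => hr v
  have hall : ∀ v, ∃ c : A, r₀ • v = c • x := fun v => by
    induction (hg ▸ Submodule.mem_top : v ∈ Submodule.span A (g : Set L)) using Submodule.span_induction with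
    | mem v hv =>
      obtain ⟨d, hd⟩ := Finset.dvd_prod_of_mem r hv
      exact ⟨d * c v, by rw [show r₀ = r v * d from hd, mul_comm, mul_smul, hc, smul_smul]⟩
    | zero => exact ⟨0, by rw [smul_zero, zero_smul]⟩
    | add a b _ _ ha hb =>
      obtain ⟨e, he⟩ := ha; obtain ⟨e', he'⟩ := hb
      exact ⟨e + e', by rw [smul_add, he, he', add_smul]⟩
    | smul a v _ hv => obtain ⟨e, he⟩ := hv; exact ⟨a * e, by rw [smul_comm, he, smul_smul]⟩
  refine ⟨?_, fun z => ?_⟩
  · rw [injective_iff_map_eq_zero]
    intro z hz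
    induction z using LocalizedModule.induction_on with
    | h v q =>
      rw [LocalizedModule.map_mk, ← LocalizedModule.zero_mk (S := S) q, LocalizedModule.mk_eq] at hz
      obtain ⟨w, hw⟩ := hz
      simp only [smul_zero, Submonoid.smul_def, smul_smul] at hw
      obtain ⟨e, he⟩ := hall v
      have h1 : ((w : A) * q) * φ v = 0 := by
        have := LinearMap.congr_fun hw φ
        rwa [LinearMap.smul_apply, Module.Dual.eval_apply, smul_eq_mul, LinearMap.zero_apply] at this
      have h2 : ((w : A) * q) * φ x * e = 0 := by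
        have h3 := congrArg φ he
        rw [map_smul, map_smul, smul_eq_mul, smul_eq_mul] at h3
        calc ((w : A) * q) * φ x * e = ((w : A) * q) * (e * φ x) := by ring
          _ = ((w : A) * q) * (r₀ * φ v) := by rw [h3]
          _ = r₀ * (((w : A) * q) * φ v) := by ring
          _ = 0 := by rw [h1, mul_zero]
      rw [← LocalizedModule.zero_mk (S := S) q, LocalizedModule.mk_eq]
      refine ⟨⟨(w : A) * q * φ x * r₀, S.mul_mem (S.mul_mem (S.mul_mem w.2 q.2) hx0) hr₀⟩, ?_⟩
      simp only [smul_zero, Submonoid.smul_def, smul_smul]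
      rw [show (w : A) * q * φ x * r₀ * (q : A) = (q : A) * ((w : A) * q * φ x) * r₀ by ring, mul_smul, he, smul_smul,
        show (q : A) * ((w : A) * q * φ x) * e = (q : A) * ((w : A) * q * φ x * e) by ring, h2, mul_zero, zero_smul]
  · induction z using LocalizedModule.induction_on with
    | h Φ q =>
      refine ⟨LocalizedModule.mk ((r₀ * Φ φ) • x) (q * ⟨r₀ * φ x, S.mul_mem hr₀ hx0⟩), ?_⟩
      rw [LocalizedModule.map_mk, LocalizedModule.mk_eq]
      refine ⟨1, ?_⟩
      simp only [one_smul, Submonoid.smul_def, Submonoid.coe_mul]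
      refine LinearMap.ext fun ψ => ?_
      simp only [LinearMap.smul_apply, Module.Dual.eval_apply, map_smul, smul_eq_mul]
      have h1 : r₀ • (φ x • ψ - ψ x • φ) = 0 := LinearMap.ext fun v => by
        obtain ⟨e, he⟩ := hall v
        show r₀ • (φ x • ψ v - ψ x • φ v) = 0
        have h3 := congrArg φ he
        have h4 := congrArg ψ he
        simp only [map_smul, smul_eq_mul] at h3 h4 ⊢
        linear_combination φ x * h4 - ψ x * h3
      have h2 := congrArg Φ h1
      rw [map_smul, map_sub, map_smul, map_smul, map_zero] at h2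
      simp only [smul_eq_mul] at h2
      linear_combination -(q : A) * h2

/-- The statement for a dualizing complex which is an invertible sheaf off `V(J)`. -/
theorem reflexive_of_invertible_off [IsLocalRing A] {ω : Dual.D A} (hω : Dual.IsDualizing A ω) (M : Model ω)
    (n : ℕ) (hd : ringKrullDim A = n) (J : Ideal A) (hJ : 2 ≤ J.height)
    (hoff : ∀ p : PrimeSpectrum A, ¬ J ≤ p.asIdeal →
      (∀ i : ℤ, i ≠ 0 → p ∉ Module.support A (Dual.HD A ω i)) ∧
      Module.Free (Localization.AtPrime p.asIdeal) (LocalizedModule p.asIdeal.primeCompl (Dual.HD A ω 0)) ∧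
      Module.finrank (Localization.AtPrime p.asIdeal) (LocalizedModule p.asIdeal.primeCompl (Dual.HD A ω 0)) = 1) :
    (LocCoh.HasSk 1 A A →
      (EGA4.IsEquidim A ∧ Dual.IsNormalized A (ω⟦(n : ℤ)⟧)) ∧
      Module.IsReflexive A (Dual.HD A ω 0) ∧ LocCoh.HasSk 2 A (Dual.HD A ω 0)) ∧
    (LocCoh.HasSk 2 A A → ∀ m : ℕ,
      LocCoh.HasSk 2 A (Module.Dual A (Module.Dual A (TensorPower A m (Dual.HD A ω 0)))) ∧
      2 ≤ LocCoh.idealDepth J (Module.Dual A (Module.Dual A (TensorPower A m (Dual.HD A ω 0))))) := by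
  haveI := hω.finite_cohomology 0
  obtain ⟨⟨h1, h2, h3⟩, h4⟩ :=
    ordinary_of_sheaf_off hω M n hd J (le_trans (by decide) hJ) fun p hp => (hoff p hp).1
  have hdual : ∀ (N : Type u) [AddCommGroup N] [Module A N] [Module.Finite A N], Module.Finite A (Module.Dual A N) :=
    fun N _ _ _ => by
    obtain ⟨a, b, u, ⟨e⟩⟩ := exists_dual_presentation (A := A) N
    exact Module.Finite.equiv e.symm
  refine ⟨fun hS1 => ⟨⟨h1, h2⟩, ⟨?_⟩, h3⟩, fun hS2 m => ?_⟩
  · haveI := hdual (Dual.HD A ω 0)
    haveI := hdual (Module.Dual A (Dual.HD A ω 0))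
    refine bijective_of_two_le_idealDepth J (h4 hJ) ?_ _ fun p hp =>
      bijective_eval_localized p _ (hoff p hp).2.1 (hoff p hp).2.2
    obtain ⟨a, b, u, ⟨e⟩⟩ := exists_dual_presentation (A := A) (Module.Dual A (Dual.HD A ω 0))
    have hA : ((1 : ℕ) : ℕ∞) ≤ LocCoh.idealDepth J A :=
      natCast_le_idealDepth_of_hasSk J 1 (le_trans (by decide) hJ) hS1
    rw [DepthLib.idealDepth_congr e]
    exact DepthLib.one_le_idealDepth_of_injective J _ (LinearMap.ker u).injective_subtype
      ((le_trans (by simp) hA).trans (DepthLib.idealDepth_le_pi J a))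
  · haveI := finite_tensorPower (A := A) (Dual.HD A ω 0) m
    haveI := hdual (TensorPower A m (Dual.HD A ω 0))
    exact ⟨hasSk_two_dual hS2 _, two_le_idealDepth_dual J
      (natCast_le_idealDepth_of_hasSk J 2 hJ hS2) _⟩

end Groth.Agent.Dlz27
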