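import Groth.Agent.Lib.Dlz27.LocCx
import Mathlib.RingTheory.Localization.Finiteness

/-!
# Localization of a dualizing complex
-/

set_option autoImplicit false
universe u

open CategoryTheory CategoryTheory.Limits CochainComplex.HomComplex

attribute [local instance] HasDerivedCategory.standard

noncomputable section

namespace Groth.Agent.Dlz27

variable {A : Type u} [CommRing A]

theorem isDualizing_of_iso {ω ω' : Dual.D A} (e : ω ≅ ω') (h : Dual.IsDualizing A ω) : Dual.IsDualizing A ω' := by
  obtain ⟨a, b, hab⟩ := h.finite_injective_dimension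
  refine ⟨h.isNoetherianRing, ⟨a, b, fun M _ _ i hi => ?_⟩, fun i => ?_, ?_, fun i hi => ?_⟩
  · have := hab M i hi
    exact (Iso.homCongr (Iso.refl _) ((shiftFunctor (Dual.D A) i).mapIso e)).symm.subsingleton
  · have := h.finite_cohomology i
    exact Module.Finite.equiv ((DerivedCategory.homologyFunctor (ModuleCat.{u} A) i).mapIso e).toLinearEquiv
  · have heq : (fun a : A => a • 𝟙 ω') = (fun f => e.inv ≫ f ≫ e.hom) ∘ (fun a : A => a • 𝟙 ω) := by
      funext a
      simp
    rw [heq]
    exact (Iso.homCongr e e).bijective.comp h.toEnd_bijective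
  · have := h.ext_self_subsingleton i hi
    exact (Iso.homCongr e ((shiftFunctor (Dual.D A) i).mapIso e)).symm.subsingleton

variable (S : Submonoid A)

instance isStrictlyGE_locCx (W : DRing.Cx A) (a : ℤ) [W.IsStrictlyGE a] : (locCx S W).IsStrictlyGE a :=
  (CochainComplex.isStrictlyGE_iff _ _).2 fun i hi => Functor.map_isZero (locF S) (W.isZero_of_isStrictlyGE a i hi)

instance isStrictlyLE_locCx (W : DRing.Cx A) (b : ℤ) [W.IsStrictlyLE b] : (locCx S W).IsStrictlyLE b :=
  (CochainComplex.isStrictlyLE_iff _ _).2 fun i hi => Functor.map_isZero (locF S) (W.isZero_of_isStrictlyLE b i hi)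

theorem finite_homology_locCx (W : DRing.Cx A) (i : ℤ) (h : Module.Finite A (W.homology i)) :
    Module.Finite (Localization S) ((locCx S W).homology i) := by
  haveI h1 : Module.Finite (Localization S) ((W.homology i).localizedModule S) :=
    Module.Finite.of_isLocalizedModule S ((W.homology i).localizedModuleMkLinearMap S)
  have l : (W.homology i).localizedModule S ≃ₗ[Localization S] (locCx S W).homology i :=
    ((W.sc i).mapHomologyIso (locF S)).symm.toLinearEquiv
  exact Module.Finite.equiv l

variable {ω : Dual.D A} (hω : Dual.IsDualizing A ω) [IsNoetherianRing A]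

section Endo

variable (M : Model ω) [(locCx S M.W).IsKInjective] {P : DRing.Cx A}
variable (hP : ∀ i, Module.Finite A (P.X i) ∧ Module.Free A (P.X i)) (q : P ⟶ M.W)
variable [IsIso (DerivedCategory.Q.map q)] [IsIso (DerivedCategory.Q.map (((locF S).mapHomologicalComplex (ComplexShape.up ℤ)).map q))]

include hω hP q in
theorem toEnd_injective {b b' : Localization S} (hbb : b • 𝟙 (DerivedCategory.Q.obj (locCx S M.W)) = b' • 𝟙 _) : b = b' := by
  let Lq := ((locF S).mapHomologicalComplex (ComplexShape.up ℤ)).map q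
  have hu : ∀ s : S, IsUnit (algebraMap A (Localization S) s) := fun s => IsLocalization.map_units (Localization S) s
  refine sub_eq_zero.1 ?_
  obtain ⟨⟨a, s⟩, has⟩ := IsLocalization.surj S (b - b')
  have hzero : algebraMap A (Localization S) a • 𝟙 (DerivedCategory.Q.obj (locCx S M.W)) = 0 := by
    rw [← has, mul_comm, mul_smul, sub_smul, hbb, sub_self, smul_zero]
  have hQ : DerivedCategory.Q.map (algebraMap A (Localization S) a • Lq) = DerivedCategory.Q.map 0 := by
    rw [Functor.map_zero, Functor.map_smul, ← Category.comp_id (DerivedCategory.Q.map Lq), ← Linear.comp_smul,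
      hzero, comp_zero]
  obtain ⟨H⟩ := (KInjLib.map_eq_iff _ _).1 hQ
  obtain ⟨w, hw⟩ := Cochain.equivHomotopy _ _ H
  rw [Cochain.ofHom_zero, add_zero] at hw
  obtain ⟨t, c, hc⟩ := exists_lift_cochain S M.lo M.hi hP w
  have h2 : (((t : A) * a) • Cochain.ofHom q - δ (-1) 0 c).map (locF S) = 0 := by
    rw [Cochain.map_sub, map_smul_cochain, ← δ_map, ← hc, δ_smul, ← hw, Cochain.map_ofHom, map_mul, mul_smul,
      show Cochain.ofHom (algebraMap A (Localization S) a • Lq) = algebraMap A (Localization S) a • Cochain.ofHom Lq by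
        ext p; simp, sub_self]
  obtain ⟨r, hr⟩ := exists_kill_cochain S M.lo M.hi hP _ h2
  rw [smul_sub, ← δ_smul, smul_smul, sub_eq_zero] at hr
  have h3 := scalar_eq_zero hω q M.e hr
  have h4 : algebraMap A (Localization S) ((r : A) * ((t : A) * a)) = 0 := by rw [h3, map_zero]
  rw [map_mul, map_mul, ← has, (hu r).mul_right_eq_zero, (hu t).mul_right_eq_zero,
    (hu s).mul_left_eq_zero] at h4
  exact h4

include hω hP q in
theorem toEnd_surjective (φ : DerivedCategory.Q.obj (locCx S M.W) ⟶ DerivedCategory.Q.obj (locCx S M.W)) :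
    ∃ b : Localization S, b • 𝟙 _ = φ := by
  let Lq := ((locF S).mapHomologicalComplex (ComplexShape.up ℤ)).map q
  obtain ⟨g, hg⟩ := KInjLib.exists_map_eq (DerivedCategory.Q.map Lq ≫ φ)
  obtain ⟨s, c, hc0, hc⟩ := exists_lift_cocycle S M.lo M.hi hP (Cochain.ofHom g) (δ_ofHom g)
  obtain ⟨a, w, hw⟩ := exists_scalar hω q M.e c hc0
  refine ⟨IsLocalization.mk' (Localization S) a s, ?_⟩
  show IsLocalization.mk' (Localization S) a s • 𝟙 _ = φ
  rw [← cancel_epi (DerivedCategory.Q.map Lq), Linear.comp_smul, Category.comp_id, ← hg, ← Functor.map_smul]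
  refine ((KInjLib.map_eq_iff _ _).2 ⟨(Cochain.equivHomotopy _ _).symm
    ⟨IsLocalization.mk' (Localization S) (1 : A) s • w.map (locF S), ?_⟩⟩).symm
  have h2 : Cochain.ofHom g = IsLocalization.mk' (Localization S) (1 : A) s • c.map (locF S) := by
    rw [← hc, smul_smul, IsLocalization.mk'_spec, map_one, one_smul]
  rw [h2, hw, Cochain.map_add, map_smul_cochain, Cochain.map_ofHom, smul_add, smul_smul,
    ← δ_map, δ_smul, add_comm,
    show Cochain.ofHom (IsLocalization.mk' (Localization S) a s • Lq) =
      IsLocalization.mk' (Localization S) a s • Cochain.ofHom Lq by ext p; simp,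
    show IsLocalization.mk' (Localization S) (1 : A) s * algebraMap A (Localization S) a =
      IsLocalization.mk' (Localization S) a s by
        rw [mul_comm, IsLocalization.mul_mk'_eq_mk'_of_mul, mul_one]]

include hω hP q in
theorem ext_self_locCx {n : ℤ} (hn : n ≠ 0) :
    Subsingleton (DerivedCategory.Q.obj (locCx S M.W) ⟶ (DerivedCategory.Q.obj (locCx S M.W))⟦n⟧) := by
  let Lq := ((locF S).mapHomologicalComplex (ComplexShape.up ℤ)).map q
  refine ⟨fun φ ψ => ?_⟩
  suffices H : ∀ φ : DerivedCategory.Q.obj (locCx S M.W) ⟶ (DerivedCategory.Q.obj (locCx S M.W))⟦n⟧, φ = 0 from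
    (H φ).trans (H ψ).symm
  intro φ
  rw [← cancel_epi (DerivedCategory.Q.map Lq), comp_zero]
  obtain ⟨z, hz⟩ := hcl_surjective (DerivedCategory.Q.map Lq ≫ φ)
  have hz0 : δ n (n + 1) z.1 = 0 := Cocycle.δ_eq_zero z (n + 1)
  obtain ⟨s, c, hc0, hc⟩ := exists_lift_cocycle S (P := P) (W := M.W) M.lo M.hi hP z.1 hz0
  obtain ⟨w, hw⟩ := coboundary_of_subsingleton (asIso (DerivedCategory.Q.map q) ≪≫ M.e) M.e
    (hω.ext_self_subsingleton n hn) c hc0
  rw [← hz, hcl_eq_zero_iff]
  refine ⟨IsLocalization.mk' (Localization S) (1 : A) s • w.map (locF S), ?_⟩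
  rw [δ_smul, δ_map, hw, ← hc, smul_smul, IsLocalization.mk'_spec, map_one, one_smul]

end Endo

include hω in
theorem isDualizing_locCx (M : Model ω) :
    Dual.IsDualizing (Localization S) (DerivedCategory.Q.obj (locCx S M.W)) := by
  have hWi : ∀ i, Injective ((locCx S M.W).X i) := fun i => injective_locF S (M.inj i)
  haveI : (locCx S M.W).IsKInjective := CochainComplex.isKInjective_of_injective _ M.lo
  haveI : (DerivedCategory.Q.obj M.W).IsLE M.hi := inferInstance
  obtain ⟨P, hPle, hP, ⟨eP⟩⟩ := exists_res_finiteFree (DerivedCategory.Q.obj M.W) M.hi fun i => by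
    have := hω.finite_cohomology i
    exact Module.Finite.equiv ((DerivedCategory.homologyFunctor (ModuleCat.{u} A) i).mapIso M.e).toLinearEquiv.symm
  obtain ⟨q, hq⟩ := KInjLib.exists_map_eq eP.hom
  haveI hqi : IsIso (DerivedCategory.Q.map q) := by rw [hq]; infer_instance
  let Lq := ((locF S).mapHomologicalComplex (ComplexShape.up ℤ)).map q
  haveI hLq : IsIso (DerivedCategory.Q.map Lq) := by
    haveI := (DerivedCategory.isIso_Q_map_iff_quasiIso _ q).1 hqi
    exact (DerivedCategory.isIso_Q_map_iff_quasiIso _ _).2 inferInstance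
  refine ⟨IsLocalization.isNoetherianRing S _ inferInstance, ⟨M.lo, M.hi, fun N _ _ i hi => ?_⟩, fun i => ?_, ⟨?_, ?_⟩, fun n hn => ?_⟩
  · refine (subsingleton_hom_iff_van (W := locCx S M.W) (Iso.refl _) N i).2 fun f _ => ⟨0, ?_⟩
    have hz : IsZero ((locCx S M.W).X i) := by
      rcases hi with hi | hi
      · exact (locCx S M.W).isZero_of_isStrictlyGE M.lo i hi
      · exact (locCx S M.W).isZero_of_isStrictlyLE M.hi i hi
    haveI := ModuleCat.subsingleton_of_isZero hz
    exact Subsingleton.elim _ _
  · have h1 : Module.Finite A (M.W.homology i) := by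
      have := hω.finite_cohomology i
      exact Module.Finite.equiv ((DerivedCategory.homologyFunctorFactors (ModuleCat.{u} A) i).symm.app M.W ≪≫
        (DerivedCategory.homologyFunctor (ModuleCat.{u} A) i).mapIso M.e).toLinearEquiv.symm
    have := finite_homology_locCx S M.W i h1
    have l : (locCx S M.W).homology i ≃ₗ[Localization S] Dual.HD (Localization S) (DerivedCategory.Q.obj (locCx S M.W)) i :=
      ((DerivedCategory.homologyFunctorFactors (ModuleCat.{u} (Localization S)) i).app (locCx S M.W)).toLinearEquiv.symm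
    exact Module.Finite.equiv l
  · exact fun b b' hbb => toEnd_injective S hω M hP q hbb
  · exact fun φ => toEnd_surjective S hω M hP q φ
  · exact ext_self_locCx S hω M hP q hn

include hω in
theorem isDualizing_LBaseChange [DRing.HasLBaseChange (algebraMap A (Localization S))] :
    Dual.IsDualizing (Localization S) ((DRing.LBaseChange (algebraMap A (Localization S))).obj ω) := by
  let M := model hω
  obtain ⟨e⟩ := exists_LBaseChange_iso S M.W
  exact isDualizing_of_iso (e.symm ≪≫ (DRing.LBaseChange (algebraMap A (Localization S))).mapIso M.e)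
    (isDualizing_locCx S hω M)

end Groth.Agent.Dlz27
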