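import Groth.Agent.Lib.Dlz27.LocalDual
import Groth.Agent.Lib.Dlz27.Local
import Groth.Agent.Lib.Dlz27.Loc
import Groth.Agent.Lib.Dlz27.Deg
import Groth.Agent.Lib.Dlz27.Shift
import Groth.Agent.Lib.Goren.GorenQuot27
import Groth.Agent.Lib.LocCoh.Flat
import Groth.Agent.Lib.CanonMod.Completion27
import Groth.Agent.Lib.FlatDepth.CplQuot
import Groth.Agent.S0553
import Groth.Agent.S2636

/-!
# Rings with dualizing complexes are universally catenary
-/

set_option autoImplicit false
universe u

open CategoryTheory IsLocalRing TensorProduct Groth.Agent.LocCohLib Groth.Agent.InjHullLib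

attribute [local instance] HasDerivedCategory.standard

noncomputable section

namespace Groth.Agent.Dlz27

variable {A : Type u} [CommRing A] [IsLocalRing A] [IsNoetherianRing A] {ω : Dual.D A}

/-- Away from one degree, the local cohomology of `A ⧸ p` is killed outside `p`. -/
theorem exists_kills_H_quotient (hω : Dual.IsDualizing A ω) (hn : Dual.IsNormalized A ω) (p : Ideal A) [hp : p.IsPrime]
    {d : ℕ} (hd : ringKrullDim (A ⧸ p) = d) (i : ℕ) (hi : i ≠ d) :
    ∃ a, a ∉ p ∧ ∀ x : LocCoh.H (maximalIdeal A) i (A ⧸ p), a • x = 0 := by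
  classical
  obtain ⟨E, _, _, f, hf⟩ := InjHullLib.exists_injective_hull A (ResidueField A)
  let M := model hω
  obtain ⟨e⟩ := exists_localDual M hω hn hf (A ⧸ p) i
  let P : PrimeSpectrum A := ⟨p, hp⟩
  obtain ⟨h1, h2⟩ := dim_quotient_normalized hω M hn P
  have hdeg : -deg hω M P = d := by
    have h3 : (((-deg hω M P).toNat : ℕ∞) : WithBot ℕ∞) = d := h2.symm.trans hd
    have h4 : (-deg hω M P).toNat = d := by exact_mod_cast h3
    omega
  have hv : VanS M.W P.asIdeal.primeCompl (A ⧸ p) (-(i : ℤ)) := (vanS_iff_ne_deg hω M P _).2 (by omega)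
  rw [vanS_iff_hom] at hv
  obtain ⟨S, hS⟩ := finite_hom M hω (A ⧸ p) (-(i : ℤ)) |>.fg_top
  choose s hs using hv
  refine ⟨∏ φ ∈ S, (s φ : A), fun hmem => ?_, fun x => e.injective ?_⟩
  · obtain ⟨φ, -, hφ⟩ := (Ideal.IsPrime.prod_mem_iff).1 hmem
    exact (s φ).2 hφ
  · rw [map_smul, map_zero]
    refine LinearMap.ext_on hS fun φ hφ => ?_
    rw [LinearMap.smul_apply, LinearMap.zero_apply, ← map_smul, ← Finset.prod_erase_mul _ _ hφ, mul_smul, hs, smul_zero,
      map_zero]

/-- Every component of the completion of `A ⧸ p` has the dimension of `A ⧸ p`. -/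
theorem dim_component (hω : Dual.IsDualizing A ω) (hn : Dual.IsNormalized A ω) (p : Ideal A) [hp : p.IsPrime]
    {d : ℕ} (hd : ringKrullDim (A ⧸ p) = d) (Q : Ideal (EGA4.Cpl A))
    (hQ : Q ∈ (p.map (algebraMap A (EGA4.Cpl A))).minimalPrimes) : ringKrullDim (EGA4.Cpl A ⧸ Q) = d := by
  haveI hQp : Q.IsPrime := hQ.1.1
  haveI : Module.FaithfullyFlat A (EGA4.Cpl A) := CplLocH7.faithfullyFlat_cpl A
  obtain ⟨S, _, _, _, hs⟩ := CanonModLib.exists_gorenstein_surjection (R := A)
  obtain ⟨e, he⟩ : ∃ e : ℕ, ringKrullDim (EGA4.Cpl A ⧸ Q) = e := by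
    haveI : IsLocalRing (EGA4.Cpl A ⧸ Q) := IsLocalRing.of_surjective' (Ideal.Quotient.mk Q) Ideal.Quotient.mk_surjective
    exact RegLoc.exists_dim_eq_nat
  by_contra hne
  have hed : e ≠ d := fun h => hne (h ▸ he)
  obtain ⟨a, hap, ha⟩ := exists_kills_H_quotient hω hn p hd e hed
  set J := p.map (algebraMap A (EGA4.Cpl A)) with hJ
  -- the image of `a` lies in `Q`
  have hcontr : Q.comap (algebraMap A (EGA4.Cpl A)) = p := by
    refine le_antisymm (fun b hb => ?_) (fun b hb => hQ.1.2 (Ideal.mem_map_of_mem _ hb))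
    by_contra hbp
    obtain ⟨z, hz, hzJ⟩ : ∃ z, z ∉ J ∧ algebraMap A (EGA4.Cpl A) b * z ∈ J := by
      obtain ⟨⟨z, hz⟩, hz'⟩ : ∃ z : {z // z ∉ J}, algebraMap A (EGA4.Cpl A) b * z.1 ∈ J := by
        have hmem : Q ∈ associatedPrimes (EGA4.Cpl A) (EGA4.Cpl A ⧸ J) :=
          Module.associatedPrimes.minimalPrimes_annihilator_subset_associatedPrimes _ _
            (by rwa [Ideal.annihilator_quotient])
        obtain ⟨hprime, w, hw⟩ := isAssociatedPrime_iff.1 hmem
        obtain ⟨z, rfl⟩ := Submodule.Quotient.mk_surjective _ w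
        refine ⟨⟨z, fun hzJ => hprime.ne_top ?_⟩, ?_⟩
        · rw [hw, (Submodule.Quotient.mk_eq_zero _).2 hzJ]
          ext; simp [Submodule.mem_colon_singleton]
        · have h5 : algebraMap A (EGA4.Cpl A) b ∈ Q := hb
          rw [hw, Submodule.mem_colon_singleton, Submodule.mem_bot, ← Submodule.Quotient.mk_smul,
            Submodule.Quotient.mk_eq_zero] at h5
          exact h5
      exact ⟨z, hz, hz'⟩
    let μ : (A ⧸ p) →ₗ[A] (A ⧸ p) := LinearMap.lsmul A (A ⧸ p) b
    have hμ : Function.Injective μ := by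
      refine (injective_iff_map_eq_zero μ).2 fun w hw => ?_
      obtain ⟨c, rfl⟩ := Ideal.Quotient.mk_surjective w
      have : b * c ∈ p := by
        have h6 : b • Ideal.Quotient.mk p c = 0 := hw
        rwa [Algebra.smul_def, Ideal.Quotient.algebraMap_eq, ← map_mul, Ideal.Quotient.eq_zero_iff_mem] at h6
      exact Ideal.Quotient.eq_zero_iff_mem.2 ((hp.mem_or_mem this).resolve_left hbp)
    have hinj := Module.Flat.lTensor_preserves_injective_linearMap (M := EGA4.Cpl A) μ hμ
    let eT : EGA4.Cpl A ⊗[A] (A ⧸ p) ≃ₗ[EGA4.Cpl A] EGA4.Cpl A ⧸ J := (Ideal.qoutMapEquivTensorQout (EGA4.Cpl A)).symm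
    refine hz ((Submodule.Quotient.mk_eq_zero J).1 (eT.symm.injective ?_))
    rw [map_zero]
    refine hinj ?_
    rw [map_zero]
    have key : ∀ t, μ.lTensor (EGA4.Cpl A) t = algebraMap A (EGA4.Cpl A) b • t := fun t => by
      induction t using TensorProduct.induction_on with
      | zero => simp
      | tmul c w => rw [LinearMap.lTensor_tmul, algebraMap_smul, ← TensorProduct.tmul_smul]; rfl
      | add s t hs ht => simp only [map_add, smul_add, hs, ht]
    rw [key, ← map_smul, ← Submodule.Quotient.mk_smul, smul_eq_mul, (Submodule.Quotient.mk_eq_zero J).2 hzJ, map_zero]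
  have haQ : algebraMap A (EGA4.Cpl A) a ∉ Q := fun h => hap (hcontr ▸ h)
  -- it kills local cohomology of the completion
  have hkill : ∀ x : LocCoh.H (maximalIdeal (EGA4.Cpl A)) e (EGA4.Cpl A ⧸ J), algebraMap A (EGA4.Cpl A) a • x = 0 := by
    obtain ⟨e1⟩ := nonempty_baseChange_H (EGA4.Cpl A) (maximalIdeal A) e (A ⧸ p)
    let e2 := e1.trans (hcongr _ e (Ideal.qoutMapEquivTensorQout (EGA4.Cpl A) (I := p)).symm)
    intro x
    have hm : (maximalIdeal A).map (algebraMap A (EGA4.Cpl A)) = maximalIdeal (EGA4.Cpl A) :=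
      (CplLocH7.maximalIdeal_cpl A).symm
    revert x
    rw [← hm]
    intro x
    obtain ⟨t, rfl⟩ := e2.surjective x
    rw [← map_smul]
    refine (congrArg e2 ?_).trans (map_zero e2)
    induction t using TensorProduct.induction_on with
    | zero => rw [smul_zero]
    | tmul c w => rw [algebraMap_smul, ← TensorProduct.tmul_smul, ha, TensorProduct.tmul_zero]
    | add s t hs ht => rw [smul_add, hs, ht, add_zero]
  have hrad : Ideal.span {algebraMap A (EGA4.Cpl A) a} ≤
      (Module.annihilator (EGA4.Cpl A) (LocCoh.H (maximalIdeal (EGA4.Cpl A)) e (EGA4.Cpl A ⧸ J))).radical :=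
    ((Ideal.span_singleton_le_iff_mem _).2 (Module.mem_annihilator.2 hkill)).trans Ideal.le_radical
  have h0 := (GorenLib.le_radical_annihilator_H_quot_iff hs (EGA4.Cpl A ⧸ J) _ e).1 hrad Q
    (fun h => haQ (h (Ideal.mem_span_singleton_self _))) e 0 he (zero_add e)
  have hsub := (zeroEquiv (maximalIdeal (Localization.AtPrime Q))
    (LocalizedModule Q.primeCompl (EGA4.Cpl A ⧸ J))).symm.toEquiv.subsingleton
  -- the localization at a minimal prime is killed by a power of the maximal ideal
  haveI : Nontrivial (LocalizedModule Q.primeCompl (EGA4.Cpl A ⧸ J)) :=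
    (Module.mem_support_iff (p := ⟨Q, hQp⟩)).1 (by
      rw [Module.support_eq_zeroLocus, Ideal.annihilator_quotient]; exact hQ.1.2)
  obtain ⟨w, hw⟩ := exists_ne (0 : LocalizedModule Q.primeCompl (EGA4.Cpl A ⧸ J))
  refine hw (congrArg Subtype.val (Subsingleton.elim
    (⟨w, ?_⟩ : powTors (maximalIdeal (Localization.AtPrime Q)) (LocalizedModule Q.primeCompl (EGA4.Cpl A ⧸ J))) 0))
  have hle : maximalIdeal (Localization.AtPrime Q) ≤ (J.map (algebraMap (EGA4.Cpl A) (Localization.AtPrime Q))).radical := by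
    rw [Ideal.radical_eq_sInf]
    refine le_sInf fun P ⟨hJP, hP⟩ => ?_
    have h7 : J ≤ P.comap (algebraMap (EGA4.Cpl A) (Localization.AtPrime Q)) := Ideal.map_le_iff_le_comap.1 hJP
    have h8 : P.comap (algebraMap (EGA4.Cpl A) (Localization.AtPrime Q)) ≤ Q := by
      refine (Ideal.comap_mono (IsLocalRing.le_maximalIdeal hP.ne_top)).trans ?_
      exact (IsLocalization.AtPrime.comap_maximalIdeal (Localization.AtPrime Q) Q).le
    haveI := hP
    have h9 : Q ≤ P.comap (algebraMap (EGA4.Cpl A) (Localization.AtPrime Q)) := hQ.2 ⟨Ideal.comap_isPrime _ P, h7⟩ h8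
    rw [← Localization.AtPrime.map_eq_maximalIdeal]
    exact Ideal.map_le_iff_le_comap.2 h9
  obtain ⟨k, hk⟩ := Ideal.exists_pow_le_of_le_radical_of_fg hle (IsNoetherian.noetherian _)
  refine mem_powTors_iff.2 ⟨k, fun b hb => ?_⟩
  induction w using LocalizedModule.induction_on with
  | h y s =>
    have hb' := hk hb
    clear hb
    induction hb' using Submodule.span_induction with
    | mem c hc =>
      obtain ⟨j, hj, rfl⟩ := hc
      rw [algebraMap_smul, LocalizedModule.smul'_mk]
      obtain ⟨y, rfl⟩ := Submodule.Quotient.mk_surjective _ y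
      rw [← Submodule.Quotient.mk_smul, smul_eq_mul, (Submodule.Quotient.mk_eq_zero J).2 (J.mul_mem_right y hj), LocalizedModule.zero_mk]
    | zero => rw [zero_smul]
    | add c c' _ _ hc hc' => rw [add_smul, hc, hc', add_zero]
    | smul r c _ hc => rw [smul_eq_mul, mul_smul, hc, smul_zero]

theorem isUniversallyCatenary_local (hω : Dual.IsDualizing A ω) (hn : Dual.IsNormalized A ω) :
    CAlg.IsUniversallyCatenary A := by
  refine S2636.result A fun p hp => ?_
  haveI : Nontrivial (A ⧸ p) := inferInstance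
  haveI : IsLocalRing (A ⧸ p) := IsLocalRing.of_surjective' (Ideal.Quotient.mk p) Ideal.Quotient.mk_surjective
  have hs : Function.Surjective (algebraMap A (A ⧸ p)) := Ideal.Quotient.mk_surjective
  obtain ⟨d, hd⟩ := RegLoc.exists_dim_eq_nat (R := A ⧸ p)
  let g := FlatDepth.cplQuotHom A (A ⧸ p) hs
  have hg : Function.Surjective g := FlatDepth.cplQuotHom_surjective A (A ⧸ p) hs
  have hker : RingHom.ker g = p.map (algebraMap A (EGA4.Cpl A)) := by
    rw [FlatDepth.ker_cplQuotHom, show RingHom.ker (algebraMap A (A ⧸ p)) = p from Ideal.mk_ker]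
  have key : ∀ q ∈ minimalPrimes (EGA4.Cpl (A ⧸ p)), ringKrullDim (EGA4.Cpl (A ⧸ p) ⧸ q) = d := fun q hq => by
    haveI : q.IsPrime := hq.1.1
    have hmem : q.comap g ∈ (p.map (algebraMap A (EGA4.Cpl A))).minimalPrimes := by
      rw [← hker, RingHom.ker_eq_comap_bot]
      exact Ideal.minimalPrimes_comap_of_surjective hg hq
    rw [← dim_component hω hn p hd _ hmem]
    exact (ringKrullDim_eq_of_ringEquiv (RingEquiv.ofBijective (Ideal.quotientMap q g le_rfl)
      ⟨Ideal.quotientMap_injective, Ideal.quotientMap_surjective hg⟩)).symm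
  intro q hq
  rw [key q hq]
  exact (CanonModLib.ringKrullDim_cpl_eq (R := A ⧸ p)).trans hd |>.symm

theorem isUniversallyCatenary (B : Type u) [CommRing B] [IsNoetherianRing B] {ω : Dual.D B}
    (hω : Dual.IsDualizing B ω) : CAlg.IsUniversallyCatenary B := by
  rw [S0553.result B]
  intro m hm
  let M := model hω
  let q : PrimeSpectrum B := ⟨m, hm.isPrime⟩
  exact isUniversallyCatenary_local (isDualizing_shift (isDualizing_omegaAt hω M q) (deg hω M q))
    (isNormalized_omegaAt hω M q)

end Groth.Agent.Dlz27
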