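import Groth.Agent.Lib.Dlz27.CxLoc

/-!
# The annihilator theorem for complexes
-/

set_option autoImplicit false
universe u

open CategoryTheory CategoryTheory.Limits

attribute [local instance] HasDerivedCategory.standard

noncomputable section

namespace Groth.Agent.Dlz27

open ExtCechLib HTFin27

variable {A : Type u} [CommRing A] [IsNoetherianRing A]
variable (W : DRing.Cx A) (hW : ∀ i, Injective (W.X i)) (a₀ : ℤ) [W.IsStrictlyGE a₀]

include hW in
theorem exists_homotopy' (T : Set (PrimeSpectrum A)) (a : A) (s : ℤ)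
    (h : ∀ i : ℤ, i ≤ s → ∀ z ∈ TCy T W i, a • z ∈ TBd T W i) :
    ∀ (l : ℕ) (k j : ℤ), k + 1 = a₀ + l → k ≤ s → j + 1 = k → ∃ (c : ℕ) (f : W.X k →ₗ[A] W.X j),
      ∀ z ∈ TCy T W k, a ^ c • z = W.d j k (f z)
  | 0, k, j, hk, _, _ => ⟨0, 0, fun z _ => by
      haveI := ModuleCat.subsingleton_of_isZero (W.isZero_of_isStrictlyGE a₀ k (by push_cast at hk; omega))
      exact Subsingleton.elim _ _⟩
  | l + 1, k', k, hk', hs, hk => by
    obtain ⟨c, f, hf⟩ := exists_homotopy' T a s h l k (k - 1) (by push_cast at hk'; omega) (by omega) (by omega)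
    let C := TTors T (W.X k)
    let g : C →ₗ[A] W.X k := a ^ c • C.subtype - (W.d (k - 1) k).hom ∘ₗ f ∘ₗ C.subtype
    let δ : C →ₗ[A] W.X k' := (W.d k k').hom ∘ₗ C.subtype
    obtain ⟨Ψ, hΨ⟩ := factor_of_ker_le ((Module.injective_iff_injective_object A _).2 (hW k)) δ g fun z hz => by
      have hz' : z.1 ∈ TCy T W k := ⟨z.2, (mem_Cy W hk).2 hz⟩
      show a ^ c • z.1 - W.d (k - 1) k (f z.1) = 0
      rw [hf _ hz', sub_self]
    refine ⟨c + 1, a • Ψ, fun z hz => ?_⟩
    obtain ⟨y, hy, hyz⟩ := (mem_TBd T W hk).1 (h k' hs z hz)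
    have h1 : W.d k k' y = a • z := hyz
    have h2 : Ψ (W.d k k' y) = a ^ c • y - W.d (k - 1) k (f y) := LinearMap.congr_fun hΨ ⟨y, hy⟩
    show a ^ (c + 1) • z = W.d k k' (a • Ψ z)
    rw [pow_succ, mul_smul, ← map_smul Ψ a z, ← h1, h2, map_sub, map_smul, d_d, sub_zero]

omit [IsNoetherianRing A] in
theorem subsingleton_loc_low (S : Submonoid A) {i : ℤ} (hi : i < a₀) : Subsingleton ((W.X i).localizedModule S) := by
  have hsub := ModuleCat.subsingleton_of_isZero (W.isZero_of_isStrictlyGE a₀ i hi)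
  refine subsingleton_of_forall_eq 0 fun y => ?_
  obtain ⟨x, t, h⟩ := mkL_surj S (W.X i) y
  refine smul_loc_cancel S (W.X i) t ?_
  rw [h, Subsingleton.elim x 0, map_zero, smul_zero]

include hW a₀ in
theorem locKill_of_annihilated' {T : Set (PrimeSpectrum A)} (hT : StableUnderSpecialization T)
    (a : A) (s : ℤ) (h : ∀ i : ℤ, i ≤ s → ∀ z ∈ TCy T W i, a • z ∈ TBd T W i) (i : ℤ) (hi : i ≤ s) :
    ∃ c : ℕ, ∀ q ∈ T, LocKill W q (a ^ c) i := by
  by_cases hia : i < a₀
  · refine ⟨0, fun q _ y _ _ => ⟨0, zero_mem _, ?_⟩⟩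
    have := subsingleton_loc_low W a₀ q.asIdeal.primeCompl hia
    exact Subsingleton.elim _ _
  obtain ⟨c, f, hf⟩ := exists_homotopy' W hW a₀ T a s h (i + 1 - a₀).toNat i (i - 1) (by omega) hi (by omega)
  refine ⟨c, fun q hq y hy hd => ?_⟩
  obtain ⟨z, hz, rfl⟩ := lift_powTors q.asIdeal (W.X i) ((Module.injective_iff_injective_object A _).2 (hW i)) hy
  rw [dL_mkL, mkL_eq_zero_iff] at hd
  obtain ⟨t, ht⟩ := hd
  have hz' : (t : A) • z ∈ TCy T W i :=
    ⟨powTors_le_TTors hT hq _ (Submodule.smul_mem _ _ hz), (mem_Cy W rfl).2 ((map_smul (W.d i (i + 1)).hom (t : A) z).trans ht)⟩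
  have hf' := hf _ hz'
  obtain ⟨u, hu⟩ := IsLocalization.map_units (Localization q.asIdeal.primeCompl) t
  refine ⟨(↑u⁻¹ : Localization q.asIdeal.primeCompl) • mkL q.asIdeal.primeCompl _ (f ((t : A) • z)),
    Submodule.smul_mem _ _ (mkL_mem_powTors q.asIdeal _ (map_powTors f (Submodule.smul_mem _ _ hz))), ?_⟩
  rw [map_smul, dL_mkL, ← hf', map_smul, map_smul, ← algebraMap_smul_loc _ _ (a ^ c), ← algebraMap_smul_loc _ _ (t : A),
    ← hu, smul_smul, smul_smul, mul_right_comm, Units.inv_mul, one_mul, algebraMap_smul_loc]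

variable {ω : Dual.D A} (hω : Dual.IsDualizing A ω) (M : Model ω)
variable (K : Dual.D A) (e : DerivedCategory.Q.obj W ≅ K) (hK : ∀ l : ℤ, Module.Finite A (Dual.HD A K l))

/-- The localized complex represents the localized object. -/
def locDIso (S : Submonoid A) : DerivedCategory.Q.obj (locCx S W) ≅ (locD S).obj K :=
  ((locF S).mapDerivedCategoryFactors.app W).symm ≪≫ (locD S).mapIso e

include hW a₀ hω M e hK in
/-- Annihilation of local cohomology at `q` in terms of the dualizing complex. -/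
theorem smul_hdi_loc_iff (q : PrimeSpectrum A) (a : A) (i : ℤ) :
    (∀ x : Dual2.HDI (Localization q.asIdeal.primeCompl) (mQ q.asIdeal) ((locD q.asIdeal.primeCompl).obj K) i,
        algebraMap A (Localization q.asIdeal.primeCompl) a • x = 0) ↔
      ∀ φ : K ⟶ ω⟦deg hω M q - i⟧, ∃ s : q.asIdeal.primeCompl, ((s : A) * a) • φ = 0 := by
  let S := q.asIdeal.primeCompl
  haveI : IsNoetherianRing (Localization S) := IsLocalization.isNoetherianRing S _ inferInstance
  let ω' : Dual.D (Localization S) := (omegaAt M q)⟦deg hω M q⟧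
  have hω' : Dual.IsDualizing (Localization S) ω' := isDualizing_shift (isDualizing_omegaAt hω M q) _
  have hfin : ∀ l : ℤ, Module.Finite (Localization S) (Dual.HD (Localization S) ((locD S).obj K) l) := fun l => by
    obtain ⟨h1⟩ := RGamma27.HD_iso (K := locCx S W) l
    obtain ⟨h2⟩ := RGamma27.HD_iso (K := W) l
    have hKl := hK l
    have : Module.Finite A (W.homology l) := Module.Finite.equiv
      (((DerivedCategory.homologyFunctor (ModuleCat.{u} A) l).mapIso e).toLinearEquiv.symm ≪≫ₗ h2)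
    haveI := finite_homology_locCx S W l this
    exact Module.Finite.equiv
      (h1.symm ≪≫ₗ ((DerivedCategory.homologyFunctor (ModuleCat.{u} (Localization S)) l).mapIso (locDIso W K e S)).toLinearEquiv)
  have hlow : ∀ l : ℤ, l < a₀ → Subsingleton (Dual.HD (Localization S) ((locD S).obj K) l) := by
    haveI : (DerivedCategory.Q.obj (locCx S W)).IsGE a₀ :=
      (DerivedCategory.isGE_Q_obj_iff (locCx S W) a₀).2 inferInstance
    exact (DMod.isGE_iff _ a₀).1 (DerivedCategory.TStructure.t.isGE_of_iso (locDIso W K e S) a₀)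
  rw [smul_hdi_iff' (model hω') hω' (isNormalized_omegaAt hω M q) _ a₀ hfin hlow i,
    ← kills_homC_loc_iff M hω S K a₀ hK]
  let ℓ := homShift (X := (locD S).obj K) (ω := omegaAt M q) (deg hω M q) (-i) (deg hω M q - i) (by ring)
  refine ⟨fun h ψ => ?_, fun h ψ => ℓ.injective (by rw [map_smul, h, map_zero])⟩
  obtain ⟨ψ', rfl⟩ := ℓ.surjective ψ
  rw [← map_smul, h, map_zero]

include hW a₀ e in
theorem locKill_iff_hdi (q : PrimeSpectrum A) (a : A) (i : ℤ) :
    LocKill W q a i ↔
      ∀ x : Dual2.HDI (Localization q.asIdeal.primeCompl) (mQ q.asIdeal) ((locD q.asIdeal.primeCompl).obj K) i,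
        algebraMap A (Localization q.asIdeal.primeCompl) a • x = 0 := by
  let S := q.asIdeal.primeCompl
  haveI : ∀ j, Injective ((locCx S W).X j) := fun j => injective_locF S (hW j)
  haveI : (locCx S W).IsKInjective := CochainComplex.isKInjective_of_injective _ a₀
  let eS := locDIso W K e S
  constructor
  · intro h x
    obtain ⟨⟨y, hy, hd⟩, rfl⟩ := RGamma27.toColim_surjective (q := i) (mQ q.asIdeal) eS x
    rw [← map_smul, RGamma27.toColim_eq_zero_iff]
    obtain ⟨y', hy', hd'⟩ := h y (InjHullLib.mem_powTors_iff.2 hy) hd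
    exact ⟨y', InjHullLib.mem_powTors_iff.1 hy', hd'.trans (algebraMap_smul_loc S _ a y).symm⟩
  · intro h y hy hd
    have h1 := h (RGamma27.toColim i (mQ q.asIdeal) eS ⟨y, InjHullLib.mem_powTors_iff.1 hy, hd⟩)
    rw [← map_smul, RGamma27.toColim_eq_zero_iff] at h1
    obtain ⟨y', hy', hd'⟩ := h1
    exact ⟨y', InjHullLib.mem_powTors_iff.2 hy', hd'.trans (algebraMap_smul_loc S _ a y)⟩

include hW a₀ hω M e hK in
/-- The annihilator theorem. -/
theorem annihilator_cx_iff {T T' : Set (PrimeSpectrum A)} (hT : StableUnderSpecialization T)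
    (hT' : StableUnderSpecialization T') (s : ℤ) :
    (∃ J : Ideal A, PrimeSpectrum.zeroLocus (J : Set A) ⊆ T' ∧
        ∀ i : ℤ, i ≤ s → ∀ a ∈ J, ∀ z ∈ TCy T W i, a • z ∈ TBd T W i) ↔
      ∀ p q : PrimeSpectrum A, p ≤ q → p ∉ T' → q ∈ T → ∀ i : ℤ, i ≤ s - (deg hω M q - deg hω M p) →
        Subsingleton (Dual2.HDI (Localization p.asIdeal.primeCompl) (mQ p.asIdeal) ((locD p.asIdeal.primeCompl).obj K) i) := by
  classical
  have hsub : ∀ (p : PrimeSpectrum A) (i : ℤ),
      Subsingleton (Dual2.HDI (Localization p.asIdeal.primeCompl) (mQ p.asIdeal) ((locD p.asIdeal.primeCompl).obj K) i) ↔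
        ∀ φ : K ⟶ ω⟦deg hω M p - i⟧, ∃ t : p.asIdeal.primeCompl, (t : A) • φ = 0 := fun p i => by
    have h := smul_hdi_loc_iff W hW a₀ hω M K e hK p 1 i
    simp only [map_one, one_smul, mul_one] at h
    exact ⟨fun hs => h.1 fun x => Subsingleton.elim _ _, fun hh => subsingleton_of_forall_eq 0 (h.2 hh)⟩
  constructor
  · rintro ⟨J, hJ, hk⟩ p q hpq hp hq i hi
    obtain ⟨a, haJ, hap⟩ := SetLike.not_le_iff_exists.1 fun h : J ≤ p.asIdeal => hp (hJ h)
    obtain ⟨c, hc⟩ := locKill_of_annihilated' W hW a₀ hT a s (fun l hl z hz => hk l hl a haJ z hz)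
      (i + (deg hω M q - deg hω M p)) (by omega)
    have h := (smul_hdi_loc_iff W hW a₀ hω M K e hK q (a ^ c) _).1 ((locKill_iff_hdi W hW a₀ K e q (a ^ c) _).1 (hc q hq))
    rw [show deg hω M q - (i + (deg hω M q - deg hω M p)) = deg hω M p - i by ring] at h
    refine (hsub p i).2 fun φ => ?_
    obtain ⟨t, ht⟩ := h φ
    exact ⟨⟨(t : A) * a ^ c, fun hmem => (p.isPrime.mem_or_mem hmem).elim (fun ht' => t.2 (hpq ht'))
      fun ha' => hap (p.isPrime.mem_of_pow_mem c ha')⟩, ht⟩
  · intro hyp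
    have hlowK : ∀ l : ℤ, l < a₀ → Subsingleton (Dual.HD A K l) := by
      haveI : (DerivedCategory.Q.obj W).IsGE a₀ := (DerivedCategory.isGE_Q_obj_iff W a₀).2 inferInstance
      exact (DMod.isGE_iff _ a₀).1 (DerivedCategory.TStructure.t.isGE_of_iso e a₀)
    have hN : ∀ j : ℤ, ∃ Jj : Ideal A, PrimeSpectrum.zeroLocus (Jj : Set A) ⊆ T' ∧
        ∀ a ∈ Jj, ∀ q ∈ T, deg hω M q - j ≤ s → ∀ φ : K ⟶ ω⟦j⟧,
          ∃ t : q.asIdeal.primeCompl, ((t : A) * a) • φ = 0 := by
      intro j
      haveI := finite_homC M hω K a₀ hK hlowK j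
      obtain ⟨r, v, hv⟩ := Module.Finite.exists_fin (R := A) (M := (K ⟶ ω⟦j⟧))
      let Kl : Fin r → Ideal A := fun l =>
        { carrier := {a | ∀ q ∈ T, deg hω M q - j ≤ s → ∃ t : q.asIdeal.primeCompl, ((t : A) * a) • v l = 0}
          zero_mem' := fun q _ _ => ⟨1, by rw [mul_zero, zero_smul]⟩
          add_mem' := fun {a b} ha hb q hq hs => by
            obtain ⟨t, ht⟩ := ha q hq hs
            obtain ⟨t', ht'⟩ := hb q hq hs
            refine ⟨t * t', ?_⟩
            rw [Submonoid.coe_mul, mul_add, add_smul, mul_right_comm, mul_comm _ (t' : A), mul_smul, ht, smul_zero,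
              mul_assoc, mul_smul, ht', smul_zero, add_zero]
          smul_mem' := fun c a ha q hq hs => by
            obtain ⟨t, ht⟩ := ha q hq hs
            exact ⟨t, by rw [smul_eq_mul, mul_left_comm, mul_smul, ht, smul_zero]⟩ }
      refine ⟨Finset.univ.inf Kl, fun P hP => ?_, fun a ha q hq hs φ => ?_⟩
      · by_contra hPT
        obtain ⟨l, -, hl⟩ := (Ideal.IsPrime.inf_le' P.isPrime).1 hP
        obtain ⟨P0, hP0, hP0le⟩ := Ideal.exists_minimalPrimes_le hl
        obtain ⟨p, rfl⟩ : ∃ p : PrimeSpectrum A, p.asIdeal = P0 := ⟨⟨P0, hP0.1.1⟩, rfl⟩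
        have hpT : p ∉ T' := fun h => hPT (hT' ((PrimeSpectrum.le_iff_specializes p P).1 hP0le) h)
        obtain ⟨y, hy⟩ := Submodule.exists_eq_colon_of_mem_minimalPrimes (N := Kl l) (x := (1 : A)) (I := p.asIdeal) (by
          rwa [show Submodule.colon (Kl l) {(1 : A)} = Kl l from by ext c; simp])
        have hyK : y ∉ Kl l := fun h => hP0.1.1.ne_top (hy.trans (Ideal.eq_top_of_isUnit_mem _
          (Submodule.mem_colon_singleton.2 (by rwa [one_smul])) isUnit_one))
        obtain ⟨q, hq, hs, hyq⟩ : ∃ q ∈ T, deg hω M q - j ≤ s ∧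
            ∀ t : q.asIdeal.primeCompl, ((t : A) * y) • v l ≠ 0 := by
          by_contra! hall
          exact hyK fun q hq hs => hall q hq hs
        have hpq : p ≤ q := fun c hc => by
          by_contra hcq
          have : c ∈ Submodule.colon (Kl l) {y} := hy ▸ hc
          obtain ⟨t, ht⟩ := Submodule.mem_colon_singleton.1 this q hq hs
          exact hyq (t * ⟨c, hcq⟩) (by rwa [Submonoid.coe_mul, mul_assoc])
        have h0 := (hsub p (deg hω M p - j)).1 (hyp p q hpq hpT hq _ (by omega))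
        rw [sub_sub_cancel] at h0
        obtain ⟨t, ht⟩ := h0 (v l)
        exact t.2 (hP0.1.2 (fun q _ _ => ⟨1, by rw [Submonoid.coe_one, one_mul]; exact ht⟩ : (t : A) ∈ Kl l))
      · have hmem : φ ∈ Submodule.span A (Set.range v) := hv ▸ trivial
        induction hmem using Submodule.span_induction with
        | mem φ hφ =>
          obtain ⟨l, rfl⟩ := hφ
          exact (Finset.inf_le (Finset.mem_univ l) : Finset.univ.inf Kl ≤ Kl l) ha q hq hs
        | zero => exact ⟨1, smul_zero _⟩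
        | add x y _ _ hx hy =>
          obtain ⟨t, ht⟩ := hx
          obtain ⟨t', ht'⟩ := hy
          refine ⟨t * t', ?_⟩
          rw [smul_add, Submonoid.coe_mul, mul_right_comm, mul_comm _ (t' : A), mul_smul, ht, smul_zero, zero_add,
            mul_left_comm, mul_smul, ht', smul_zero]
        | smul c x _ hx =>
          obtain ⟨t, ht⟩ := hx
          exact ⟨t, by rw [smul_comm, ht, smul_zero]⟩
    choose Jj hJj hJk using hN
    let J := (Finset.Icc (M.lo - s) (M.hi - a₀)).inf Jj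
    let k := (M.hi - M.lo + 1).toNat
    have hOk : Ok T' (J ^ k) :=
      Ok.pow (Finset.inf_induction ok_top (fun x hx y hy => hx.inf hy) fun j _ => hJj j) k
    refine ⟨J ^ k, hOk, fun i hi b hb x hx => ?_⟩
    refine annihilated_of_locKill W hW hT hω M J i (fun a ha q hq => ?_) k x hx (fun r _ => ?_) b hb
    · by_cases hia : i < a₀
      · intro y _ _
        have := subsingleton_loc_low W a₀ q.asIdeal.primeCompl hia
        exact ⟨0, zero_mem _, Subsingleton.elim _ _⟩
      · have h1 := deg_ge hω M q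
        have h2 := deg_le hω M q
        have hmem : deg hω M q - i ∈ Finset.Icc (M.lo - s) (M.hi - a₀) := Finset.mem_Icc.2 ⟨by omega, by omega⟩
        exact (locKill_iff_hdi W hW a₀ K e q a i).2 ((smul_hdi_loc_iff W hW a₀ hω M K e hK q a i).2
          (hJk _ a ((Finset.inf_le hmem : J ≤ _) ha) q hq (by omega)))
    · have h1 := deg_ge hω M r
      have h2 := deg_le hω M r
      omega

/-- Local cohomology of complexes transports along isomorphisms. -/
theorem subsingleton_hdi_of_iso {R : Type u} [CommRing R] (I : Ideal R) {X Y : Dual.D R} (e : X ≅ Y) (i : ℤ)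
    (h : Subsingleton (Dual2.HDI R I X i)) : Subsingleton (Dual2.HDI R I Y i) := by
  refine subsingleton_of_forall_eq 0 fun y => ?_
  have h1 := congrArg (hmapC I (e.hom⟦i⟧')) (h.elim (hmapC I (e.inv⟦i⟧') y) 0)
  rw [hmapC_comp, map_zero, ← Functor.map_comp, e.inv_hom_id, CategoryTheory.Functor.map_id] at h1
  obtain ⟨k, a, rfl⟩ := exists_hin I y
  rwa [hmapC_hin, Category.comp_id] at h1

end Groth.Agent.Dlz27
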