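import Groth.Agent.Lib.Dlz27.Unique
import Groth.Agent.Lib.Dlz27.CxFaltings
import Groth.Agent.Lib.HLV27.NonVan

/-!
# Vanishing of degree zero local cohomology of the dualizing complex and cohomological dimension
-/

set_option autoImplicit false
universe u

open CategoryTheory IsLocalRing TensorProduct
open Groth.Agent.LocCohLib Groth.Agent.InjHullLib

attribute [local instance] HasDerivedCategory.standard

noncomputable section

namespace Groth.Agent.Dlz27

variable {A : Type u} [CommRing A] [IsLocalRing A] [IsNoetherianRing A]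

theorem exists_le_tors_eq_zero {ω : Dual.D A} (hω : Dual.IsDualizing A ω) (hn : Dual.IsNormalized A ω) (I : Ideal A)
    (h0 : Subsingleton (Dual2.HDI A I ω 0)) (n : ℕ) :
    ∃ (k : ℕ) (h : n ≤ k), ∀ x ∈ powTors (mA (A := A)) (A ⧸ I ^ k), (LocCohLib.proj I h).hom x = 0 := by
  classical
  let M := model hω
  haveI : Subsingleton (Hc I (ω⟦(0 : ℤ)⟧)) := h0
  haveI : Module.Finite A (sgl.obj (Q I n) ⟶ ω⟦(0 : ℤ)⟧) := finite_hom' hω M (A ⧸ I ^ n) 0
  obtain ⟨t, ht⟩ := (Module.Finite.fg_top : (⊤ : Submodule A (sgl.obj (Q I n) ⟶ ω⟦(0 : ℤ)⟧)).FG)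
  have hk : ∀ ψ : sgl.obj (Q I n) ⟶ ω⟦(0 : ℤ)⟧, ∃ (k : ℕ) (h : n ≤ k), sgl.map (proj I h) ≫ ψ = 0 := fun ψ =>
    hin_eq_zero I (Subsingleton.elim (hin I n _ ψ) 0)
  choose k hle hk using hk
  let K := max n (t.sup k)
  have hK : n ≤ K := le_max_left _ _
  have hzero : ∀ ψ : sgl.obj (Q I n) ⟶ ω⟦(0 : ℤ)⟧, sgl.map (proj I hK) ≫ ψ = 0 := fun ψ => by
    induction (ht ▸ Submodule.mem_top : ψ ∈ Submodule.span A (t : Set _)) using Submodule.span_induction with
    | mem φ hφ =>
      have h1 : k φ ≤ K := (Finset.le_sup hφ).trans (le_max_right _ _)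
      have e : proj I hK = proj I h1 ≫ proj I (hle φ) := ModuleCat.hom_ext (Submodule.linearMap_qext _ rfl)
      rw [e, Functor.map_comp, Category.assoc, hk φ, Limits.comp_zero]
    | zero => exact Limits.comp_zero
    | add a b _ _ ha hb => rw [Preadditive.comp_add, ha, hb, add_zero]
    | smul a y _ hy => rw [Linear.comp_smul, hy, smul_zero]
  refine ⟨K, hK, fun x hx => ?_⟩
  obtain ⟨j, hj⟩ := mem_powTors_iff.1 hx
  let a : Q (mA (A := A)) j ⟶ Q I K := ModuleCat.ofHom (Submodule.liftQ _ (LinearMap.toSpanSingleton A _ x)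
    fun c hc => LinearMap.mem_ker.2 (hj c hc))
  have hb : BijC M ((sgl.obj (Q I n))⟦(0 : ℤ)⟧) := bijC_single M hω hn (Q I n) 0
  have hb' : BijC M (sgl.obj (Q I n)) := bijC_of_iso M ((shiftFunctorZero (Dual.D A) ℤ).app _) hb
  have h1 : hmapC (mA (A := A)) (sgl.map (proj I hK)) (hin mA j _ (sgl.map a)) = 0 := hb'.1 (LinearMap.ext fun ψ => by
    rw [pair_natural, hzero ψ, map_zero, map_zero, LinearMap.zero_apply])
  rw [hmapC_hin, ← Functor.map_comp] at h1
  obtain ⟨m, hm, hm0⟩ := hin_eq_zero _ h1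
  rw [← Functor.map_comp] at hm0
  have h2 : proj (mA (A := A)) hm ≫ a ≫ proj I hK = 0 :=
    (DerivedCategory.singleFunctor (ModuleCat.{u} A) 0).map_injective (hm0.trans (Functor.map_zero _ _ _).symm)
  have h3 := LinearMap.congr_fun (congrArg ModuleCat.Hom.hom h2) (Submodule.Quotient.mk 1)
  have h4 : a.hom ((proj (mA (A := A)) hm).hom (Submodule.Quotient.mk 1)) = x := one_smul A x
  rw [← h4]
  exact h3

/-- If the torsion of `A ⧸ J` dies in `A ⧸ J'`, so does torsion after flat base change. -/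
theorem mem_map_of_tors {R' : Type u} [CommRing R'] [Algebra A R'] [Module.Flat A R'] {J J' : Ideal A} (h : J ≤ J')
    (hkill : ∀ x ∈ powTors (mA (A := A)) (A ⧸ J), Submodule.mapQ J J' LinearMap.id h x = 0) (u : R') (N : ℕ)
    (hu : ∀ c ∈ ((mA (A := A)).map (algebraMap A R')) ^ N, c * u ∈ J.map (algebraMap A R')) :
    u ∈ J'.map (algebraMap A R') := by
  have key : ∀ (L : Ideal A) (v : R'), v ⊗ₜ[A] (Submodule.Quotient.mk 1 : A ⧸ L) = 0 ↔ v ∈ L.map (algebraMap A R') :=
    fun L v => by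
      have e : (Algebra.TensorProduct.quotIdealMapEquivTensorQuot R' L) (Ideal.Quotient.mk _ v) =
          v ⊗ₜ[A] (Submodule.Quotient.mk 1 : A ⧸ L) := rfl
      rw [← e, map_eq_zero_iff _ (Algebra.TensorProduct.quotIdealMapEquivTensorQuot R' L).injective,
        Ideal.Quotient.eq_zero_iff_mem]
  let z : R' ⊗[A] (A ⧸ J) := u ⊗ₜ Submodule.Quotient.mk 1
  have hz : z ∈ powTors ((mA (A := A)).map (algebraMap A R')) (R' ⊗[A] (A ⧸ J)) :=
    mem_powTors_iff.2 ⟨N, fun c hc => by
      show c • (u ⊗ₜ[A] (Submodule.Quotient.mk 1 : A ⧸ J)) = 0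
      rw [TensorProduct.smul_tmul', smul_eq_mul]
      exact (key J _).2 (hu c hc)⟩
  obtain ⟨w, hw⟩ := (powTorsBaseChange R' (mA (A := A)) (A ⧸ J)).surjective ⟨z, hz⟩
  have hw' : (powTors (mA (A := A)) (A ⧸ J)).subtype.baseChange R' w = z :=
    (powTorsBaseChange_coe R' (mA (A := A)) (A ⧸ J) w).symm.trans (congrArg Subtype.val hw)
  have h5 : (Submodule.mapQ J J' LinearMap.id h).baseChange R' z = 0 := by
    rw [← hw', ← LinearMap.comp_apply, ← LinearMap.baseChange_comp,
      show (Submodule.mapQ J J' LinearMap.id h) ∘ₗ (powTors (mA (A := A)) (A ⧸ J)).subtype = 0 from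
        LinearMap.ext fun x => hkill x.1 x.2, LinearMap.baseChange_zero, LinearMap.zero_apply]
  exact (key J' u).1 h5

/-- If `H^0_I(ω) = 0` then the cohomological dimension of `I` is less than the dimension. -/
theorem vanishing_of_HDI_zero {ω : Dual.D A} (hω : Dual.IsDualizing A ω) (hn : Dual.IsNormalized A ω) (I : Ideal A)
    (h0 : Subsingleton (Dual2.HDI A I ω 0)) (M : Type u) [AddCommGroup M] [Module A M] (i : ℕ)
    (hi : ringKrullDim A ≤ (i : WithBot ℕ∞)) : Subsingleton (LocCoh.H I i M) := by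
  obtain ⟨d, hd⟩ := RegLoc.exists_dim_eq_nat (R := A)
  rw [hd] at hi
  by_cases hI : I ≤ maximalIdeal A
  swap
  · obtain ⟨y, hy, hym⟩ := SetLike.not_le_iff_exists.1 hI
    have hu : IsUnit y := not_not.1 fun hn => hym ((mem_maximalIdeal y).2 hn)
    refine subsingleton_of_forall_eq 0 fun x => ?_
    obtain ⟨m, hm⟩ := isPowerTorsion I i _ x
    exact (hu.pow m).smul_eq_zero.1 (hm _ (Ideal.pow_mem_pow hy m))
  refine HLV27.vanishing I d hd (fun P hP hPd => ?_) M i (by exact_mod_cast hi)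
  let R' := AdicCompletion (maximalIdeal A) A
  haveI : Module.FaithfullyFlat A R' := CplLocH7.faithfullyFlat_cpl A
  haveI : IsNoetherianRing R' := CplLocH7.isNoetherianRing_cpl A
  haveI := hP.1.1
  have hI' : I.map (algebraMap A R') ≤ maximalIdeal R' := by
    refine (Ideal.map_mono hI).trans ?_
    rw [CplLocH7.maximalIdeal_cpl A]
  have hle : I.map (algebraMap A R') ⊔ P ≤ maximalIdeal R' := sup_le hI' (le_maximalIdeal hP.1.1.ne_top)
  haveI : Nontrivial (R' ⧸ (I.map (algebraMap A R') ⊔ P)) := Ideal.Quotient.nontrivial_iff.2 fun h =>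
    (maximalIdeal.isMaximal R').ne_top (top_le_iff.1 (h ▸ hle))
  by_contra hlt
  have hrad : maximalIdeal R' ≤ (I.map (algebraMap A R') ⊔ P).radical := by
    rw [Ideal.radical_eq_sInf]
    refine le_sInf fun q ⟨hq, hqp⟩ => ?_
    by_contra hqm
    refine hlt ?_
    rw [ringKrullDim_quotient]
    let l : LTSeries (PrimeSpectrum.zeroLocus (R := R') ((I.map (algebraMap A R') ⊔ P : Ideal R') : Set R')) :=
      (RelSeries.singleton _ (⟨⟨q, hqp⟩, hq⟩ : PrimeSpectrum.zeroLocus (R := R') _)).snoc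
        ⟨⟨maximalIdeal R', inferInstance⟩, hle⟩
        (show (⟨q, hqp⟩ : PrimeSpectrum R') < ⟨maximalIdeal R', inferInstance⟩ from
          lt_of_le_not_ge (le_maximalIdeal hqp.ne_top) hqm)
    exact le_trans (by simp [l]) (Order.LTSeries.length_le_krullDim l)
  obtain ⟨N, hN⟩ := Ideal.exists_pow_le_of_le_radical_of_fg hrad (IsNoetherian.noetherian _)
  -- an element with annihilator `P`
  obtain ⟨_, u, hu⟩ := isAssociatedPrime_iff.1
    (Module.associatedPrimes.minimalPrimes_annihilator_subset_associatedPrimes R' R'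
      (show P ∈ (Module.annihilator R' R').minimalPrimes by
        rwa [show Module.annihilator R' R' = ⊥ from eq_bot_iff.2 fun a ha => by
          have := Module.mem_annihilator.1 ha 1
          rw [smul_eq_mul, mul_one] at this
          rw [this]; exact zero_mem _]))
  have hu0 : u ≠ 0 := by
    rintro rfl
    refine hP.1.1.ne_top (top_le_iff.1 fun r _ => ?_)
    rw [hu, Submodule.mem_colon_singleton, smul_zero]
    exact zero_mem _
  have hPu : ∀ a ∈ P, a * u = 0 := fun a ha => by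
    rw [hu, Submodule.mem_colon_singleton, Submodule.mem_bot] at ha
    exact ha
  -- `u` lies in all powers of `I`
  have hall : ∀ n : ℕ, u ∈ (I.map (algebraMap A R')) ^ n := fun n => by
    obtain ⟨k, hk, hkill⟩ := exists_le_tors_eq_zero hω hn I h0 n
    have hmapI : ∀ j : ℕ, I.map (algebraMap A R') ^ j = (I ^ j).map (algebraMap A R') := fun j => (Ideal.map_pow _ _ _).symm
    rw [hmapI]
    refine mem_map_of_tors (R' := R') (Ideal.pow_le_pow_right hk) hkill u (N * (k + 1)) fun c hc => ?_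
    rw [show (mA (A := A)).map (algebraMap A R') = maximalIdeal R' from (CplLocH7.maximalIdeal_cpl A).symm, pow_mul] at hc
    obtain ⟨c1, hc1, c2, hc2, rfl⟩ := Submodule.mem_sup.1 (Ideal.sup_pow_add_le_pow_sup_pow (Ideal.pow_right_mono hN (k + 1) hc))
    rw [pow_one] at hc2
    rw [add_mul, hPu c2 hc2, add_zero, ← hmapI]
    exact Ideal.mul_mem_right _ _ hc1
  refine hu0 ?_
  have h8 : u ∈ ⨅ n : ℕ, I.map (algebraMap A R') ^ n := (Submodule.mem_iInf _).2 hall
  rwa [Ideal.iInf_pow_eq_bot_of_isLocalRing _ (ne_top_of_le_ne_top (maximalIdeal.isMaximal R').ne_top hI')] at h8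

end Groth.Agent.Dlz27
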