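import Groth.Agent.Lib.Dlz27.CxLoc

/-!
# Recognizing a dualizing complex from its residual behaviour
-/

set_option autoImplicit false
universe u

open CategoryTheory CategoryTheory.Limits CategoryTheory.Pretriangulated CochainComplex.HomComplex

attribute [local instance] HasDerivedCategory.standard

noncomputable section

namespace Groth.Agent.Dlz27

variable {A : Type u} [CommRing A]

section InjDim

variable (W : DRing.Cx A) (hW : ∀ i, Injective (W.X i))

theorem van_quotient_of_residue [IsNoetherianRing A] [IsLocalRing A] (lo : ℤ) [W.IsStrictlyGE lo]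
    (hH : ∀ i, Module.Finite A (W.homology i)) (d : ℤ) (hW : ∀ i, Injective (W.X i))
    (hk : ∀ i, d < i → Van W (A ⧸ IsLocalRing.maximalIdeal A) i) (J : Ideal A) (i : ℤ) (hi : d < i) :
    Van W (A ⧸ J) i := by
  have key : ∀ r : PrimeSpectrum A, ∀ i, d < i →
      VanS W (IsLocalRing.maximalIdeal A).primeCompl (A ⧸ r.asIdeal) i := by
    intro r
    induction r using WellFoundedGT.induction with
    | ind r ih =>
      intro i hi
      by_cases hr : r.asIdeal = IsLocalRing.maximalIdeal A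
      · rw [hr]; exact (hk i hi).vanS _
      obtain ⟨x, hxm, hxr⟩ := SetLike.exists_of_lt (lt_of_le_of_ne (IsLocalRing.le_maximalIdeal r.isPrime.ne_top) hr)
      refine vanS_of_surjective (finV hW lo hH _ _) _ hxm fun f hf =>
        exists_surj_of_vanS W hW r.asIdeal x hxr _ i (vanS_of_support hW _ _ _ fun s hs => ?_) f hf
      have hs' := mem_support_quotient hs
      refine ih s (lt_of_le_of_ne (le_sup_left.trans hs') fun e => hxr ?_) (i + 1) (by omega)
      exact e ▸ hs' (Submodule.mem_sup_right (Ideal.mem_span_singleton_self x))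
  exact (vanS_maximal_iff i).1 (vanS_of_support hW _ _ _ fun r _ => key r i hi)

include hW in
/-- Vanishing on cyclic modules above a degree gives vanishing on all modules. -/
theorem van_of_cyclic (d : ℤ) (h : ∀ (J : Ideal A) i, d < i → Van W (A ⧸ J) i) (N : Type u) [AddCommGroup N]
    [Module A N] (i : ℤ) (hi : d < i) : Van W N i := by
  obtain ⟨j, rfl⟩ : ∃ j, i = j + 1 := ⟨i - 1, by omega⟩
  have hd : d ≤ j := by omega
  let Z : Submodule A (W.X j) := LinearMap.ker (W.d j (j + 1)).hom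
  have hbaer : Module.Baer A Z := fun I φ => by
    obtain ⟨Φ, hΦ⟩ := (Module.injective_iff_injective_object A _).2 (hW j) |>.out I.subtype I.injective_subtype
      (Z.subtype ∘ₗ φ)
    let f : A ⧸ I →ₗ[A] W.X (j + 1) := Submodule.liftQ I ((W.d j (j + 1)).hom ∘ₗ Φ) fun a ha => by
      show W.d j (j + 1) (Φ a) = 0
      rw [show Φ a = Z.subtype (φ ⟨a, ha⟩) from hΦ ⟨a, ha⟩]
      exact (φ ⟨a, ha⟩).2
    obtain ⟨g, hg⟩ := (h I (j + 1) (by omega)).prev (j := j) rfl f (Submodule.linearMap_qext _ (LinearMap.ext_ring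
      (d_d W j (j + 1) (j + 1 + 1) (Φ 1))))
    refine ⟨(Φ - g ∘ₗ I.mkQ).codRestrict Z fun a => ?_, fun a ha => Subtype.ext ?_⟩
    · show W.d j (j + 1) (Φ a - g (Submodule.Quotient.mk a)) = 0
      rw [map_sub, sub_eq_zero]
      exact (LinearMap.congr_fun hg (Submodule.Quotient.mk a)).symm
    · show Φ a - g (Submodule.Quotient.mk a) = (φ ⟨a, ha⟩ : W.X j)
      rw [(Submodule.Quotient.mk_eq_zero I).2 ha, map_zero, sub_zero]
      exact hΦ ⟨a, ha⟩
  haveI := hbaer.injective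
  obtain ⟨r, hr⟩ := Module.Injective.out (R := A) (Q := Z) Z.subtype Z.injective_subtype LinearMap.id
  intro f hf
  have hex : ∀ x, ∃ y, W.d j (j + 1) y = f x := fun x => by
    let fx : A ⧸ (⊥ : Ideal A) →ₗ[A] W.X (j + 1) :=
      Submodule.liftQ ⊥ (LinearMap.toSpanSingleton A _ (f x)) bot_le
    obtain ⟨g, hg⟩ := (h ⊥ (j + 1) (by omega)).prev (j := j) rfl fx (Submodule.linearMap_qext _ (LinearMap.ext_ring (by
      show W.d (j + 1) (j + 1 + 1) ((1 : A) • f x) = 0
      rw [one_smul]; exact LinearMap.congr_fun hf x)))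
    exact ⟨g (Submodule.Quotient.mk 1), (LinearMap.congr_fun hg _).trans (one_smul A (f x))⟩
  choose y hy using hex
  have hwell : ∀ {u v : W.X j}, W.d j (j + 1) u = W.d j (j + 1) v → u - Z.subtype (r u) = v - Z.subtype (r v) := fun {u v} e => by
    have hm : u - v ∈ Z := show W.d j (j + 1) (u - v) = 0 by rw [map_sub, e, sub_self]
    have h1 : (r (u - v) : W.X j) = u - v := congrArg Subtype.val (hr ⟨u - v, hm⟩)
    rw [map_sub, AddSubgroupClass.coe_sub] at h1
    rw [sub_eq_sub_iff_sub_eq_sub]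
    exact h1.symm
  let g : N →ₗ[A] W.X j :=
    { toFun := fun x => y x - Z.subtype (r (y x))
      map_add' := fun a b => by
        rw [hwell (u := y (a + b)) (v := y a + y b) (by rw [map_add, hy, hy, hy, map_add]), map_add, map_add]
        abel
      map_smul' := fun c a => by
        rw [hwell (u := y (c • a)) (v := c • y a) (by rw [map_smul, hy, hy, map_smul]), map_smul, map_smul, ← smul_sub]
        rfl }
  have hg : ∀ x, W.d j (j + 1) (g x) = f x := fun x => by
    show W.d j (j + 1) (y x - Z.subtype (r (y x))) = f x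
    rw [map_sub, hy, show W.d j (j + 1) (Z.subtype (r (y x))) = 0 from (r (y x)).2, sub_zero]
  suffices hh : ∀ k, k + 1 = j + 1 → ∃ g' : N →ₗ[A] W.X k, (W.d k (j + 1)).hom ∘ₗ g' = f from
    hh (j + 1 - 1) (by omega)
  intro k hk
  obtain rfl : k = j := by omega
  exact ⟨g, LinearMap.ext hg⟩

end InjDim

section Contraction

variable {W : DRing.Cx A} {m : Ideal A} [m.IsMaximal] (hW : ∀ i, Injective (W.X i))
variable {d : ℤ} {x : W.X d} (hx : XCy W m d x) (hxb : ¬ XBd W m d x)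
  (hgen : ∀ y, XCy W m d y → ∃ a : A, XBd W m d (y - a • x))
  (hvan : ∀ p, p ≠ d → ∀ y, XCy W m p y → XBd W m p y)

include hW hx hxb hgen hvan in
/-- A cochain that is a cocycle on the killed subcomplex, null on the class, is null-homotopic there. -/
theorem exists_killed_homotopy {n : ℤ} (z : Cochain W W n)
    (hz : ∀ p q (hpq : p + (n + 1) = q), ∀ v ∈ Xk W m p, (δ n (n + 1) z).v p q hpq v = 0)
    (hzx : XBd W m (d + n) (z.v d (d + n) rfl x)) :
    ∃ H : Cochain W W (n - 1), ∀ p q (hpq : p + n = q), ∀ v ∈ Xk W m p, (z - δ (n - 1) n H).v p q hpq v = 0 := by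
  classical
  let ε : ℤ := (n.negOnePow : ℤˣ)
  have hεε : ε * ε = 1 := by simp [ε, ← Units.val_mul]
  have hdz : ∀ p p' q q' (_ : p + 1 = p') (hq : p + n = q) (hq' : p' + n = q'), ∀ v ∈ Xk W m p,
      W.d q q' (z.v p q hq v) = ε • z.v p' q' hq' (W.d p p' v) := by
    intro p p' q q' hp hq hq' v hv
    subst hp
    have h := hz p q' (by omega) v hv
    rw [δ_v n (n + 1) rfl _ p q' _ q (p + 1) (by omega) rfl, Int.negOnePow_succ] at h
    simp only [ε, Units.smul_def, Units.val_neg, neg_smul] at h ⊢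
    rw [← sub_eq_zero]
    simpa [sub_eq_add_neg] using h
  let Z : ∀ i, Submodule A (Xk W m i) := fun i => (LinearMap.ker (W.d i (i + 1)).hom).comap (Xk W m i).subtype
  choose Q hQ using fun i => exists_isCompl_killed m (X := Xk W m i)
    (fun a ha v => Subtype.ext ((mem_Xk W m).1 v.2 a ha)) (Z i)
  have hQ0 : ∀ p (u : Xk W m p), u ∈ Q p → W.d p (p + 1) u.1 = 0 → u = 0 := fun p u hu hd0 =>
    (Submodule.mem_bot A).1 ((hQ p).inf_eq_bot ▸ ⟨hd0, hu⟩)
  -- the classes
  have hcls : ∀ p q : ℤ, p + n = q → ∀ q₁, q₁ + 1 = q → ∀ hq : p + n = q, ∃ (xp : W.X p) (yp : W.X q₁),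
      XCy W m p xp ∧ W.d q₁ q yp = z.v p q hq xp ∧ (∀ w, XCy W m p w → ∃ a : A, XBd W m p (w - a • xp)) ∧
      ∀ c : A, XBd W m p (c • xp) → c • xp = 0 ∧ c • yp = 0 := by
    intro p q _ q₁ hq₁ hq
    by_cases hp : p = d
    · subst hp
      subst hq
      obtain ⟨y, hy, hyx⟩ := hzx
      obtain rfl : q₁ = p + n - 1 := by omega
      refine ⟨x, y, hx, hyx, hgen, fun c hc => ?_⟩
      have hcm : c ∈ m := by
        by_contra hcm
        obtain ⟨c', e, he, hce⟩ := (inferInstance : m.IsMaximal).exists_inv hcm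
        refine hxb ?_
        obtain ⟨w, hw, hwx⟩ := hc
        refine ⟨c' • w, Submodule.smul_mem _ _ hw, ?_⟩
        rw [map_smul, hwx, smul_smul]
        conv_rhs => rw [← one_smul A x, ← hce, add_smul, (mem_Xk W m).1 hx.1 e he, add_zero]
      exact ⟨(mem_Xk W m).1 hx.1 c hcm, (mem_Xk W m).1 hy c hcm⟩
    · refine ⟨0, 0, ⟨zero_mem _, map_zero _⟩, by rw [map_zero, map_zero], fun w hw => ⟨0, ?_⟩, fun c _ => ⟨smul_zero _, smul_zero _⟩⟩
      rw [zero_smul, sub_zero]
      exact hvan p hp w hw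
  have key : ∀ T : Triplet (n - 1), ∃ φ : W.X T.p →ₗ[A] W.X T.q,
      (∀ u : Xk W m T.p, u ∈ Q T.p → φ u.1 = 0) ∧
      (∀ (p' : ℤ) (hp' : p' + 1 = T.p) (hq : p' + n = T.q) (u : Xk W m p'), u ∈ Q p' →
        φ (W.d p' T.p u.1) = ε • z.v p' T.q hq u.1) ∧
      ∀ (q : ℤ) (hq : T.p + n = q), ∀ w, XCy W m T.p w → ∃ (a : A) (b : W.X (T.p - 1)), b ∈ Xk W m (T.p - 1) ∧
        w = W.d (T.p - 1) T.p b + a • (w - W.d (T.p - 1) T.p b) ∧
        W.d T.q q (φ (w - W.d (T.p - 1) T.p b)) = z.v T.p q hq (w - W.d (T.p - 1) T.p b) := by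
    rintro ⟨p, q₁, hpq⟩
    obtain ⟨xp, yp, hxp, hyp, hgp, hcp⟩ := hcls p (p + n) rfl q₁ (by omega) rfl
    let T : (↥(Q p) × ↥(Q (p - 1))) × A →ₗ[A] W.X p :=
      (((Xk W m p).subtype ∘ₗ (Q p).subtype).coprod
        ((W.d (p - 1) p).hom ∘ₗ (Xk W m (p - 1)).subtype ∘ₗ (Q (p - 1)).subtype)).coprod
        (LinearMap.toSpanSingleton A _ xp)
    let ψ : (↥(Q p) × ↥(Q (p - 1))) × A →ₗ[A] W.X q₁ :=
      ((0 : ↥(Q p) →ₗ[A] W.X q₁).coprod
        (ε • ((z.v (p - 1) q₁ (by omega)).hom ∘ₗ (Xk W m (p - 1)).subtype ∘ₗ (Q (p - 1)).subtype))).coprod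
        (LinearMap.toSpanSingleton A _ yp)
    have hker : LinearMap.ker T ≤ LinearMap.ker ψ := by
      rintro ⟨⟨u, u'⟩, c⟩ h0
      have h0' : (u.1.1 + W.d (p - 1) p u'.1.1) + c • xp = 0 := h0
      have hu : u.1 = 0 := hQ0 p u.1 u.2 (by
        have := congrArg (W.d p (p + 1)) h0'
        rw [map_add, map_add, d_d, map_smul, hxp.2, smul_zero, add_zero, add_zero, map_zero] at this
        exact this)
      rw [show u.1.1 = 0 from congrArg Subtype.val hu, zero_add] at h0'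
      obtain ⟨hcx, hcy⟩ := hcp c ⟨-u'.1.1, Submodule.neg_mem _ u'.1.2, by
        rw [map_neg]; exact neg_eq_of_add_eq_zero_right h0'⟩
      rw [hcx, add_zero] at h0'
      have hu' : u'.1 = 0 := hQ0 (p - 1) u'.1 u'.2 (by
        have e : p - 1 + 1 = p := by omega
        rw [e]; exact h0')
      show ((0 : W.X q₁) + ε • z.v (p - 1) q₁ _ u'.1.1) + c • yp = 0
      rw [show u'.1.1 = 0 from congrArg Subtype.val hu', map_zero, smul_zero, zero_add, zero_add, hcy]
    obtain ⟨φ, hφ⟩ := factor_of_ker_le ((Module.injective_iff_injective_object A _).2 (hW q₁)) T ψ hker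
    have hφ' : ∀ (u : Q p) (u' : Q (p - 1)) (c : A),
        φ ((u.1.1 + W.d (p - 1) p u'.1.1) + c • xp) = ((0 : W.X q₁) + ε • z.v (p - 1) q₁ (by omega) u'.1.1) + c • yp :=
      fun u u' c => LinearMap.congr_fun hφ ⟨⟨u, u'⟩, c⟩
    refine ⟨φ, fun u hu => ?_, fun p' hp' hq u hu => ?_, fun q hq w hw => ?_⟩
    · simpa only [ZeroMemClass.coe_zero, map_zero, smul_zero, zero_smul, add_zero, zero_add] using hφ' ⟨u, hu⟩ 0 0
    · dsimp only at hp' hq ⊢
      obtain rfl : p' = p - 1 := by omega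
      simpa only [ZeroMemClass.coe_zero, map_zero, smul_zero, zero_smul, add_zero, zero_add] using hφ' 0 ⟨u, hu⟩ 0
    · dsimp only at hq hw ⊢
      obtain rfl : q = p + n := by omega
      obtain ⟨a, b, hb, hba⟩ := hgp w hw
      refine ⟨1, b, hb, by rw [one_smul, add_sub_cancel], ?_⟩
      have e1 : w - W.d (p - 1) p b = a • xp := by rw [hba]; abel
      have e2 : φ (a • xp) = a • yp := by simpa only [ZeroMemClass.coe_zero, map_zero, smul_zero, zero_smul, add_zero, zero_add] using hφ' 0 0 a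
      rw [e1, e2, map_smul, hyp, map_smul]
  choose φ hφQ hφd hφx using key
  let H : Cochain W W (n - 1) := Cochain.mk fun p q hpq => ModuleCat.ofHom (φ ⟨p, q, hpq⟩)
  refine ⟨H, fun p q hpq v hv => ?_⟩
  rw [Cochain.sub_v, δ_v (n - 1) n (by omega) _ p q _ (q - 1) (p + 1) rfl rfl]
  show z.v p q hpq v - (W.d (q - 1) q (φ ⟨p, q - 1, by omega⟩ v) +
    n.negOnePow • (φ ⟨p + 1, q, by omega⟩ (W.d p (p + 1) v))) = 0
  have hsplit : ∀ i (v : Xk W m i), ∃ z0 ∈ Z i, ∃ u ∈ Q i, z0 + u = v := fun i v => exists_add_of_isCompl (hQ i) v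
  obtain ⟨z0, hz0, u, hu, hsum⟩ := hsplit p ⟨v, hv⟩
  have hv' : v = z0.1 + u.1 := (congrArg Subtype.val hsum).symm
  obtain ⟨a, b, hb, hba, hbz⟩ := hφx ⟨p, q - 1, by omega⟩ q hpq z0.1 ⟨z0.2, hz0⟩
  obtain ⟨z', hz', u', hu', hsum'⟩ := hsplit (p - 1) ⟨b, hb⟩
  have e : p - 1 + 1 = p := by omega
  have hdb : W.d (p - 1) p b = W.d (p - 1) p u'.1 := by
    rw [← show z'.1 + u'.1 = b from congrArg Subtype.val hsum', map_add]
    have : W.d (p - 1) (p - 1 + 1) z'.1 = 0 := hz'
    rw [e] at this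
    rw [this, zero_add]
  set r := z0.1 - W.d (p - 1) p b
  have hz0' : z0.1 = W.d (p - 1) p u'.1 + r := by rw [← hdb]; simp [r]
  have h1 : W.d (q - 1) q (φ ⟨p, q - 1, by omega⟩ v) = z.v p q hpq z0.1 := by
    rw [hv', map_add, hφQ ⟨p, q - 1, by omega⟩ u hu, add_zero, hz0', map_add,
      hφd ⟨p, q - 1, by omega⟩ (p - 1) e (show p - 1 + n = q - 1 by omega) u' hu', map_add, map_zsmul, hbz, map_add]
    congr 1
    rw [hdz (p - 1) p (q - 1) q e (by omega) hpq u'.1 u'.2, smul_smul, hεε, one_smul]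
  have h2 : φ ⟨p + 1, q, by omega⟩ (W.d p (p + 1) v) = ε • z.v p q hpq u.1 := by
    rw [hv', map_add, show W.d p (p + 1) z0.1 = 0 from hz0, zero_add, hφd ⟨p + 1, q, by omega⟩ p rfl hpq u hu]
  rw [h1, h2, Units.smul_def, show ((n.negOnePow : ℤˣ) : ℤ) = ε from rfl, smul_smul, hεε, one_smul, hv', map_add,
    sub_self]

end Contraction

end Groth.Agent.Dlz27
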