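import Groth.Agent.Lib.Dlz27.Converse

/-!
# A single residual degree implies dualizing
-/

set_option autoImplicit false
universe u

open CategoryTheory CategoryTheory.Limits CategoryTheory.Pretriangulated CochainComplex.HomComplex

attribute [local instance] HasDerivedCategory.standard

noncomputable section

namespace Groth.Agent.Dlz27

variable {A : Type u} [CommRing A]

/-- Relations lift along a surjection onto a flat module. -/
theorem exists_relation_lift {C M : Type u} [AddCommGroup C] [Module A C] [AddCommGroup M] [Module A M]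
    [Module.Flat A M] (π : C →ₗ[A] M) (hπ : Function.Surjective π) {r : ℕ} (g : Fin r → A) (c : Fin r → C)
    (h : ∑ l, g l • π (c l) = 0) :
    ∃ c' : Fin r → C, (∀ l, π (c' l) = 0) ∧ ∑ l, g l • c' l = ∑ l, g l • c l := by
  obtain ⟨k, s, y, hy, hs⟩ := Module.Flat.isTrivialRelation_of_sum_smul_eq_zero h
  choose c'' hc'' using fun j => hπ (y j)
  refine ⟨fun l => c l - ∑ j, s l j • c'' j, fun l => ?_, ?_⟩
  · rw [map_sub, map_sum]; simp only [map_smul, hc'']; rw [← hy l, sub_self]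
  · have h2 : ∑ l, g l • ∑ j, s l j • c'' j = 0 := by
      simp_rw [Finset.smul_sum, smul_smul]
      rw [Finset.sum_comm]
      simp_rw [← Finset.sum_smul, hs, zero_smul, Finset.sum_const_zero]
    simp only [smul_sub, Finset.sum_sub_distrib, h2, sub_zero]

variable {W : DRing.Cx A}

/-- The differential with values in cocycles. -/
def δZ (W : DRing.Cx A) (n n' : ℤ) : Cochain W W n →ₗ[A] Zc W n' :=
  (δ_hom A W W n n').codRestrict (Zc W n') fun c => LinearMap.mem_ker.2 (δ_δ n n' (n' + 1) c)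

theorem δZ_val (n n' : ℤ) (c : Cochain W W n) : (δZ W n n' c).1 = δ n n' c := rfl

theorem δZ_eq_zero_iff (n n' : ℤ) (hn : n + 1 = n') (c : Cochain W W n) : δZ W n n' c = 0 ↔ c ∈ Zc W n := by
  subst hn
  exact ⟨fun h => LinearMap.mem_ker.2 (congrArg Subtype.val h), fun h => Subtype.ext h⟩

/-- Every cocycle is a coboundary. -/
def Hex (W : DRing.Cx A) (n : ℤ) : Prop := Function.Surjective (δZ W (n - 1) n)

theorem hex_surjective {n : ℤ} (h : Hex W n) {m : ℤ} (hm : m + 1 = n) : Function.Surjective (δZ W m n) := by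
  obtain rfl : m = n - 1 := by omega
  exact h

/-- The identity cocycle. -/
def idC (W : DRing.Cx A) : Zc W 0 := ⟨Cochain.ofHom (𝟙 W), LinearMap.mem_ker.2 (δ_ofHom (𝟙 W))⟩

section HomClass

variable [W.IsKInjective] {n : ℤ}

theorem hcl_add {P : DRing.Cx A} (z z' : Cocycle P W n) : hcl (z + z') = hcl z + hcl z' := by
  rw [hcl, map_add, Functor.map_add, Preadditive.add_comp]; rfl

variable (W n) in
/-- Classes of cocycles as morphisms. -/
def clH : Zc W n →ₗ[A] (DerivedCategory.Q.obj W ⟶ (DerivedCategory.Q.obj W)⟦n⟧) where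
  toFun z := hcl (Cocycle.mk z.1 (n + 1) rfl (LinearMap.mem_ker.1 z.2))
  map_add' z z' := hcl_add (Cocycle.mk z.1 (n + 1) rfl (LinearMap.mem_ker.1 z.2)) (Cocycle.mk z'.1 (n + 1) rfl (LinearMap.mem_ker.1 z'.2))
  map_smul' a z := hcl_smul a (Cocycle.mk z.1 (n + 1) rfl (LinearMap.mem_ker.1 z.2))

theorem clH_surjective : Function.Surjective (clH W n) := fun φ => by
  obtain ⟨z, rfl⟩ := hcl_surjective φ
  exact ⟨⟨z.1, LinearMap.mem_ker.2 (Cocycle.δ_eq_zero z (n + 1))⟩, rfl⟩

theorem clH_eq_zero_iff (z : Zc W n) : clH W n z = 0 ↔ z ∈ LinearMap.range (δZ W (n - 1) n) := by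
  refine (hcl_eq_zero_iff _).trans ⟨?_, ?_⟩
  · rintro ⟨w, hw⟩; exact ⟨w, Subtype.ext hw⟩
  · rintro ⟨w, hw⟩; exact ⟨w, congrArg Subtype.val hw⟩

end HomClass

section Main

variable [IsNoetherianRing A] [IsLocalRing A]

variable (hW : ∀ i, Injective (W.X i)) {a b : ℤ} [W.IsStrictlyGE a] [W.IsStrictlyLE b] [W.IsKInjective]
variable {d : ℤ} {x : W.X d} (hx : XCy W (IsLocalRing.maximalIdeal A) d x) (hxb : ¬ XBd W (IsLocalRing.maximalIdeal A) d x)
  (hgen : ∀ y, XCy W (IsLocalRing.maximalIdeal A) d y → ∃ a : A, XBd W (IsLocalRing.maximalIdeal A) d (y - a • x))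
  (hvan : ∀ p, p ≠ d → ∀ y, XCy W (IsLocalRing.maximalIdeal A) p y → XBd W (IsLocalRing.maximalIdeal A) p y)
variable (hfin : ∀ n : ℤ, Module.Finite A (DerivedCategory.Q.obj W ⟶ (DerivedCategory.Q.obj W)⟦n⟧))

omit [IsNoetherianRing A] [IsLocalRing A] in
theorem cochain_apply_cy {m : Ideal A} {n : ℤ} {x : W.X d} (hx : XCy W m d x) (z : Zc W n) :
    XCy W m (d + n) (z.1.v d (d + n) rfl x) := by
  refine ⟨map_mem_Xk W m _ hx.1, ?_⟩
  have h := congrArg (fun c : Cochain W W (n + 1) => c.v d (d + n + 1) (by omega) x) (LinearMap.mem_ker.1 z.2)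
  simp only [δ_hom_apply] at h
  rw [δ_v n (n + 1) rfl _ d (d + n + 1) _ (d + n) (d + 1) (by omega) rfl] at h
  have h' : W.d (d + n) (d + n + 1) (z.1.v d (d + n) rfl x) +
      (n + 1).negOnePow • (z.1.v (d + 1) (d + n + 1) (by omega) (W.d d (d + 1) x)) = 0 := h
  rw [hx.2, map_zero, smul_zero, add_zero] at h'
  exact h'

omit [IsNoetherianRing A] [IsLocalRing A] in
theorem xbd_cast {m : Ideal A} {n : ℤ} {x : W.X d} (z : Cochain W W n) {q : ℤ} (hq : d + n = q)
    (h : XBd W m q (z.v d q hq x)) : XBd W m (d + n) (z.v d (d + n) rfl x) := by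
  subst hq; exact h

omit [IsNoetherianRing A] [IsLocalRing A] in
theorem xcy_cast {m : Ideal A} {n : ℤ} {x : W.X d} (hx : XCy W m d x) (z : Zc W n) {q : ℤ} (hq : d + n = q) :
    XCy W m q (z.1.v d q hq x) := by
  subst hq; exact cochain_apply_cy hx z

include hW hx hxb hgen hvan in
theorem exists_split_cocycle {n : ℤ} (z : Cochain W W n)
    (hz : ∀ p q (hpq : p + (n + 1) = q), ∀ v ∈ Xk W (IsLocalRing.maximalIdeal A) p, (δ n (n + 1) z).v p q hpq v = 0)
    (hzx : XBd W (IsLocalRing.maximalIdeal A) (d + n) (z.v d (d + n) rfl x)) {r : ℕ} (g : Fin r → A) (hg : Ideal.span (Set.range g) = (IsLocalRing.maximalIdeal A)) :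
    ∃ (H : Cochain W W (n - 1)) (cl : Fin r → Cochain W W n), z = δ (n - 1) n H + ∑ l, g l • cl l := by
  obtain ⟨H, hH⟩ := exists_killed_homotopy (m := (IsLocalRing.maximalIdeal A)) hW hx hxb hgen hvan z hz hzx
  obtain ⟨cl, hcl⟩ := exists_combination W (IsLocalRing.maximalIdeal A) hW g hg _ hH
  exact ⟨H, cl, by rw [← hcl, add_sub_cancel]⟩

include hW hx hxb hgen hvan hfin in
theorem hex_of_flat {n : ℤ} (hn : n ≠ 0) {C M : Type u} [AddCommGroup C] [Module A C] [AddCommGroup M] [Module A M]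
    [Module.Flat A M] (π : C →ₗ[A] M) (hπ : Function.Surjective π) (ι : Cochain W W n →ₗ[A] C)
    (hι : ∀ c, π (ι c) = 0 ↔ c ∈ Zc W n) (hker : ∀ c', π c' = 0 → ∃ c, ι c = c') (hinj : Function.Injective ι) :
    Hex W n := by
  obtain ⟨r, g, hg⟩ := Submodule.fg_iff_exists_fin_generating_family.1 (IsNoetherian.noetherian (IsLocalRing.maximalIdeal A))
  haveI := hfin n
  have htop : (⊤ : Submodule A (DerivedCategory.Q.obj W ⟶ (DerivedCategory.Q.obj W)⟦n⟧)) ≤ (IsLocalRing.maximalIdeal A) • ⊤ := by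
    rintro φ -
    obtain ⟨z, rfl⟩ := clH_surjective φ
    have hne : d + n ≠ d := by omega
    have hb : XBd W (IsLocalRing.maximalIdeal A) (d + n) (z.1.v d (d + n) rfl x) := hvan (d + n) hne _ (cochain_apply_cy (m := (IsLocalRing.maximalIdeal A)) hx z)
    have hz0 : δ n (n + 1) z.1 = 0 := LinearMap.mem_ker.1 z.2
    obtain ⟨H, cl, hcl⟩ := exists_split_cocycle hW hx hxb hgen hvan z.1
      (fun p q hpq v _ => by rw [hz0, Cochain.zero_v]; rfl) hb g hg
    have h0 : ∑ l, g l • π (ι (cl l)) = 0 := by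
      simp_rw [← map_smul]
      rw [← map_sum, ← map_sum, hι, show ∑ l, g l • cl l = z.1 - δ (n - 1) n H by rw [hcl, add_sub_cancel_left]]
      exact Submodule.sub_mem _ z.2 (δZ W (n - 1) n H).2
    obtain ⟨c', hc'0, hc'⟩ := exists_relation_lift π hπ g (fun l => ι (cl l)) h0
    choose c hc using fun l => hker _ (hc'0 l)
    have hsum : ∑ l, g l • c l = ∑ l, g l • cl l := hinj (by
      simp_rw [map_sum, map_smul, hc]; exact hc')
    let w : Fin r → Zc W n := fun l => ⟨c l, (hι _).1 (by rw [hc, hc'0])⟩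
    have hzw : z = δZ W (n - 1) n H + ∑ l, g l • w l := Subtype.ext (by
      rw [Submodule.coe_add, Submodule.coe_sum, δZ_val]
      simp only [w, Submodule.coe_smul]
      rw [hsum]; exact hcl)
    rw [hzw, map_add, (clH_eq_zero_iff _).2 ⟨H, rfl⟩, zero_add, map_sum]
    refine Submodule.sum_mem _ fun l _ => ?_
    rw [map_smul]
    exact Submodule.smul_mem_smul (hg ▸ Submodule.subset_span ⟨l, rfl⟩) Submodule.mem_top
  have hbot := Submodule.eq_bot_of_le_smul_of_le_jacobson_bot (IsLocalRing.maximalIdeal A) ⊤ Module.Finite.fg_top htop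
    (IsLocalRing.maximalIdeal_le_jacobson _)
  intro z
  exact (clH_eq_zero_iff z).1 ((Submodule.eq_bot_iff _).1 hbot _ Submodule.mem_top)

omit [IsLocalRing A] in
theorem flat_Zc_step (hWi : ∀ i, Injective (W.X i)) {n m : ℤ} (hm : m + 1 = n) (h : Hex W n) (hf : Module.Flat A (Zc W n)) :
    Module.Flat A (Zc W m) := by
  refine DMod.flat_left_of_exact (i := (Zc W m).subtype) (q := δZ W m n) (Zc W m).injective_subtype ?_
    (hex_surjective h hm) (flat_cochain W W hWi hWi m) hf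
  intro c
  rw [δZ_eq_zero_iff m n hm]
  exact ⟨fun hc => ⟨⟨c, hc⟩, rfl⟩, by rintro ⟨⟨c', hc'⟩, rfl⟩; exact hc'⟩

include hW hx hxb hgen hvan hfin in
theorem hex_pos : ∀ (k : ℕ) (n : ℤ), 0 < n → b - a < n + k → Hex W n ∧ Module.Flat A (Zc W n)
  | 0, n, _, hn => by
    haveI := subsingleton_cochain (W := W) (a := a) (b := b) (n := n) (by simpa using hn)
    exact ⟨fun z => ⟨0, Subsingleton.elim _ _⟩, inferInstance⟩
  | k + 1, n, hn0, hn => by
    obtain ⟨h1, h2⟩ := hex_pos k (n + 1) (by omega) (by push_cast at hn; omega)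
    refine ⟨?_, flat_Zc_step hW rfl h1 h2⟩
    exact hex_of_flat hW hx hxb hgen hvan hfin (by omega) (δZ W n (n + 1)) (hex_surjective h1 rfl) LinearMap.id
      (fun c => δZ_eq_zero_iff n (n + 1) rfl c) (fun c _ => ⟨c, rfl⟩) Function.injective_id

/-- The augmented differential. -/
def aug (W : DRing.Cx A) : Cochain W W (-1) × A →ₗ[A] Zc W 0 :=
  (δZ W (-1) 0).coprod (LinearMap.toSpanSingleton A _ (idC W))

include hW hx hxb hgen hvan hfin a b in
theorem zero_degree : Module.Flat A (Zc W 0) ∧ Function.Surjective (aug W) ∧ ∀ p, aug W p = 0 → p.2 = 0 := by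
  obtain ⟨r, g, hg⟩ := Submodule.fg_iff_exists_fin_generating_family.1 (IsNoetherian.noetherian (IsLocalRing.maximalIdeal A))
  obtain ⟨h1, h2⟩ := hex_pos hW (a := a) (b := b) hx hxb hgen hvan hfin (b - a).toNat 1 one_pos (by omega)
  have hflat : Module.Flat A (Zc W 0) := flat_Zc_step hW (zero_add 1) h1 h2
  have hsurj : Function.Surjective (aug W) := by
    haveI := hfin 0
    let φ₁ := clH W 0 (idC W)
    have htop : (⊤ : Submodule A (DerivedCategory.Q.obj W ⟶ (DerivedCategory.Q.obj W)⟦(0 : ℤ)⟧)) ≤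
        Submodule.span A {φ₁} ⊔ (IsLocalRing.maximalIdeal A) • ⊤ := by
      rintro φ -
      obtain ⟨z, rfl⟩ := clH_surjective φ
      obtain ⟨c, hc0⟩ := hgen (z.1.v d d (add_zero d) x) (xcy_cast hx z (add_zero d))
      have hc : XBd W (IsLocalRing.maximalIdeal A) (d + 0) ((z - c • idC W).1.v d (d + 0) rfl x) := xbd_cast _ (add_zero d) (by
        rw [Submodule.coe_sub, Submodule.coe_smul, Cochain.sub_v, Cochain.smul_v]
        show XBd W (IsLocalRing.maximalIdeal A) d (z.1.v d d (add_zero d) x - c • (Cochain.ofHom (𝟙 W)).v d d (add_zero d) x)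
        rw [Cochain.ofHom_v]
        exact hc0)
      obtain ⟨H, cl, hcl⟩ := exists_split_cocycle hW hx hxb hgen hvan (z - c • idC W).1
        (fun p q hpq v _ => by
          rw [show δ 0 (0 + 1) (z - c • idC W).1 = 0 from LinearMap.mem_ker.1 (z - c • idC W).2]; rfl) hc g hg
      have h0 : ∑ l, g l • δZ W 0 (0 + 1) (cl l) = 0 := by
        simp_rw [← map_smul]
        rw [← map_sum, δZ_eq_zero_iff 0 (0 + 1) rfl,
          show ∑ l, g l • cl l = (z - c • idC W).1 - δ (0 - 1) 0 H by rw [hcl, add_sub_cancel_left]]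
        exact Submodule.sub_mem _ (z - c • idC W).2 (δZ W (0 - 1) 0 H).2
      haveI : Module.Flat A (Zc W (0 + 1)) := by rw [zero_add]; exact h2
      have h1' : Hex W (0 + 1) := by rw [zero_add]; exact h1
      obtain ⟨c', hc'0, hc'⟩ := exists_relation_lift (δZ W 0 (0 + 1)) (hex_surjective h1' rfl) g cl h0
      let w : Fin r → Zc W 0 := fun l => ⟨c' l, (δZ_eq_zero_iff 0 (0 + 1) rfl _).1 (hc'0 l)⟩
      have hzw : z = c • idC W + (δZ W (0 - 1) 0 H + ∑ l, g l • w l) := by
        rw [← sub_eq_iff_eq_add']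
        refine Subtype.ext ?_
        rw [Submodule.coe_add, Submodule.coe_sum, δZ_val]
        simp only [w, Submodule.coe_smul]
        rw [hc']; exact hcl
      rw [hzw, map_add, map_add, map_smul, (clH_eq_zero_iff _).2 ⟨H, rfl⟩, zero_add, map_sum]
      refine Submodule.add_mem_sup (Submodule.smul_mem _ _ (Submodule.mem_span_singleton_self _))
        (Submodule.sum_mem _ fun l _ => ?_)
      rw [map_smul]
      exact Submodule.smul_mem_smul (hg ▸ Submodule.subset_span ⟨l, rfl⟩) Submodule.mem_top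
    have hle := Submodule.le_of_le_smul_of_le_jacobson_bot Module.Finite.fg_top
      (IsLocalRing.maximalIdeal_le_jacobson _) htop
    intro z
    obtain ⟨c, hc⟩ := Submodule.mem_span_singleton.1 (hle (x := clH W 0 z) Submodule.mem_top)
    obtain ⟨H, hH⟩ := (clH_eq_zero_iff (z - c • idC W)).1 (by rw [map_sub, map_smul, hc, sub_self])
    exact ⟨(H, c), show δZ W (0 - 1) 0 H + c • idC W = z by rw [hH, sub_add_cancel]⟩
  refine ⟨hflat, hsurj, fun p₀ hp₀ => ?_⟩
  let K : Submodule A (Cochain W W (-1) × A) := LinearMap.ker (aug W)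
  let J : Ideal A := K.map (LinearMap.snd A _ A)
  have hJ : J ≤ (IsLocalRing.maximalIdeal A) • J := by
    rintro c ⟨⟨w, c'⟩, hw, rfl⟩
    show c' ∈ (IsLocalRing.maximalIdeal A) • J
    have hw' : δ (-1) 0 w + c' • Cochain.ofHom (𝟙 W) = 0 := congrArg Subtype.val (show aug W (w, c') = 0 from hw)
    have hwv : ∀ p q (hpq : p + 0 = q) (v : W.X p), (δ (-1) 0 w).v p q hpq v + c' • (Cochain.ofHom (𝟙 W)).v p q hpq v = 0 :=
      fun p q hpq v => by
        have := congrArg (fun c : Cochain W W 0 => c.v p q hpq v) hw'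
        rw [Cochain.add_v, Cochain.smul_v, Cochain.zero_v] at this
        exact this
    have hdx : XBd W (IsLocalRing.maximalIdeal A) d (c' • x) := by
      refine ⟨-(w.v d (d - 1) (by omega) x), Submodule.neg_mem _ (map_mem_Xk W (IsLocalRing.maximalIdeal A) _ hx.1), ?_⟩
      have h := hwv d d (add_zero d) x
      rw [δ_v (-1) 0 (by omega) _ d d _ (d - 1) (d + 1) rfl rfl, Cochain.ofHom_v] at h
      have h' : W.d (d - 1) d (w.v d (d - 1) (by omega) x) +
        (0 : ℤ).negOnePow • (w.v (d + 1) d (by omega) (W.d d (d + 1) x)) + c' • x = 0 := h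
      rw [hx.2, map_zero, smul_zero, add_zero] at h'
      rw [map_neg]
      exact neg_eq_of_add_eq_zero_right h'
    have hc'm : c' ∈ (IsLocalRing.maximalIdeal A) := by
      by_contra hcm
      obtain ⟨u, hu⟩ := IsLocalRing.notMem_maximalIdeal.1 hcm
      obtain ⟨y, hy, hyx⟩ := hdx
      refine hxb ⟨(↑u⁻¹ : A) • y, Submodule.smul_mem _ _ hy, ?_⟩
      rw [map_smul, hyx, smul_smul, ← hu, Units.inv_mul, one_smul]
    have hwy : XCy W (IsLocalRing.maximalIdeal A) (d + -1) (w.v d (d + -1) rfl x) := by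
      refine ⟨map_mem_Xk W (IsLocalRing.maximalIdeal A) (w.v d (d + -1) rfl).hom hx.1, ?_⟩
      have h := hwv d d (add_zero d) x
      rw [δ_v (-1) 0 (by omega) _ d d _ (d + -1) (d + 1) (by omega) rfl, Cochain.ofHom_v] at h
      have h' : W.d (d + -1) d (w.v d (d + -1) rfl x) +
        (0 : ℤ).negOnePow • (w.v (d + 1) d (by omega) (W.d d (d + 1) x)) + c' • x = 0 := h
      rw [hx.2, map_zero, smul_zero, add_zero, (mem_Xk W (IsLocalRing.maximalIdeal A)).1 hx.1 c' hc'm, add_zero] at h'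
      rwa [show d + -1 + 1 = d by omega]
    have hne : d + -1 ≠ d := by omega
    have hb : XBd W (IsLocalRing.maximalIdeal A) (d + -1) (w.v d (d + -1) rfl x) := hvan (d + -1) hne _ hwy
    have hwz : ∀ p q (hpq : p + (-1 + 1) = q), ∀ v ∈ Xk W (IsLocalRing.maximalIdeal A) p, (δ (-1) (-1 + 1) w).v p q hpq v = 0 :=
      fun p q hpq v hv => by
        have h := hwv p q (by omega) v
        rw [show c' • (Cochain.ofHom (𝟙 W)).v p q (by omega) v = 0 by
          rw [← map_smul, (mem_Xk W (IsLocalRing.maximalIdeal A)).1 hv c' hc'm, map_zero], add_zero] at h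
        exact h
    obtain ⟨H, cl, hcl⟩ := exists_split_cocycle (n := -1) hW hx hxb hgen hvan w hwz hb g hg
    obtain ⟨e, he⟩ := (Submodule.mem_span_range_iff_exists_fun A).1
      (show c' ∈ Submodule.span A (Set.range g) from hg.symm ▸ hc'm)
    have h0 : ∑ l, g l • aug W (cl l, e l) = 0 := by
      simp_rw [← map_smul]
      rw [← map_sum]
      refine Subtype.ext ?_
      show δ (-1) 0 (∑ l, g l • (cl l, e l)).1 + (∑ l, g l • (cl l, e l)).2 • Cochain.ofHom (𝟙 W) = 0
      rw [Prod.fst_sum, Prod.snd_sum]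
      simp only [Prod.smul_fst, Prod.smul_snd, smul_eq_mul]
      rw [show ∑ l, g l * e l = c' by rw [← he]; exact Finset.sum_congr rfl fun l _ => mul_comm _ _,
        show ∑ l, g l • cl l = w - δ (-1 - 1) (-1) H by rw [hcl, add_sub_cancel_left], δ_sub, δ_δ, sub_zero]
      exact hw'
    haveI := hflat
    obtain ⟨c'', hc''0, hc''⟩ := exists_relation_lift (aug W) hsurj g (fun l => (cl l, e l)) h0
    have hsum : c' = ∑ l, g l • (c'' l).2 := by
      have := congrArg Prod.snd hc''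
      rw [Prod.snd_sum, Prod.snd_sum] at this
      simp only [Prod.smul_snd, smul_eq_mul] at this ⊢
      rw [this, ← he]
      exact Finset.sum_congr rfl fun l _ => mul_comm _ _
    rw [hsum]
    exact Submodule.sum_mem _ fun l _ =>
      Submodule.smul_mem_smul (hg ▸ Submodule.subset_span ⟨l, rfl⟩) ⟨c'' l, hc''0 l, rfl⟩
  have hbot : J = ⊥ := Submodule.eq_bot_of_le_smul_of_le_jacobson_bot (IsLocalRing.maximalIdeal A) J (IsNoetherian.noetherian J) hJ
    (IsLocalRing.maximalIdeal_le_jacobson _)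
  exact (Submodule.eq_bot_iff _).1 hbot p₀.2 ⟨p₀, hp₀, rfl⟩

include hW hx hxb hgen hvan hfin a b in
theorem hex_neg_one : Hex W (-1) ∧ Module.Flat A (Zc W (-1)) := by
  obtain ⟨hflat, hsurj, hinj⟩ := zero_degree hW (a := a) (b := b) hx hxb hgen hvan hfin
  haveI := hflat
  have hι : ∀ c, aug W (LinearMap.inl A _ A c) = 0 ↔ c ∈ Zc W (-1) := fun c => by
    rw [← δZ_eq_zero_iff (-1) 0 (by omega) c]
    show δZ W (-1) 0 c + (0 : A) • idC W = 0 ↔ _
    rw [zero_smul, add_zero]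
  have hker : ∀ p, aug W p = 0 → ∃ c, LinearMap.inl A _ A c = p := fun p hp =>
    ⟨p.1, Prod.ext rfl (hinj p hp).symm⟩
  refine ⟨hex_of_flat hW hx hxb hgen hvan hfin (by decide) (aug W) hsurj (LinearMap.inl A _ A) hι hker
    LinearMap.inl_injective, ?_⟩
  haveI := flat_cochain W W hW hW (-1)
  haveI : Module.Flat A (Cochain W W (-1) × A) := DMod.modClass_flat.prod (inferInstance : Module.Flat A (Cochain W W (-1))) (inferInstance : Module.Flat A A)
  refine DMod.flat_left_of_exact (i := LinearMap.inl A _ A ∘ₗ (Zc W (-1)).subtype) (q := aug W)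
    (LinearMap.inl_injective.comp (Zc W (-1)).injective_subtype) ?_ hsurj inferInstance hflat
  intro p
  refine ⟨fun hp => ?_, ?_⟩
  · obtain ⟨c, rfl⟩ := hker p hp
    exact ⟨⟨c, (hι c).1 hp⟩, rfl⟩
  · rintro ⟨c, rfl⟩; exact (hι c.1).2 c.2

include hW hx hxb hgen hvan hfin a b in
theorem hex_neg : ∀ (k : ℕ), Hex W (-1 - (k : ℤ)) ∧ Module.Flat A (Zc W (-1 - (k : ℤ)))
  | 0 => by simpa using hex_neg_one hW (a := a) (b := b) hx hxb hgen hvan hfin
  | k + 1 => by
    obtain ⟨h1, h2⟩ := hex_neg k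
    have e : (-1 - ((k + 1 : ℕ) : ℤ)) + 1 = -1 - (k : ℤ) := by push_cast; ring
    refine ⟨?_, flat_Zc_step hW e h1 h2⟩
    exact hex_of_flat hW hx hxb hgen hvan hfin (by omega) (δZ W _ _) (hex_surjective h1 e) LinearMap.id
      (fun c => δZ_eq_zero_iff _ _ e c) (fun c _ => ⟨c, rfl⟩) Function.injective_id

include hW hx hxb hgen hvan hfin a b in
theorem hex_all (n : ℤ) (hn : n ≠ 0) : Hex W n := by
  rcases lt_or_gt_of_ne hn with h | h
  · obtain ⟨k, rfl⟩ : ∃ k : ℕ, n = -1 - (k : ℤ) := ⟨(-1 - n).toNat, by omega⟩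
    exact (hex_neg hW (a := a) (b := b) hx hxb hgen hvan hfin k).1
  · exact (hex_pos hW (a := a) (b := b) hx hxb hgen hvan hfin (b - a).toNat n h (by omega)).1

end Main

section Final

variable [IsNoetherianRing A] [IsLocalRing A]

theorem finite_homW {R : Dual.D A} (M : Model R) (hH : ∀ i, Module.Finite A (M.W.homology i))
    (N : Type u) [AddCommGroup N] [Module A N] [Module.Finite A N] (j : ℤ) :
    Module.Finite A (Dual.inD A N ⟶ R⟦j⟧) := by
  classical
  obtain ⟨r, fl, hfl, hfs⟩ := finV M.inj M.lo hH N j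
  let Z : Submodule A (N →ₗ[A] M.W.X j) := LinearMap.ker (LinearMap.compRight A (M := N) (M.W.d j (j + 1)).hom)
  let L : Z →ₗ[A] (Dual.inD A N ⟶ R⟦j⟧) :=
    { toFun := fun f => cl M f.1 (LinearMap.mem_ker.1 f.2)
      map_add' := fun f g => cl_add M f.1 g.1 (LinearMap.mem_ker.1 f.2) (LinearMap.mem_ker.1 g.2)
      map_smul' := fun c f => cl_smul M c f.1 (LinearMap.mem_ker.1 f.2) }
  refine Module.Finite.of_surjective (L ∘ₗ Fintype.linearCombination A fun l => (⟨fl l, hfl l⟩ : Z)) fun φ => ?_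
  obtain ⟨f, hf, rfl⟩ := cl_surjective M φ
  obtain ⟨c, g, hcg⟩ := hfs f hf
  refine ⟨c, ?_⟩
  refine (cl_eq_iff M _ f (LinearMap.mem_ker.1
    (Fintype.linearCombination A (fun l => (⟨fl l, hfl l⟩ : Z)) c).2) hf).2 ⟨-g, ?_⟩
  simp [hcg, Fintype.linearCombination_apply, Submodule.coe_sum]

theorem finite_hom_bounded {R : Dual.D A} (M : Model R) (hH : ∀ i, Module.Finite A (M.W.homology i))
    (X : Dual.D A) (d : ℕ) (a : ℤ) (hX : ∀ l, Module.Finite A (Dual.HD A X l))
    (h1 : ∀ l : ℤ, l < a → Subsingleton (Dual.HD A X l)) (h2 : ∀ l : ℤ, a + d ≤ l → Subsingleton (Dual.HD A X l)) :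
    FinHom R X := by
  revert X
  intro X hX h1 h2
  refine bounded_induction (FinHom R) (fun e h j => ?_) (fun X hX j => ?_) (fun N _ m j => ?_) (fun T hT h1 h3 j => ?_)
    d a X hX h1 h2
  · haveI := h j
    exact Module.Finite.equiv (Linear.homCongr A e (Iso.refl (R⟦j⟧)))
  · haveI : Subsingleton (X ⟶ R⟦j⟧) := ⟨fun f g => hX.eq_of_src f g⟩
    infer_instance
  · have e : (sgl.obj N)⟦-m⟧ ≅ (DerivedCategory.singleFunctor (ModuleCat.{u} A) m).obj N :=
      (((DerivedCategory.singleFunctors (ModuleCat.{u} A)).shiftIso (-m) m 0 (by omega)).app N)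
    haveI := finite_homW M hH N (j + m)
    exact Module.Finite.equiv ((homUntwist' (ω := R) (sgl.obj N) (-m) (j + m) j (by omega)) ≪≫ₗ
      Linear.homCongr A e (Iso.refl (R⟦j⟧)))
  · haveI := h1 j
    haveI := h3 j
    let f : (T.obj₂ ⟶ R⟦j⟧) →ₗ[A] (T.obj₁ ⟶ R⟦j⟧) := Linear.leftComp A _ T.mor₁
    let g : (T.obj₃ ⟶ R⟦j⟧) →ₗ[A] (T.obj₂ ⟶ R⟦j⟧) := Linear.leftComp A _ T.mor₂
    haveI hker : Module.Finite A (LinearMap.ker f) := by
      have hle : LinearMap.ker f = LinearMap.range g := le_antisymm (fun ψ hψ => by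
        obtain ⟨χ, hχ⟩ := Triangle.yoneda_exact₂ T hT ψ hψ
        exact ⟨χ, hχ.symm⟩) (by
        rintro _ ⟨χ, rfl⟩
        show T.mor₁ ≫ T.mor₂ ≫ χ = 0
        rw [← Category.assoc, comp_distTriang_mor_zero₁₂ _ hT, zero_comp])
      rw [hle]; infer_instance
    haveI : Module.Finite A ((T.obj₂ ⟶ R⟦j⟧) ⧸ LinearMap.ker f) := Module.Finite.equiv f.quotKerEquivRange.symm
    exact Module.Finite.of_submodule_quotient (LinearMap.ker f)

/-- A single residual degree implies dualizing. -/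
theorem isDualizing_of_residue (R : Dual.D A) (hfin : ∀ i : ℤ, Module.Finite A (Dual.HD A R i))
    (hbdd : ∃ a : ℤ, ∀ i : ℤ, i < a → Subsingleton (Dual.HD A R i)) (d : ℤ)
    (hvan : ∀ i : ℤ, i ≠ d → Subsingleton (Dual.inD A (IsLocalRing.ResidueField A) ⟶ R⟦i⟧))
    (hd : Nonempty ((Dual.inD A (IsLocalRing.ResidueField A) ⟶ R⟦d⟧) ≃ₗ[A] IsLocalRing.ResidueField A)) :
    Dual.IsDualizing A R := by
  obtain ⟨a₀, ha₀⟩ := hbdd
  obtain ⟨W₀, hW₀, hW₀i, hW₀K, ⟨e₀⟩⟩ := HTFin27.exists_res_bounded R a₀ ha₀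
  have hH₀ : ∀ i, Module.Finite A (W₀.homology i) := fun i => by
    haveI := hfin i
    exact Module.Finite.equiv ((DerivedCategory.homologyFunctorFactors (ModuleCat.{u} A) i).symm.app W₀ ≪≫
      (DerivedCategory.homologyFunctor (ModuleCat.{u} A) i).mapIso e₀).toLinearEquiv.symm
  have hid : ∃ a b : ℤ, ∀ (M : Type u) [AddCommGroup M] [Module A M] (i : ℤ),
      (i < a ∨ b < i) → Subsingleton (Dual.inD A M ⟶ R⟦i⟧) := by
    refine ⟨a₀, d, fun N _ _ i hi => (subsingleton_hom_iff_van e₀ N i).2 ?_⟩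
    rcases hi with hi | hi
    · intro f _
      haveI := ModuleCat.subsingleton_of_isZero (W₀.isZero_of_isStrictlyGE a₀ i hi)
      exact ⟨0, Subsingleton.elim _ _⟩
    · refine van_of_cyclic W₀ hW₀i d (fun J j hj => ?_) N i hi
      exact van_quotient_of_residue W₀ a₀ hH₀ d hW₀i
        (fun l hl => (subsingleton_hom_iff_van e₀ _ l).1 (hvan l (ne_of_gt hl))) J j hj
  obtain ⟨W, lo, hi, h1, h2, h3, h4, ⟨e⟩⟩ := exists_model_of_injdim R hid
  let M : Model R := ⟨W, lo, hi, h1, h2, h3, h4, e⟩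
  have hvan' : ∀ p, p ≠ d → ∀ y, XCy W (IsLocalRing.maximalIdeal A) p y → XBd W (IsLocalRing.maximalIdeal A) p y :=
    fun p hp => (van_residue_iff p).1 ((subsingleton_hom_iff_van M.e _ p).1 (hvan p hp))
  obtain ⟨eφ⟩ := hd
  obtain ⟨φ0, hφ0⟩ : ∃ φ0 : Dual.inD A (A ⧸ IsLocalRing.maximalIdeal A) ⟶ R⟦d⟧, eφ φ0 = 1 :=
    ⟨eφ.symm 1, eφ.apply_symm_apply 1⟩
  obtain ⟨f, hf, hfφ⟩ := cl_surjective M φ0
  let x : W.X d := f 1
  have hxc : XCy W (IsLocalRing.maximalIdeal A) d x := ⟨killed_one f, LinearMap.congr_fun hf 1⟩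
  have hofx : ofKilled x hxc.1 = f := linearMap_ext_one (ofKilled_one x hxc.1)
  have hxb : ¬ XBd W (IsLocalRing.maximalIdeal A) d x := by
    rintro ⟨y, hy, hyx⟩
    have h0 : cl M f hf = 0 := (cl_eq_zero_iff M f hf).2
      ⟨ofKilled y hy, linearMap_ext_one ((congrArg (W.d (d - 1) d) (ofKilled_one y hy)).trans hyx)⟩
    rw [← hfφ, h0] at hφ0
    exact zero_ne_one ((map_zero eφ).symm.trans hφ0)
  have hgen : ∀ y, XCy W (IsLocalRing.maximalIdeal A) d y → ∃ c : A, XBd W (IsLocalRing.maximalIdeal A) d (y - c • x) := by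
    intro y hy
    have hy' : (M.W.d d (d + 1)).hom ∘ₗ ofKilled y hy.1 = 0 := linearMap_ext_one (by
      show W.d d (d + 1) (ofKilled y hy.1 1) = 0
      rw [ofKilled_one, hy.2])
    obtain ⟨c, hc⟩ := IsLocalRing.residue_surjective (eφ (cl M (ofKilled y hy.1) hy'))
    refine ⟨c, ?_⟩
    have h5 : cl M (ofKilled y hy.1) hy' = cl M (c • f) (by rw [LinearMap.comp_smul, hf, smul_zero]) := by
      rw [cl_smul M c f hf, hfφ]
      refine eφ.injective ?_
      refine hc.symm.trans ?_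
      refine Eq.trans ?_ (map_smul eφ c φ0).symm
      refine Eq.trans ?_ (congrArg (c • ·) hφ0).symm
      show IsLocalRing.residue A c = c • (1 : IsLocalRing.ResidueField A)
      rw [Algebra.smul_def, mul_one]
      rfl
    obtain ⟨t, ht⟩ := (cl_eq_iff M _ _ hy' _).1 h5
    refine ⟨t 1, killed_one t, (LinearMap.congr_fun ht 1).trans ?_⟩
    rw [LinearMap.sub_apply, LinearMap.smul_apply, ofKilled_one]
  have hH : ∀ i, Module.Finite A (M.W.homology i) := fun i => by
    haveI := hfin i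
    exact Module.Finite.equiv ((DerivedCategory.homologyFunctorFactors (ModuleCat.{u} A) i).symm.app W ≪≫
      (DerivedCategory.homologyFunctor (ModuleCat.{u} A) i).mapIso e).toLinearEquiv.symm
  have hfinH : ∀ n : ℤ, Module.Finite A (DerivedCategory.Q.obj W ⟶ (DerivedCategory.Q.obj W)⟦n⟧) := fun n => by
    haveI := finite_hom_bounded M hH (DerivedCategory.Q.obj W) (hi - lo + 1).toNat lo (fun l => by
      haveI := hfin l
      exact Module.Finite.equiv ((DerivedCategory.homologyFunctor (ModuleCat.{u} A) l).mapIso e).toLinearEquiv.symm)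
      (fun l hl => (DMod.isGE_iff _ lo).1 inferInstance l hl)
      (fun l hl => (DMod.isLE_iff (DerivedCategory.Q.obj W) hi).1 inferInstance l (by omega)) n
    exact Module.Finite.equiv (Linear.homCongr A (Iso.refl (DerivedCategory.Q.obj W)) ((shiftFunctor (Dual.D A) n).mapIso M.e.symm))
  refine isDualizing_of_iso e ⟨inferInstance, ⟨lo, hi, fun N _ _ i hi' => ?_⟩, fun i => ?_, ⟨fun c c' hcc => ?_, fun φ => ?_⟩,
    fun n hn => ?_⟩
  · refine (subsingleton_hom_iff_van (W := W) (Iso.refl _) N i).2 fun f' _ => ⟨0, ?_⟩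
    haveI : Subsingleton (W.X i) := ModuleCat.subsingleton_of_isZero (by
      rcases hi' with hi' | hi'
      · exact W.isZero_of_isStrictlyGE lo i hi'
      · exact W.isZero_of_isStrictlyLE hi i hi')
    exact Subsingleton.elim _ _
  · haveI := hfin i
    exact Module.Finite.equiv ((DerivedCategory.homologyFunctor (ModuleCat.{u} A) i).mapIso e).toLinearEquiv.symm
  · obtain ⟨-, -, hinj⟩ := zero_degree h3 (a := lo) (b := hi) hxc hxb hgen hvan' hfinH
    refine sub_eq_zero.1 ?_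
    have hQ : DerivedCategory.Q.map ((c - c') • 𝟙 W) = DerivedCategory.Q.map 0 := by
      rw [Functor.map_smul, CategoryTheory.Functor.map_id, sub_smul, Functor.map_zero, sub_eq_zero]
      exact hcc
    obtain ⟨H⟩ := (KInjLib.map_eq_iff _ _).1 hQ
    obtain ⟨w, hw⟩ := Cochain.equivHomotopy _ _ H
    rw [Cochain.ofHom_zero, add_zero] at hw
    refine hinj (-w, c - c') (Subtype.ext ?_)
    show δ (-1) 0 (-w) + (c - c') • Cochain.ofHom (𝟙 W) = 0
    rw [δ_neg, ← hw, show Cochain.ofHom ((c - c') • 𝟙 W) = (c - c') • Cochain.ofHom (𝟙 W) by ext p; simp,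
      neg_add_cancel]
  · obtain ⟨-, hsurj, -⟩ := zero_degree h3 (a := lo) (b := hi) hxc hxb hgen hvan' hfinH
    obtain ⟨g, hg⟩ := KInjLib.exists_map_eq φ
    obtain ⟨⟨w, c⟩, hwc⟩ := hsurj ⟨Cochain.ofHom g, LinearMap.mem_ker.2 (δ_ofHom g)⟩
    refine ⟨c, ?_⟩
    show c • 𝟙 _ = φ
    rw [← hg, ← CategoryTheory.Functor.map_id, ← Functor.map_smul]
    refine (((KInjLib.map_eq_iff _ _).2 ⟨(Cochain.equivHomotopy g (c • 𝟙 W)).symm ⟨w, ?_⟩⟩)).symm
    rw [show Cochain.ofHom (c • 𝟙 W) = c • Cochain.ofHom (𝟙 W) by ext p; simp]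
    exact (congrArg Subtype.val hwc).symm
  · refine subsingleton_of_forall_eq 0 fun φ => ?_
    obtain ⟨z, rfl⟩ := clH_surjective φ
    exact (clH_eq_zero_iff z).2 (hex_all h3 (a := lo) (b := hi) hxc hxb hgen hvan' hfinH n hn z)

end Final

end Groth.Agent.Dlz27
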