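import Groth.Agent.Lib.Dlz27.LocalDual
import Groth.Agent.Lib.RGamma27.ExtColim
import Groth.Agent.Lib.DMod.Basic
import Mathlib.Algebra.Homology.DerivedCategory.TStructure
import Mathlib.CategoryTheory.Triangulated.TStructure.Basic

/-!
# Local duality for complexes with finite cohomology
-/

set_option autoImplicit false
universe u

open CategoryTheory CategoryTheory.Limits CategoryTheory.Pretriangulated Opposite
open Groth.Agent.LocCohLib

attribute [local instance] HasDerivedCategory.standard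

noncomputable section

namespace Groth.Agent.Dlz27

variable {A : Type u} [CommRing A]

section Colim

variable (I : Ideal A)

/-- The diagram `k ↦ Hom(A/I^k, X)`. -/
abbrev hF (X : Dual.D A) : (ℕᵒᵖ)ᵒᵖ ⥤ ModuleCat.{u + 1} A :=
  (localCohomology.ringModIdeals (localCohomology.idealPowersDiagram I) ⋙
      DerivedCategory.singleFunctor (ModuleCat.{u} A) 0).op ⋙ (linearYoneda A (Dual.D A)).obj X

/-- `colim Hom(A/I^k, X)`. -/
abbrev Hc (X : Dual.D A) : ModuleCat.{u + 1} A := colimit (hF I X)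

/-- Local cohomology of a complex as `Hc` of a shift. -/
theorem hdi_eq (K : Dual.D A) (i : ℤ) : Dual2.HDI A I K i = Hc I (K⟦i⟧) := rfl

/-- The class of a morphism. -/
def hin (k : ℕ) (X : Dual.D A) : (sgl.obj (Q I k) ⟶ X) →ₗ[A] Hc I X :=
  (colimit.ι (hF I X) (op (op k))).hom

theorem hin_proj {k m : ℕ} (h : k ≤ m) {X : Dual.D A} (a : sgl.obj (Q I k) ⟶ X) :
    hin I m X (sgl.map (proj I h) ≫ a) = hin I k X a :=
  LinearMap.congr_fun (congrArg ModuleCat.Hom.hom (colimit.w (hF I X) (idx h))) a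

theorem exists_hin {X : Dual.D A} (x : Hc I X) : ∃ k a, hin I k X a = x := by
  obtain ⟨⟨⟨k⟩⟩, a, h⟩ := Concrete.colimit_exists_rep (hF I X) x
  exact ⟨k, a, h⟩

theorem hin_eq_zero {k : ℕ} {X : Dual.D A} {a : sgl.obj (Q I k) ⟶ X} (h : hin I k X a = 0) :
    ∃ (m : ℕ) (hkm : k ≤ m), sgl.map (proj I hkm) ≫ a = 0 := by
  obtain ⟨⟨⟨m⟩⟩, i, hi⟩ := Concrete.colimit_rep_eq_zero A (hF I X) (op (op k)) a h
  exact ⟨m, i.unop.unop.le, hi⟩

/-- Functoriality. -/
def hmapC {X Y : Dual.D A} (f : X ⟶ Y) : Hc I X ⟶ Hc I Y :=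
  colimMap (Functor.whiskerLeft _ ((linearYoneda A (Dual.D A)).map f))

theorem hmapC_hin {X Y : Dual.D A} (f : X ⟶ Y) (k : ℕ) (a : sgl.obj (Q I k) ⟶ X) :
    hmapC I f (hin I k X a) = hin I k Y (a ≫ f) :=
  ConcreteCategory.congr_hom (ι_colimMap (show hF I X ⟶ hF I Y from
    Functor.whiskerLeft _ ((linearYoneda A (Dual.D A)).map f)) (op (op k))) a

theorem hmapC_comp {X Y Z : Dual.D A} (f : X ⟶ Y) (g : Y ⟶ Z) (x : Hc I X) :
    hmapC I g (hmapC I f x) = hmapC I (f ≫ g) x := by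
  obtain ⟨k, a, rfl⟩ := exists_hin I x
  rw [hmapC_hin, hmapC_hin, hmapC_hin, Category.assoc]

theorem hmapC_zero {X Y : Dual.D A} (x : Hc I X) : hmapC I (0 : X ⟶ Y) x = 0 := by
  obtain ⟨k, a, rfl⟩ := exists_hin I x
  rw [hmapC_hin, comp_zero, map_zero]

theorem exists_hmapC_mor₁ (T : Triangle (Dual.D A)) (hT : T ∈ distTriang _) (y : Hc I T.obj₂)
    (h : hmapC I T.mor₂ y = 0) : ∃ x, hmapC I T.mor₁ x = y := by
  obtain ⟨k, a, rfl⟩ := exists_hin I y
  rw [hmapC_hin] at h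
  obtain ⟨m, hm, h0⟩ := hin_eq_zero I h
  rw [← Category.assoc] at h0
  obtain ⟨b, hb⟩ := Triangle.coyoneda_exact₂ _ hT _ h0
  exact ⟨hin I m _ b, by rw [hmapC_hin, ← hb, hin_proj]⟩

end Colim

variable [IsLocalRing A] [IsNoetherianRing A] {ω : Dual.D A} (M : Model ω)

/-- The dual of `Hom(X, ω)`. -/
abbrev Du (X : Dual.D A) : Type (u + 1) := (X ⟶ ω⟦(0 : ℤ)⟧) →ₗ[A] H0 M

/-- The pairing at a level. -/
def pairPre (X : Dual.D A) (k : ℕ) : (sgl.obj (Q (mA (A := A)) k) ⟶ X) →ₗ[A] Du M X where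
  toFun a :=
    { toFun := fun ψ => val M k (a ≫ ψ)
      map_add' := fun ψ ψ' => (congrArg (val M k) (Preadditive.comp_add _ _ _ _ _ _)).trans (map_add _ _ _)
      map_smul' := fun r ψ => (congrArg (val M k) (Linear.comp_smul _ _ _ _ _ _)).trans (map_smul _ _ _) }
  map_add' a b := LinearMap.ext fun ψ =>
    (congrArg (val M k) (Preadditive.add_comp _ _ _ _ _ _)).trans (map_add _ _ _)
  map_smul' r a := LinearMap.ext fun ψ =>
    (congrArg (val M k) (Linear.smul_comp _ _ _ _ _ _)).trans (map_smul _ _ _)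

theorem pairPre_apply (X : Dual.D A) (k : ℕ) (a : sgl.obj (Q (mA (A := A)) k) ⟶ X) (ψ : X ⟶ ω⟦(0 : ℤ)⟧) :
    pairPre M X k a ψ = val M k (a ≫ ψ) := rfl

theorem pairPre_proj (X : Dual.D A) {k m : ℕ} (h : k ≤ m) (a : sgl.obj (Q (mA (A := A)) k) ⟶ X) :
    pairPre M X m (sgl.map (proj mA h) ≫ a) = pairPre M X k a := LinearMap.ext fun ψ => by
  rw [pairPre_apply, pairPre_apply, Category.assoc]
  exact val_proj M h _

theorem pairPre_well (X : Dual.D A) {k m : ℕ} (a : sgl.obj (Q (mA (A := A)) k) ⟶ X)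
    (b : sgl.obj (Q (mA (A := A)) m) ⟶ X) (h : hin mA k X a = hin mA m X b) :
    pairPre M X k a = pairPre M X m b := by
  rw [← pairPre_proj M X (le_max_left k m), ← pairPre_proj M X (le_max_right k m) b]
  rw [← hin_proj mA (le_max_left k m), ← hin_proj mA (le_max_right k m) b, ← sub_eq_zero, ← map_sub] at h
  obtain ⟨n, hn, h0⟩ := hin_eq_zero _ h
  rw [Preadditive.comp_sub, sub_eq_zero] at h0
  rw [← pairPre_proj M X hn, h0, pairPre_proj]

/-- The pairing. -/
def pair (X : Dual.D A) : Hc (mA (A := A)) X →ₗ[A] Du M X where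
  toFun x := pairPre M X _ (exists_hin _ x).choose_spec.choose
  map_add' x y := by
    obtain ⟨k, a, rfl⟩ := exists_hin _ x
    obtain ⟨m, b, rfl⟩ := exists_hin _ y
    rw [pairPre_well M X _ a (exists_hin _ (hin mA k X a)).choose_spec.choose_spec,
      pairPre_well M X _ b (exists_hin _ (hin mA m X b)).choose_spec.choose_spec,
      ← pairPre_proj M X (le_max_left k m), ← pairPre_proj M X (le_max_right k m) b, ← map_add]
    refine pairPre_well M X _ _ ?_
    rw [(exists_hin _ _).choose_spec.choose_spec, map_add, hin_proj, hin_proj]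
  map_smul' r x := by
    obtain ⟨k, a, rfl⟩ := exists_hin _ x
    rw [pairPre_well M X _ a (exists_hin _ (hin mA k X a)).choose_spec.choose_spec, RingHom.id_apply, ← map_smul (pairPre M X k)]
    refine pairPre_well M X _ _ ?_
    rw [(exists_hin _ _).choose_spec.choose_spec, map_smul]

theorem pair_hin (X : Dual.D A) (k : ℕ) (a : sgl.obj (Q (mA (A := A)) k) ⟶ X) :
    pair M X (hin mA k X a) = pairPre M X k a :=
  pairPre_well M X _ a (exists_hin _ (hin mA k X a)).choose_spec.choose_spec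

theorem pair_natural {X Y : Dual.D A} (f : X ⟶ Y) (x : Hc (mA (A := A)) X) (ψ : Y ⟶ ω⟦(0 : ℤ)⟧) :
    pair M Y (hmapC mA f x) ψ = pair M X x (f ≫ ψ) := by
  obtain ⟨k, a, rfl⟩ := exists_hin _ x
  rw [hmapC_hin, pair_hin, pair_hin, pairPre_apply, pairPre_apply, Category.assoc]

/-- Precomposition, linearly. -/
def preD {X Y : Dual.D A} (f : X ⟶ Y) : (Y ⟶ ω⟦(0 : ℤ)⟧) →ₗ[A] (X ⟶ ω⟦(0 : ℤ)⟧) :=
  Linear.leftComp A (ω⟦(0 : ℤ)⟧) f

/-- Duality holds for `X`. -/
def BijC (X : Dual.D A) : Prop := Function.Bijective (pair M X)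

/-- Duality holds for all shifts of `X`. -/
def BijS (X : Dual.D A) : Prop := ∀ n : ℤ, BijC M (X⟦n⟧)

theorem bijC_of_iso {X Y : Dual.D A} (e : X ≅ Y) (h : BijC M X) : BijC M Y := by
  refine ⟨(injective_iff_map_eq_zero _).2 fun y hy => ?_, fun t => ?_⟩
  · have h1 : hmapC mA e.inv y = 0 := h.1 (LinearMap.ext fun ψ => by
      rw [pair_natural, hy, map_zero, LinearMap.zero_apply, LinearMap.zero_apply])
    have h2 := congrArg (hmapC mA e.hom) h1
    rw [hmapC_comp, e.inv_hom_id, map_zero] at h2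
    obtain ⟨k, a, rfl⟩ := exists_hin _ y
    rwa [hmapC_hin, Category.comp_id] at h2
  · obtain ⟨x, hx⟩ := h.2 (t ∘ₗ preD e.inv)
    refine ⟨hmapC mA e.hom x, LinearMap.ext fun ψ => ?_⟩
    rw [pair_natural, hx]
    show t (e.inv ≫ e.hom ≫ ψ) = t ψ
    rw [e.inv_hom_id_assoc]

theorem bijS_of_iso {X Y : Dual.D A} (e : X ≅ Y) (h : BijS M X) : BijS M Y := fun n =>
  bijC_of_iso M ((shiftFunctor (Dual.D A) n).mapIso e) (h n)

theorem bijS_shift {X : Dual.D A} (h : BijS M X) (m : ℤ) : BijS M (X⟦m⟧) := fun n =>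
  bijC_of_iso M ((shiftFunctorAdd' (Dual.D A) m n (m + n) rfl).app X) (h (m + n))

variable (hω : Dual.IsDualizing A ω) (hn : Dual.IsNormalized A ω)

include hω hn in
theorem bijC_mid (T : Triangle (Dual.D A)) (hT : T ∈ distTriang _) (h₁ : BijC M T.obj₁) (h₃ : BijC M T.obj₃)
    (h₃' : BijC M (T.obj₃⟦(-1 : ℤ)⟧)) (h₁' : BijC M (T.obj₁⟦(1 : ℤ)⟧)) : BijC M T.obj₂ := by
  have hJ := baer_H0 M hω hn
  refine ⟨(injective_iff_map_eq_zero _).2 fun y hy => ?_, fun t => ?_⟩
  · have hgy : hmapC mA T.mor₂ y = 0 := h₃.1 (LinearMap.ext fun ψ => by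
      rw [pair_natural, hy, map_zero, LinearMap.zero_apply, LinearMap.zero_apply])
    obtain ⟨x, rfl⟩ := exists_hmapC_mor₁ mA T hT y hgy
    have hx : ∀ ψ, pair M T.obj₁ x (T.mor₁ ≫ ψ) = 0 := fun ψ => by rw [← pair_natural, hy]; rfl
    let h' : T.obj₃⟦(-1 : ℤ)⟧ ⟶ T.obj₁ := T.invRotate.mor₁
    obtain ⟨t', ht'⟩ := exists_factor hJ (preD h') (pair M T.obj₁ x) fun ψ hψ => by
      obtain ⟨χ, rfl⟩ := Triangle.yoneda_exact₂ T.invRotate (inv_rot_of_distTriang _ hT) ψ hψ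
      exact hx χ
    obtain ⟨z', hz'⟩ := h₃'.2 t'
    have : hmapC mA h' z' = x := h₁.1 (LinearMap.ext fun ψ => by
      rw [pair_natural, hz', ← ht']; rfl)
    rw [← this, hmapC_comp, show h' ≫ T.mor₁ = 0 from
      comp_distTriang_mor_zero₁₂ _ (inv_rot_of_distTriang _ hT)]
    exact hmapC_zero mA _
  · obtain ⟨z, hz⟩ := h₃.2 (t ∘ₗ preD T.mor₂)
    have hhz : hmapC mA T.mor₃ z = 0 := h₁'.1 (LinearMap.ext fun ψ => by
      rw [pair_natural, hz, map_zero, LinearMap.zero_apply]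
      show t (T.mor₂ ≫ T.mor₃ ≫ ψ) = 0
      rw [← Category.assoc, comp_distTriang_mor_zero₂₃ _ hT, zero_comp, map_zero])
    obtain ⟨y₀, hy₀⟩ := exists_hmapC_mor₁ mA T.rotate (rot_of_distTriang _ hT) z hhz
    let y : Hc (mA (A := A)) T.obj₂ := y₀
    replace hy₀ : hmapC mA T.mor₂ y = z := hy₀
    subst hy₀
    obtain ⟨s, hs⟩ := exists_factor hJ (preD T.mor₁) (t - pair M T.obj₂ y) fun ψ hψ => by
      obtain ⟨χ, rfl⟩ := Triangle.yoneda_exact₂ T hT ψ hψ
      have h := LinearMap.congr_fun hz χ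
      erw [pair_natural] at h
      rw [LinearMap.mem_ker, LinearMap.sub_apply]
      exact sub_eq_zero.2 h.symm
    obtain ⟨x, hx⟩ := h₁.2 s
    refine ⟨y + hmapC mA T.mor₁ x, LinearMap.ext fun ψ => ?_⟩
    rw [map_add, LinearMap.add_apply, pair_natural, hx,
      show s (T.mor₁ ≫ ψ) = t ψ - pair M T.obj₂ y ψ from LinearMap.congr_fun hs ψ, add_sub_cancel]

include hω hn in
theorem bijS_mid (T : Triangle (Dual.D A)) (hT : T ∈ distTriang _) (h₁ : BijS M T.obj₁) (h₃ : BijS M T.obj₃) :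
    BijS M T.obj₂ := fun n =>
  bijC_mid M hω hn ((Triangle.shiftFunctor (Dual.D A) n).obj T) (Triangle.shift_distinguished T hT n) (h₁ n) (h₃ n)
    (bijS_shift M h₃ n (-1)) (bijS_shift M h₁ n 1)

/-- Untwisting morphisms out of a shift. -/
def homUntwist (X : Dual.D A) (n : ℤ) : (X ⟶ ω⟦-n⟧) ≃ₗ[A] (X⟦n⟧ ⟶ ω⟦(0 : ℤ)⟧) :=
  LinearEquiv.ofBijective
    ({ toFun := fun ψ => ψ⟦n⟧' ≫ (shiftFunctorAdd' (Dual.D A) (-n) n 0 (neg_add_cancel n)).inv.app ω
       map_add' := fun ψ ψ' => by rw [Functor.map_add, Preadditive.add_comp]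
       map_smul' := fun r ψ => by rw [Functor.map_smul, Linear.smul_comp]; rfl } :
      (X ⟶ ω⟦-n⟧) →ₗ[A] (X⟦n⟧ ⟶ ω⟦(0 : ℤ)⟧))
    ⟨fun ψ ψ' h => (shiftFunctor (Dual.D A) n).map_injective ((cancel_mono _).1 h), fun φ =>
      ⟨(shiftFunctor (Dual.D A) n).preimage
        (φ ≫ (shiftFunctorAdd' (Dual.D A) (-n) n 0 (neg_add_cancel n)).hom.app ω), by
        show (shiftFunctor (Dual.D A) n).map _ ≫ _ = φ
        rw [Functor.map_preimage, Category.assoc, Iso.hom_inv_id_app]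
        exact Category.comp_id φ⟩⟩

include hω hn in
theorem bijC_single (N : ModuleCat.{u} A) [Module.Finite A N] (n : ℤ) : BijC M ((sgl.obj N)⟦n⟧) := by
  rcases lt_or_ge n 0 with hneg | hpos
  · have h0 : ∀ k (a : sgl.obj (Q (mA (A := A)) k) ⟶ (sgl.obj N)⟦n⟧), a = 0 := fun k a => by
      have h1 : ((sgl.obj N)⟦n⟧).IsGE (-n) := DerivedCategory.TStructure.t.isGE_shift (sgl.obj N) 0 n (-n) (by omega)
      exact DerivedCategory.TStructure.t.zero_of_isLE_of_isGE a 0 (-n) (by omega) inferInstance inferInstance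
    have hH : ∀ x : Hc (mA (A := A)) ((sgl.obj N)⟦n⟧), x = 0 := fun x => by
      obtain ⟨k, a, rfl⟩ := exists_hin _ x
      rw [h0 k a, map_zero]
    have hψ : Subsingleton (sgl.obj N ⟶ ω⟦-n⟧) :=
      (subsingleton_hom_iff_vanS M N (-n)).2 (vanS_high hω M (clPt A) (-n) _ (by
        rw [deg_closedPoint hω M hn]; omega))
    exact ⟨fun x y _ => (hH x).trans (hH y).symm, fun t => ⟨0, LinearMap.ext fun ψ => by
      obtain ⟨ψ', rfl⟩ := (homUntwist (sgl.obj N) n).surjective ψ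
      rw [Subsingleton.elim ψ' 0]; simp only [map_zero]⟩⟩
  · obtain ⟨i, rfl⟩ := Int.eq_ofNat_of_zero_le hpos
    have key : ∀ (k : ℕ) (a : Abelian.Ext (Q (mA (A := A)) k) N i) (ψ : sgl.obj N ⟶ ω⟦-(i : ℤ)⟧),
        pair M _ (hin mA k ((sgl.obj N)⟦(i : ℤ)⟧) a.hom) (homUntwist (sgl.obj N) i ψ) = phi M N i (ι mA i N k a) ψ := by
      intro k a ψ
      rw [pair_hin, phi_ι, pairPre_apply, phiPre_apply]
      rfl
    have hb : Function.Bijective (phi M N i) := bij_finite M hω hn N i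
    refine ⟨(injective_iff_map_eq_zero _).2 fun x hx => ?_, fun t => ?_⟩
    · obtain ⟨k, a, rfl⟩ := exists_hin _ x
      obtain ⟨a', rfl⟩ : ∃ a' : Abelian.Ext (Q (mA (A := A)) k) N i, a'.hom = a :=
        ⟨Abelian.Ext.homAddEquiv.symm a, Abelian.Ext.homAddEquiv.apply_symm_apply a⟩
      have h0 : ι mA i N k a' = 0 := hb.1 (LinearMap.ext fun ψ => by
        rw [← key, hx, LinearMap.zero_apply, map_zero, LinearMap.zero_apply])
      obtain ⟨m, hm, hm0⟩ := (ι_eq_zero_iff mA i N a').1 h0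
      have h1 := congrArg Abelian.Ext.hom hm0
      rw [Abelian.Ext.comp_hom, Abelian.Ext.mk₀_hom, ShiftedHom.mk₀_comp, Abelian.Ext.zero_hom] at h1
      rw [← hin_proj mA hm, h1, map_zero]
    · obtain ⟨y, hy⟩ := hb.2 (t ∘ₗ (homUntwist (sgl.obj N) (i : ℤ)).toLinearMap)
      obtain ⟨k, a, rfl⟩ := exists_ι mA i N y
      refine ⟨hin mA k _ a.hom, LinearMap.ext fun ψ => ?_⟩
      obtain ⟨ψ', rfl⟩ := (homUntwist (sgl.obj N) (i : ℤ)).surjective ψ
      rw [key, hy]
      rfl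

include hω hn in
theorem bijS_single (N : ModuleCat.{u} A) [Module.Finite A N] (m : ℤ) :
    BijS M ((DerivedCategory.singleFunctor (ModuleCat.{u} A) m).obj N) := by
  have e : (sgl.obj N)⟦-m⟧ ≅ (DerivedCategory.singleFunctor (ModuleCat.{u} A) m).obj N :=
    (((DerivedCategory.singleFunctors (ModuleCat.{u} A)).shiftIso (-m) m 0 (by omega)).app N)
  exact bijS_of_iso M e (bijS_shift M (fun n => bijC_single M hω hn N n) (-m))

include hω hn in
theorem bijS_zero {X : Dual.D A} (hX : IsZero X) : BijS M X := fun n => by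
  have hz : IsZero (X⟦n⟧) := Functor.map_isZero _ hX
  refine ⟨fun x y _ => ?_, fun t => ⟨0, LinearMap.ext fun ψ => ?_⟩⟩
  · obtain ⟨k, a, rfl⟩ := exists_hin _ x
    obtain ⟨m, b, rfl⟩ := exists_hin _ y
    rw [hz.eq_of_tgt a 0, hz.eq_of_tgt b 0, map_zero, map_zero]
  · rw [hz.eq_of_src ψ 0, map_zero, map_zero]

omit [IsLocalRing A] [IsNoetherianRing A] in
/-- Cohomology of the pieces of a truncation triangle. -/
theorem trunc_triangle (K : Dual.D A) (n : ℤ) :
    ∃ (T : Triangle (Dual.D A)) (_ : T ∈ distTriang _), Nonempty (T.obj₂ ≅ K) ∧ T.obj₁.IsLE n ∧ T.obj₃.IsGE (n + 1) ∧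
      (∀ l : ℤ, l ≤ n → Nonempty (Dual.HD A T.obj₁ l ≃ₗ[A] Dual.HD A K l)) ∧
      (∀ l : ℤ, n < l → Nonempty (Dual.HD A K l ≃ₗ[A] Dual.HD A T.obj₃ l)) := by
  obtain ⟨X, Y, hX, hY, f, g, h, mem⟩ := DerivedCategory.TStructure.t.exists_triangle K n (n + 1) rfl
  let T := Triangle.mk f g h
  have hXi : T.obj₁.IsLE n := ⟨hX⟩
  have hYi : T.obj₃.IsGE (n + 1) := ⟨hY⟩
  have hX0 := (DMod.isLE_iff T.obj₁ n).1 hXi
  have hY0 := (DMod.isGE_iff T.obj₃ (n + 1)).1 hYi
  refine ⟨T, mem, ⟨Iso.refl _⟩, hXi, hYi, fun l hl => ?_, fun l hl => ?_⟩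
  · have hmono : Mono ((DerivedCategory.homologyFunctor (ModuleCat.{u} A) l).map T.mor₁) :=
      (DerivedCategory.HomologySequence.exact₁ T mem (l - 1) l (by omega)).mono_g
        ((ModuleCat.isZero_iff_subsingleton.2 (hY0 (l - 1) (by omega))).eq_of_src _ _)
    have hepi : Epi ((DerivedCategory.homologyFunctor (ModuleCat.{u} A) l).map T.mor₁) :=
      (DerivedCategory.HomologySequence.exact₂ T mem l).epi_f
        ((ModuleCat.isZero_iff_subsingleton.2 (hY0 l (by omega))).eq_of_tgt _ _)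
    haveI := isIso_of_mono_of_epi ((DerivedCategory.homologyFunctor (ModuleCat.{u} A) l).map T.mor₁)
    exact ⟨(asIso ((DerivedCategory.homologyFunctor (ModuleCat.{u} A) l).map T.mor₁)).toLinearEquiv⟩
  · have hmono : Mono ((DerivedCategory.homologyFunctor (ModuleCat.{u} A) l).map T.mor₂) :=
      (DerivedCategory.HomologySequence.exact₂ T mem l).mono_g
        ((ModuleCat.isZero_iff_subsingleton.2 (hX0 l hl)).eq_of_src _ _)
    have hepi : Epi ((DerivedCategory.homologyFunctor (ModuleCat.{u} A) l).map T.mor₂) :=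
      (DerivedCategory.HomologySequence.exact₃ T mem l (l + 1) rfl).epi_f
        ((ModuleCat.isZero_iff_subsingleton.2 (hX0 (l + 1) (by omega))).eq_of_tgt _ _)
    haveI := isIso_of_mono_of_epi ((DerivedCategory.homologyFunctor (ModuleCat.{u} A) l).map T.mor₂)
    exact ⟨(asIso ((DerivedCategory.homologyFunctor (ModuleCat.{u} A) l).map T.mor₂)).toLinearEquiv⟩

omit [IsLocalRing A] [IsNoetherianRing A] in
/-- Dévissage for bounded complexes with finite cohomology. -/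
theorem bounded_induction (P : Dual.D A → Prop) (hiso : ∀ {X Y : Dual.D A}, (X ≅ Y) → P X → P Y)
    (hzero : ∀ X : Dual.D A, IsZero X → P X)
    (hsingle : ∀ (N : ModuleCat.{u} A) [Module.Finite A N] (m : ℤ),
      P ((DerivedCategory.singleFunctor (ModuleCat.{u} A) m).obj N))
    (hmid : ∀ T : Triangle (Dual.D A), T ∈ (distTriang _) → P T.obj₁ → P T.obj₃ → P T.obj₂) :
    ∀ (d : ℕ) (a : ℤ) (K : Dual.D A), (∀ l : ℤ, Module.Finite A (Dual.HD A K l)) →
      (∀ l : ℤ, l < a → Subsingleton (Dual.HD A K l)) → (∀ l : ℤ, a + d ≤ l → Subsingleton (Dual.HD A K l)) → P K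
  | 0, a, K, _, h1, h2 => by
    refine hzero K ((IsZero.iff_id_eq_zero K).2 ?_)
    haveI : K.IsLE (a - 1) := (DMod.isLE_iff K _).2 fun l hl => h2 l (by simp; omega)
    haveI : K.IsGE a := (DMod.isGE_iff K _).2 h1
    exact DerivedCategory.TStructure.t.zero_of_isLE_of_isGE (𝟙 K) (a - 1) a (by omega) inferInstance inferInstance
  | d + 1, a, K, hK, h1, h2 => by
    obtain ⟨T, hT, ⟨eK⟩, hXle, hYge, hlow, hhigh⟩ := trunc_triangle K a
    have hXge : ∀ l, l < a → Subsingleton (Dual.HD A T.obj₁ l) := fun l hl => by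
      obtain ⟨e⟩ := hlow l hl.le
      haveI := h1 l hl
      exact e.toEquiv.subsingleton
    haveI : T.obj₁.IsGE a := (DMod.isGE_iff _ a).2 hXge
    haveI := hXle
    obtain ⟨N, ⟨eN⟩⟩ := DerivedCategory.exists_iso_singleFunctor_obj_of_isGE_of_isLE T.obj₁ a
    haveI hNfin : Module.Finite A N := by
      obtain ⟨e⟩ := hlow a le_rfl
      haveI := hK a
      exact Module.Finite.equiv (e.symm ≪≫ₗ
        ((DerivedCategory.homologyFunctor (ModuleCat.{u} A) a).mapIso eN ≪≫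
          (DerivedCategory.singleFunctorCompHomologyFunctorIso (ModuleCat.{u} A) a).app N).toLinearEquiv)
    have hY0 := (DMod.isGE_iff T.obj₃ (a + 1)).1 hYge
    have hYfin : ∀ l, Module.Finite A (Dual.HD A T.obj₃ l) := fun l => by
      rcases le_or_gt l a with hl | hl
      · haveI := hY0 l (by omega); infer_instance
      · obtain ⟨e⟩ := hhigh l hl
        haveI := hK l
        exact Module.Finite.equiv e
    have h3 := bounded_induction P hiso hzero hsingle hmid d (a + 1) T.obj₃ hYfin hY0 fun l hl => by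
      obtain ⟨e⟩ := hhigh l (by omega)
      haveI := h2 l (by push_cast; omega)
      exact e.symm.toEquiv.subsingleton
    exact hiso eK (hmid T hT (hiso eN.symm (hsingle N a)) h3)

include hω hn in
/-- Local duality for bounded complexes with finite cohomology. -/
theorem bijS_bounded (d : ℕ) (a : ℤ) (K : Dual.D A) (hK : ∀ l : ℤ, Module.Finite A (Dual.HD A K l))
    (h1 : ∀ l : ℤ, l < a → Subsingleton (Dual.HD A K l)) (h2 : ∀ l : ℤ, a + d ≤ l → Subsingleton (Dual.HD A K l)) :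
    BijS M K :=
  bounded_induction (BijS M) (fun e h => bijS_of_iso M e h) (fun _ h => bijS_zero M hω hn h)
    (fun N _ m => bijS_single M hω hn N m) (fun T hT => bijS_mid M hω hn T hT) d a K hK h1 h2

omit [IsLocalRing A] [IsNoetherianRing A] in
/-- Morphisms from a high truncation into a bounded complex of injectives vanish. -/
theorem hom_high_eq_zero {C : Dual.D A} {n : ℤ} (hC : C.IsGE n) (i : ℤ) (h : M.hi < n + i) (ψ : C⟦-i⟧ ⟶ ω⟦(0 : ℤ)⟧) :
    ψ = 0 := by
  obtain ⟨L, hL, ⟨e⟩⟩ := DerivedCategory.exists_iso_Q_obj_of_isGE (C⟦-i⟧) (n + i)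
    (hX := DerivedCategory.TStructure.t.isGE_shift C n (-i) (n + i) (by omega))
  obtain ⟨g, hg⟩ := KInjLib.exists_map_eq (K := L) (I := M.W) (e.inv ≫ ψ ≫ (shiftFunctorZero (Dual.D A) ℤ).hom.app ω ≫ M.e.inv)
  have hg0 : g = 0 := by
    refine HomologicalComplex.hom_ext _ _ fun j => ?_
    rcases lt_or_ge j (n + i) with hj | hj
    · exact (L.isZero_of_isStrictlyGE (n + i) j hj).eq_of_src _ _
    · exact (M.W.isZero_of_isStrictlyLE M.hi j (by omega)).eq_of_tgt _ _
  rw [hg0, Functor.map_zero, eq_comm, ← cancel_epi e.hom, e.hom_inv_id_assoc, comp_zero] at hg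
  rw [← cancel_mono ((shiftFunctorZero (Dual.D A) ℤ).hom.app ω), ← cancel_mono M.e.inv, Category.assoc, hg,
    zero_comp, zero_comp]

omit [IsLocalRing A] [IsNoetherianRing A] in
theorem hc_high_eq_zero (I : Ideal A) {C : Dual.D A} {n : ℤ} (hC : C.IsGE n) (i : ℤ) (h : 0 < n + i)
    (x : Hc I (C⟦-i⟧)) : x = 0 := by
  obtain ⟨k, a, rfl⟩ := exists_hin _ x
  have h1 : (C⟦-i⟧).IsGE (n + i) := DerivedCategory.TStructure.t.isGE_shift C n (-i) (n + i) (by omega)
  rw [DerivedCategory.TStructure.t.zero_of_isLE_of_isGE a 0 (n + i) h inferInstance inferInstance, map_zero]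

include hω hn in
/-- Local duality for bounded below complexes with finite cohomology. -/
theorem bijS_boundedBelow (K : Dual.D A) (a : ℤ) (hK : ∀ l : ℤ, Module.Finite A (Dual.HD A K l))
    (h1 : ∀ l : ℤ, l < a → Subsingleton (Dual.HD A K l)) : BijS M K := by
  intro i
  obtain ⟨T, hT, ⟨eK⟩, hXle, hYge, hlow, hhigh⟩ := trunc_triangle K (max a (max (i + 1) (M.hi + i + 1)))
  set n := max a (max (i + 1) (M.hi + i + 1))
  have hX0 := (DMod.isLE_iff T.obj₁ n).1 hXle
  have hXfin : ∀ l, Module.Finite A (Dual.HD A T.obj₁ l) := fun l => by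
    rcases le_or_gt l n with hl | hl
    · obtain ⟨e⟩ := hlow l hl
      haveI := hK l
      exact Module.Finite.equiv e.symm
    · haveI := hX0 l hl; infer_instance
  have hX : BijS M T.obj₁ := bijS_bounded M hω hn (n - a + 1).toNat a T.obj₁ hXfin (fun l hl => by
    obtain ⟨e⟩ := hlow l (by omega)
    haveI := h1 l hl
    exact e.toEquiv.subsingleton) fun l hl => hX0 l (by omega)
  have hY : ∀ d : ℤ, -1 ≤ d → d ≤ 0 → BijC M ((T.obj₃⟦i⟧)⟦d⟧) := fun d hd hd' => by
    refine bijC_of_iso M ((shiftFunctorAdd' (Dual.D A) i d (-(-(i + d))) (by omega)).app T.obj₃) ?_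
    exact ⟨fun x y _ => (hc_high_eq_zero mA hYge _ (by omega) x).trans (hc_high_eq_zero mA hYge _ (by omega) y).symm,
      fun t => ⟨0, LinearMap.ext fun ψ => by
        rw [hom_high_eq_zero M hYge _ (by omega) ψ, map_zero, map_zero]⟩⟩
  refine bijC_of_iso M ((shiftFunctor (Dual.D A) i).mapIso eK) ?_
  exact bijC_mid M hω hn ((Triangle.shiftFunctor (Dual.D A) i).obj T) (Triangle.shift_distinguished T hT i) (hX i)
    (bijC_of_iso M ((shiftFunctorZero (Dual.D A) ℤ).app (T.obj₃⟦i⟧)) (hY 0 (by omega) le_rfl))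
    (hY (-1) le_rfl (by omega)) (bijS_shift M hX i 1)

include hω hn in
theorem exists_dual_ne_zero {V : Type (u + 1)} [AddCommGroup V] [Module A V] {v : V} (hv : v ≠ 0) :
    ∃ l : V →ₗ[A] H0 M, l v ≠ 0 := by
  obtain ⟨g, hg⟩ := exists_hull_H0 M hω hn
  let r : A →ₗ[A] IsLocalRing.ResidueField A := Algebra.linearMap A _
  have hker : LinearMap.ker (LinearMap.toSpanSingleton A V v) ≤ LinearMap.ker (g ∘ₗ r) := fun c hc => by
    have hcm : c ∈ IsLocalRing.maximalIdeal A := fun hu => hv ((IsUnit.smul_eq_zero hu).1 hc)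
    show g (r c) = 0
    rw [show r c = 0 from Ideal.Quotient.eq_zero_iff_mem.2 hcm, map_zero]
  obtain ⟨l, hl⟩ := exists_factor (baer_H0 M hω hn) (LinearMap.toSpanSingleton A V v) (g ∘ₗ r) hker
  refine ⟨l, fun h => ?_⟩
  have h1 := LinearMap.congr_fun hl 1
  rw [LinearMap.comp_apply, LinearMap.toSpanSingleton_apply, one_smul, h] at h1
  exact one_ne_zero (hg.injective ((h1.symm : g (r 1) = 0).trans (map_zero g).symm) : (1 : IsLocalRing.ResidueField A) = 0)

include M hω hn in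
/-- Annihilators agree. -/
theorem smul_hdi_iff' (K : Dual.D A) (a : ℤ) (hK : ∀ l : ℤ, Module.Finite A (Dual.HD A K l))
    (h1 : ∀ l : ℤ, l < a → Subsingleton (Dual.HD A K l)) (i : ℤ) (c : A) :
    (∀ x : Dual2.HDI A mA K i, c • x = 0) ↔ ∀ ψ : K ⟶ ω⟦-i⟧, c • ψ = 0 := by
  have hb := bijS_boundedBelow M hω hn K a hK h1 i
  constructor
  · intro h ψ
    by_contra hne
    obtain ⟨l, hl⟩ := exists_dual_ne_zero M hω hn hne
    obtain ⟨x, hx⟩ := hb.2 (l ∘ₗ (homUntwist K i).symm.toLinearMap)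
    have h0 : c • pair M (K⟦i⟧) x = 0 := by
      rw [← map_smul, show c • x = 0 from h x, map_zero]
    have := LinearMap.congr_fun h0 (homUntwist K i ψ)
    rw [LinearMap.smul_apply, hx] at this
    exact hl ((map_smul l c ψ).trans (by simpa using this))
  · intro h x
    refine hb.1 (LinearMap.ext fun ψ => ?_)
    obtain ⟨ψ', rfl⟩ := (homUntwist K i).surjective ψ
    rw [map_smul, LinearMap.smul_apply, map_zero, LinearMap.zero_apply, ← map_smul, ← map_smul (homUntwist K i), h,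
      map_zero, map_zero]

end Groth.Agent.Dlz27
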