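import Groth.Agent.Lib.Dlz27.Rep
import Groth.Agent.Lib.DMod.ResClass
import Mathlib.RingTheory.Flat.EquationalCriterion

/-!
# Flatness of the endomorphism complex of a complex of injective modules
-/

set_option autoImplicit false
universe u

open CategoryTheory CategoryTheory.Limits CochainComplex.HomComplex

attribute [local instance] HasDerivedCategory.standard

noncomputable section

namespace Groth.Agent.Dlz27

variable {A : Type u} [CommRing A]

/-- A map vanishing on a kernel factors through an injective target. -/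
theorem factor_of_ker_le {M N J : Type u} [AddCommGroup M] [Module A M] [AddCommGroup N] [Module A N]
    [AddCommGroup J] [Module A J] (hJ : Module.Injective A J) (T : M →ₗ[A] N) (ψ : M →ₗ[A] J)
    (h : LinearMap.ker T ≤ LinearMap.ker ψ) : ∃ Ψ : N →ₗ[A] J, Ψ ∘ₗ T = ψ := by
  obtain ⟨Ψ, hΨ⟩ := hJ.out (LinearMap.range T).subtype (LinearMap.range T).injective_subtype
    ((LinearMap.ker T).liftQ ψ h ∘ₗ T.quotKerEquivRange.symm.toLinearMap)
  refine ⟨Ψ, LinearMap.ext fun x => ?_⟩
  refine (hΨ ⟨T x, LinearMap.mem_range_self T x⟩).trans ?_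
  show (LinearMap.ker T).liftQ ψ h (T.quotKerEquivRange.symm ⟨T x, _⟩) = ψ x
  rw [LinearMap.quotKerEquivRange_symm_apply_image]
  rfl

/-- Relations among maps between injective modules are trivial, uniformly in the maps. -/
theorem exists_factor_relation {I J : Type u} [AddCommGroup I] [Module A I] [AddCommGroup J] [Module A J]
    (hI : Module.Injective A I) (hJ : Module.Injective A J) {l k : ℕ} (a : Fin l → A)
    (K : Fin k → Fin l → A) (hK : ∀ s : Fin l → A, ∑ i, a i * s i = 0 → s ∈ Submodule.span A (Set.range K))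
    (φ : Fin l → (I →ₗ[A] J)) (hφ : ∑ i, a i • φ i = 0) :
    ∃ φ' : Fin k → (I →ₗ[A] J), ∀ i, φ i = ∑ j, K j i • φ' j := by
  classical
  let T : (Fin l → I) →ₗ[A] (Fin k → I) := LinearMap.pi fun j => ∑ i, K j i • LinearMap.proj i
  let ψ : (Fin l → I) →ₗ[A] J := ∑ i, φ i ∘ₗ LinearMap.proj i
  let σ : (Fin l → A) →ₗ[A] A := ∑ i, a i • LinearMap.proj i
  have hσ : ∀ s, σ s = ∑ i, a i * s i := fun s => by simp [σ]
  have hker : LinearMap.ker T ≤ LinearMap.ker ψ := by
    intro x hx
    let h : (Fin l → A) →ₗ[A] I := Fintype.linearCombination A x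
    have hKh : Submodule.span A (Set.range K) ≤ LinearMap.ker h := by
      rw [Submodule.span_le]
      rintro _ ⟨j, rfl⟩
      have := congrFun (LinearMap.mem_ker.1 hx) j
      simpa [T, h, Fintype.linearCombination_apply] using this
    obtain ⟨g, hg⟩ := factor_of_ker_le hI σ h fun s hs => hKh (hK s ((hσ s).symm.trans hs))
    have hxi : ∀ i, x i = a i • g 1 := fun i => by
      have h1 := LinearMap.congr_fun hg (Pi.single i 1)
      rw [LinearMap.comp_apply, hσ] at h1
      simp only [Pi.single_apply, mul_ite, mul_one, mul_zero, Finset.sum_ite_eq', Finset.mem_univ,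
        if_true] at h1
      rw [← map_smul, smul_eq_mul, mul_one, h1]
      simp [h, Fintype.linearCombination_apply, Pi.single_apply]
    rw [LinearMap.mem_ker]
    have := LinearMap.congr_fun hφ (g 1)
    simpa [ψ, hxi] using this
  obtain ⟨Ψ, hΨ⟩ := factor_of_ker_le hJ T ψ hker
  refine ⟨fun j => Ψ ∘ₗ LinearMap.single A (fun _ => I) j, fun i => LinearMap.ext fun y => ?_⟩
  have h1 := LinearMap.congr_fun hΨ (Pi.single i y)
  have h2 : ψ (Pi.single i y) = φ i y := by
    simp [ψ, Pi.single_apply, apply_ite]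
  have h3 : T (Pi.single i y) = ∑ j, K j i • Pi.single j y := by
    funext j
    simp [T, Pi.single_apply, Finset.sum_apply]
  rw [LinearMap.comp_apply, h2, h3, map_sum] at h1
  rw [← h1, LinearMap.sum_apply]
  exact Finset.sum_congr rfl fun j _ => by rw [map_smul, LinearMap.smul_apply, LinearMap.comp_apply]; rfl

variable (V W : DRing.Cx A)

theorem sum_v {n : ℤ} {ι : Type} (s : Finset ι) (c : ι → Cochain V W n) (p q : ℤ) (hpq : p + n = q) :
    (∑ i ∈ s, c i).v p q hpq = ∑ i ∈ s, (c i).v p q hpq :=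
  map_sum ({ toFun := fun c : Cochain V W n => c.v p q hpq, map_zero' := rfl, map_add' := fun _ _ => rfl } :
    Cochain V W n →+ (V.X p ⟶ W.X q)) c s

theorem flat_cochain [IsNoetherianRing A] (hV : ∀ i, Injective (V.X i)) (hW : ∀ i, Injective (W.X i))
    (n : ℤ) : Module.Flat A (Cochain V W n) := by
  refine Module.Flat.of_forall_isTrivialRelation fun {l a x} h => ?_
  obtain ⟨k, K, hK⟩ := Submodule.fg_iff_exists_fin_generating_family.1
    (IsNoetherian.noetherian (LinearMap.ker (Fintype.linearCombination A a)))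
  have hK0 : ∀ j, ∑ i, a i * K j i = 0 := fun j => by
    have : K j ∈ LinearMap.ker (Fintype.linearCombination A a) := hK ▸ Submodule.subset_span ⟨j, rfl⟩
    simpa [Fintype.linearCombination_apply, mul_comm] using this
  have hKs : ∀ s : Fin l → A, ∑ i, a i * s i = 0 → s ∈ Submodule.span A (Set.range K) := fun s hs => by
    rw [hK, LinearMap.mem_ker, Fintype.linearCombination_apply, ← hs]
    exact Finset.sum_congr rfl fun i _ => mul_comm _ _
  have key : ∀ T : Triplet n, ∃ φ' : Fin k → (V.X T.p →ₗ[A] W.X T.q),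
      ∀ i, ((x i).v T.p T.q T.hpq).hom = ∑ j, K j i • φ' j := fun T =>
    exists_factor_relation ((Module.injective_iff_injective_object A _).2 (hV _))
      ((Module.injective_iff_injective_object A _).2 (hW _)) a K hKs _ (by
      have h1 := congrArg (fun c : Cochain V W n => (c.v T.p T.q T.hpq).hom) h
      simpa [sum_v] using h1)
  choose φ' hφ' using key
  refine ⟨k, fun i j => K j i, fun j => Cochain.mk fun p q hpq => ModuleCat.ofHom (φ' ⟨p, q, hpq⟩ j),
    fun i => ?_, hK0⟩
  ext p q hpq : 1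
  rw [sum_v]
  apply ModuleCat.hom_ext
  simpa using hφ' ⟨p, q, hpq⟩ i

variable {V W}

/-- The cocycles of a given degree. -/
abbrev Zc (W : DRing.Cx A) (n : ℤ) : Submodule A (Cochain W W n) :=
  LinearMap.ker (δ_hom A W W n (n + 1))

theorem subsingleton_cochain {a b : ℤ} [W.IsStrictlyGE a] [W.IsStrictlyLE b] {n : ℤ} (hn : b - a < n) :
    Subsingleton (Cochain W W n) := by
  refine ⟨fun c c' => Cochain.ext _ _ fun p q hpq => ?_⟩
  rcases lt_or_ge p a with hp | hp
  · exact (W.isZero_of_isStrictlyGE a p hp).eq_of_src _ _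
  · exact (W.isZero_of_isStrictlyLE b q (by omega)).eq_of_tgt _ _

variable [W.IsKInjective] {ω : Dual.D A} (e : DerivedCategory.Q.obj W ≅ ω) (hω : Dual.IsDualizing A ω)
variable (hWi : ∀ i, Injective (W.X i))

include e hω hWi in
theorem flat_Zc [IsNoetherianRing A] {a b : ℤ} [W.IsStrictlyGE a] [W.IsStrictlyLE b] :
    ∀ (k : ℕ) (n : ℤ), 0 ≤ n → b - a < n + k → Module.Flat A (Zc W n)
  | 0, n, _, hn => by
    haveI := subsingleton_cochain (W := W) (a := a) (b := b) (n := n) (by simpa using hn)
    infer_instance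
  | k + 1, n, hn0, hn => by
    have hflat := flat_Zc (a := a) (b := b) k (n + 1) (by omega) (by push_cast at hn; omega)
    have hmap : ∀ c : Cochain W W n, δ_hom A W W n (n + 1) c ∈ Zc W (n + 1) := fun c =>
      LinearMap.mem_ker.2 (δ_δ n (n + 1) (n + 1 + 1) c)
    refine DMod.flat_left_of_exact (i := (Zc W n).subtype)
      (q := (δ_hom A W W n (n + 1)).codRestrict (Zc W (n + 1)) hmap)
      (Zc W n).injective_subtype ?_ ?_ (flat_cochain W W hWi hWi n) hflat
    · rw [LinearMap.exact_iff, LinearMap.ker_codRestrict, Submodule.range_subtype]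
    · rintro ⟨z, hz⟩
      obtain ⟨w, hw⟩ := exists_delta_of_cocycle e hω (show n + 1 ≠ 0 by omega) z hz
      obtain ⟨w', hw'⟩ : ∃ w' : Cochain W W n, δ n (n + 1) w' = z := by
        have : n + 1 - 1 = n := by omega
        revert w
        rw [this]
        exact fun w hw => ⟨w, hw⟩
      exact ⟨w', Subtype.ext hw'⟩

include e hω hWi in
/-- Cochains that are cocycles modulo a finitely generated ideal lift to cocycles. -/
theorem exists_cocycle_lift [IsNoetherianRing A] {a b : ℤ} [W.IsStrictlyGE a] [W.IsStrictlyLE b]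
    {n : ℤ} (hn : 0 ≤ n) {r : ℕ} (g : Fin r → A) (c : Cochain W W n) (cl : Fin r → Cochain W W (n + 1))
    (hc : δ n (n + 1) c = ∑ l, g l • cl l) :
    ∃ w : Fin r → Cochain W W n, δ n (n + 1) (c - ∑ l, g l • w l) = 0 := by
  haveI := flat_Zc e hω hWi (a := a) (b := b) (b - a + 1).toNat (n + 1 + 1) (by omega) (by omega)
  let z : Fin r → Zc W (n + 1 + 1) := fun l => ⟨δ (n + 1) (n + 1 + 1) (cl l),
    LinearMap.mem_ker.2 (δ_δ (n + 1) (n + 1 + 1) (n + 1 + 1 + 1) (cl l))⟩
  have hrel : ∑ l, g l • z l = 0 := by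
    refine Subtype.ext ?_
    have h1 := congrArg (δ_hom A W W (n + 1) (n + 1 + 1)) hc
    rw [map_sum] at h1
    simp only [map_smul, δ_hom_apply, δ_δ] at h1
    simpa [z] using h1.symm
  obtain ⟨k, s, y, hy, hs⟩ := Module.Flat.isTrivialRelation_of_sum_smul_eq_zero hrel
  choose c' hc' using fun j => exists_delta_of_cocycle e hω (show n + 1 + 1 ≠ 0 by omega) (y j).1 (y j).2
  have hc'' : ∀ j, ∃ c'' : Cochain W W (n + 1), δ (n + 1) (n + 1 + 1) c'' = (y j).1 := fun j => by
    have h1 := hc' j
    have : n + 1 + 1 - 1 = n + 1 := by omega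
    generalize c' j = t at h1
    revert t
    rw [this]
    exact fun t ht => ⟨t, ht⟩
  choose c'' hc'' using hc''
  have hz0 : ∀ l, δ (n + 1) (n + 1 + 1) (cl l - ∑ j, s l j • c'' j) = 0 := fun l => by
    have h1 := congrArg Subtype.val (hy l)
    simp only [z, Submodule.coe_sum, Submodule.coe_smul] at h1
    show δ_hom A W W (n + 1) (n + 1 + 1) _ = 0
    rw [map_sub, map_sum]
    simp only [map_smul, δ_hom_apply, hc'']
    rw [h1, sub_self]
  choose w hw using fun l => exists_delta_of_cocycle e hω (show n + 1 ≠ 0 by omega) _ (hz0 l)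
  have hw' : ∀ l, ∃ w' : Cochain W W n, δ n (n + 1) w' = cl l - ∑ j, s l j • c'' j := fun l => by
    have h1 := hw l
    have : n + 1 - 1 = n := by omega
    generalize w l = t at h1
    revert t
    rw [this]
    exact fun t ht => ⟨t, ht⟩
  choose w' hw' using hw'
  refine ⟨w', ?_⟩
  have h2 : ∑ l, g l • ∑ j, s l j • c'' j = 0 := by
    simp_rw [Finset.smul_sum, smul_smul]
    rw [Finset.sum_comm]
    simp_rw [← Finset.sum_smul, hs, zero_smul, Finset.sum_const_zero]
  show δ_hom A W W n (n + 1) _ = 0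
  rw [map_sub, map_sum]
  simp only [map_smul, δ_hom_apply, hw', smul_sub, Finset.sum_sub_distrib, h2, sub_zero]
  rw [hc, sub_self]

include e hω hWi in
/-- A combination of cochains which is a cocycle is a combination of cocycles. -/
theorem exists_rel_lift [IsNoetherianRing A] {a b : ℤ} [W.IsStrictlyGE a] [W.IsStrictlyLE b]
    {n : ℤ} (hn : 0 ≤ n) {r : ℕ} (g : Fin r → A) (cl : Fin r → Cochain W W n)
    (hc : δ n (n + 1) (∑ l, g l • cl l) = 0) :
    ∃ z : Fin r → Cochain W W n, (∀ l, δ n (n + 1) (z l) = 0) ∧ ∑ l, g l • z l = ∑ l, g l • cl l := by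
  haveI := flat_Zc e hω hWi (a := a) (b := b) (b - a + 1).toNat (n + 1) (by omega) (by omega)
  let z : Fin r → Zc W (n + 1) := fun l => ⟨δ n (n + 1) (cl l),
    LinearMap.mem_ker.2 (δ_δ n (n + 1) (n + 1 + 1) (cl l))⟩
  have hrel : ∑ l, g l • z l = 0 := by
    refine Subtype.ext ?_
    have h1 : δ_hom A W W n (n + 1) (∑ l, g l • cl l) = 0 := hc
    rw [map_sum] at h1
    simp only [map_smul, δ_hom_apply] at h1
    simpa [z] using h1
  obtain ⟨k, s, y, hy, hs⟩ := Module.Flat.isTrivialRelation_of_sum_smul_eq_zero hrel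
  have hex : ∀ j, ∃ c'' : Cochain W W n, δ n (n + 1) c'' = (y j).1 := fun j => by
    obtain ⟨t, ht⟩ := exists_delta_of_cocycle e hω (show n + 1 ≠ 0 by omega) (y j).1 (y j).2
    have : n + 1 - 1 = n := by omega
    revert t
    rw [this]
    exact fun t ht => ⟨t, ht⟩
  choose c'' hc'' using hex
  refine ⟨fun l => cl l - ∑ j, s l j • c'' j, fun l => ?_, ?_⟩
  · have h1 := congrArg Subtype.val (hy l)
    simp only [z, Submodule.coe_sum, Submodule.coe_smul] at h1
    show δ_hom A W W n (n + 1) _ = 0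
    rw [map_sub, map_sum]
    simp only [map_smul, δ_hom_apply, hc'']
    rw [h1, sub_self]
  · have h2 : ∑ l, g l • ∑ j, s l j • c'' j = 0 := by
      simp_rw [Finset.smul_sum, smul_smul]
      rw [Finset.sum_comm]
      simp_rw [← Finset.sum_smul, hs, zero_smul, Finset.sum_const_zero]
    simp only [smul_sub, Finset.sum_sub_distrib, h2, sub_zero]

end Groth.Agent.Dlz27
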