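import Groth.Agent.S1713
import Groth.Agent.Lib.Dlz27.Shift
import Groth.Agent.Lib.Dlz27.HKappa
import Groth.Agent.Lib.Dlz27.DepthAt
import Groth.Agent.Lib.Dlz27.DegApps
import Groth.Agent.Lib.Dlz27.Flat
import Mathlib.RingTheory.Ideal.MinimalPrime.Colon
import Mathlib.RingTheory.Ideal.MinimalPrime.Noetherian

/-!
# The annihilator theorem for modules
-/

set_option autoImplicit false
universe u

open CategoryTheory CategoryTheory.Limits

attribute [local instance] HasDerivedCategory.standard

noncomputable section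

namespace Groth.Agent.Dlz27

open ExtCechLib HTFin27

variable {A : Type u} [CommRing A] [IsNoetherianRing A]

section Cx

variable (W : DRing.Cx A) (hW : ∀ i, Injective (W.X i))

/-- `a` kills the torsion cohomology of the localization at `q` in degree `i`. -/
def LocKill (q : PrimeSpectrum A) (a : A) (i : ℤ) : Prop :=
  ∀ y : (W.X i).localizedModule q.asIdeal.primeCompl, y ∈ InjHullLib.powTors (mQ q.asIdeal) _ →
    dL q.asIdeal.primeCompl W i (i + 1) y = 0 →
    ∃ y' ∈ InjHullLib.powTors (mQ q.asIdeal) ((W.X (i - 1)).localizedModule q.asIdeal.primeCompl),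
      dL q.asIdeal.primeCompl W (i - 1) i y' = a • y

include hW in
/-- Elementwise annihilation is given by a homotopy. -/
theorem exists_homotopy [W.IsStrictlyGE 0] (T : Set (PrimeSpectrum A)) (a : A) (s : ℕ)
    (h : ∀ i : ℕ, i ≤ s → ∀ z ∈ TCy T W i, a • z ∈ TBd T W i) :
    ∀ (l : ℕ), l ≤ s + 1 → ∀ k j : ℤ, k + 1 = l → j + 1 = k → ∃ (c : ℕ) (f : W.X k →ₗ[A] W.X j),
      ∀ z ∈ TCy T W k, a ^ c • z = W.d j k (f z)
  | 0, _, k, j, hk, _ => ⟨0, 0, fun z _ => by
      haveI := ModuleCat.subsingleton_of_isZero (W.isZero_of_isStrictlyGE 0 k (by push_cast at hk; omega))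
      exact Subsingleton.elim _ _⟩
  | l + 1, hl, k', k, hk', hk => by
    obtain ⟨c, f, hf⟩ := exists_homotopy T a s h l (by omega) k (k - 1) (by push_cast at hk'; omega) (by omega)
    let C := TTors T (W.X k)
    let g : C →ₗ[A] W.X k := a ^ c • C.subtype - (W.d (k - 1) k).hom ∘ₗ f ∘ₗ C.subtype
    let δ : C →ₗ[A] W.X k' := (W.d k k').hom ∘ₗ C.subtype
    obtain ⟨Ψ, hΨ⟩ := factor_of_ker_le ((Module.injective_iff_injective_object A _).2 (hW k)) δ g fun z hz => by
      have hz' : z.1 ∈ TCy T W k := ⟨z.2, (mem_Cy W hk).2 hz⟩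
      show a ^ c • z.1 - W.d (k - 1) k (f z.1) = 0
      rw [hf _ hz', sub_self]
    refine ⟨c + 1, a • Ψ, fun z hz => ?_⟩
    have hkill : a • z ∈ TBd T W k' := by
      obtain rfl : k' = ((l : ℕ) : ℤ) := by push_cast at hk'; omega
      exact h l (by omega) z hz
    obtain ⟨y, hy, hyz⟩ := (mem_TBd T W hk).1 hkill
    have h1 : W.d k k' y = a • z := hyz
    have h2 : Ψ (W.d k k' y) = a ^ c • y - W.d (k - 1) k (f y) := LinearMap.congr_fun hΨ ⟨y, hy⟩
    show a ^ (c + 1) • z = W.d k k' (a • Ψ z)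
    rw [pow_succ, mul_smul, ← map_smul Ψ a z, ← h1, h2, map_sub, map_smul, d_d, sub_zero]

include hW in
/-- Annihilation of cohomology with supports localizes. -/
theorem locKill_of_annihilated [W.IsStrictlyGE 0] {T : Set (PrimeSpectrum A)} (hT : StableUnderSpecialization T)
    (a : A) (s : ℕ) (h : ∀ i : ℕ, i ≤ s → ∀ z ∈ TCy T W i, a • z ∈ TBd T W i) (i : ℕ) (hi : i ≤ s) :
    ∃ c : ℕ, ∀ q ∈ T, LocKill W q (a ^ c) i := by
  obtain ⟨c, f, hf⟩ := exists_homotopy W hW T a s h (i + 1) (by omega) i ((i : ℤ) - 1) (by push_cast; ring) (by ring)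
  refine ⟨c, fun q hq y hy hd => ?_⟩
  obtain ⟨z, hz, rfl⟩ := lift_powTors q.asIdeal (W.X i) ((Module.injective_iff_injective_object A _).2 (hW i)) hy
  rw [dL_mkL, mkL_eq_zero_iff] at hd
  obtain ⟨t, ht⟩ := hd
  have hz' : (t : A) • z ∈ TCy T W i :=
    ⟨powTors_le_TTors hT hq _ (Submodule.smul_mem _ _ hz), (mem_Cy W rfl).2 ((map_smul (W.d (i : ℤ) (i + 1)).hom (t : A) z).trans ht)⟩
  have hf' := hf _ hz'
  obtain ⟨u, hu⟩ := IsLocalization.map_units (Localization q.asIdeal.primeCompl) t
  refine ⟨(↑u⁻¹ : Localization q.asIdeal.primeCompl) • mkL q.asIdeal.primeCompl _ (f ((t : A) • z)),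
    Submodule.smul_mem _ _ (mkL_mem_powTors q.asIdeal _ (map_powTors f (Submodule.smul_mem _ _ hz))), ?_⟩
  rw [map_smul, dL_mkL, ← hf', map_smul, map_smul, ← algebraMap_smul_loc _ _ (a ^ c), ← algebraMap_smul_loc _ _ (t : A),
    ← hu, smul_smul, smul_smul, mul_right_comm, Units.inv_mul, one_mul, algebraMap_smul_loc]

include hW in
/-- Local annihilation at all primes of `T` gives annihilation. -/
theorem annihilated_of_locKill {T : Set (PrimeSpectrum A)} (hT : StableUnderSpecialization T)
    {ω : Dual.D A} (hω : Dual.IsDualizing A ω) (M : Model ω) (J : Ideal A) (i : ℤ)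
    (hJ : ∀ a ∈ J, ∀ q ∈ T, LocKill W q a i) :
    ∀ (k : ℕ), ∀ x ∈ TCy T W i, (∀ r : PrimeSpectrum A, annEl x ≤ r.asIdeal → M.hi + 1 - k ≤ deg hω M r) →
      ∀ b ∈ J ^ k, b • x ∈ TBd T W i
  | 0, x, _, hdeg, b, _ => by
    have htop : (annEl x : Ideal A) = ⊤ := by
      by_contra hne
      obtain ⟨P, hP, hle⟩ := Ideal.exists_le_maximal _ hne
      have h1 := hdeg ⟨P, hP.isPrime⟩ hle
      have h2 := deg_le hω M ⟨P, hP.isPrime⟩
      push_cast at h1; omega
    have hx : x = 0 := by
      have h1 : (1 : A) ∈ (annEl x : Ideal A) := htop ▸ trivial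
      exact (one_smul A x).symm.trans h1
    rw [hx, smul_zero]
    exact zero_mem _
  | k + 1, x, hx, hdeg, b, hb => by
    classical
    rw [pow_succ] at hb
    refine Submodule.mul_induction_on hb (fun b' hb' a ha => ?_) fun p q hp hq => by
      rw [add_smul]; exact add_mem hp hq
    let Qs : Set (PrimeSpectrum A) := {q | q.asIdeal ∈ (annEl x).minimalPrimes ∧ deg hω M q = M.hi - k}
    have hQ : Qs.Finite := ((Ideal.finite_minimalPrimes_of_isNoetherianRing A (annEl x)).preimage
      (fun a _ b _ h => PrimeSpectrum.ext h)).subset fun q hq => hq.1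
    obtain ⟨⟨J', hJ', hJx⟩, hxc⟩ := hx
    have hQT : ∀ q ∈ Qs, q ∈ T := fun q hq => by
      have h1 : J' ≤ annEl x := fun c hc => hJx c hc
      exact hJ' (h1.trans hq.1.1.2)
    have hsol : ∀ q ∈ hQ.toFinset, ∃ z ∈ InjHullLib.powTors q.asIdeal (W.X (i - 1)),
        mkL q.asIdeal.primeCompl _ (W.d (i - 1) i z) = a • mkL q.asIdeal.primeCompl _ x := by
      intro q hq
      rw [Set.Finite.mem_toFinset] at hq
      obtain ⟨y', hy', hd⟩ := hJ a ha q (hQT q hq) _ (mkL_mem_powTors_of_minimal q.asIdeal _ hq.1)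
        (by rw [dL_mkL, show W.d i (i + 1) x = 0 from (mem_Cy W rfl).1 hxc, map_zero])
      obtain ⟨z, hz, rfl⟩ := lift_powTors q.asIdeal _ ((Module.injective_iff_injective_object A _).2 (hW (i - 1))) hy'
      exact ⟨z, hz, (dL_mkL _ W _ _ _).symm.trans hd⟩
    choose! z hz hzq using hsol
    let zs : W.X (i - 1) := ∑ q ∈ hQ.toFinset, z q
    have hzs : zs ∈ TTors T (W.X (i - 1)) := sum_mem fun q hq =>
      powTors_le_TTors hT (hQT q (hQ.mem_toFinset.1 hq)) _ (hz q hq)
    have hd0 : W.d (i - 1) i zs ∈ TBd T W i := (mem_TBd T W (j := i - 1) (by omega)).2 ⟨zs, hzs, rfl⟩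
    let x' : W.X i := a • x - W.d (i - 1) i zs
    have hx' : x' ∈ TCy T W i := by
      refine sub_mem (Submodule.smul_mem _ a ⟨⟨J', hJ', hJx⟩, hxc⟩) ⟨TTors.map T hzs (W.d (i - 1) i).hom, (mem_Cy W rfl).2 ?_⟩
      exact d_d W (i - 1) i (i + 1) zs
    have hdeg' : ∀ r : PrimeSpectrum A, annEl x' ≤ r.asIdeal → M.hi + 1 - k ≤ deg hω M r := by
      intro r hr
      have hz' : ∀ q ∈ Qs, mkL q.asIdeal.primeCompl _ x' = 0 := by
        intro q hq
        have h1 : mkL q.asIdeal.primeCompl _ (W.d (i - 1) i zs) = mkL q.asIdeal.primeCompl _ (W.d (i - 1) i (z q)) := by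
          simp only [zs, map_sum]
          refine Finset.sum_eq_single q (fun q' hq' hne => ?_) fun h => (h (hQ.mem_toFinset.2 hq)).elim
          refine mkL_eq_zero_of_not_le q.asIdeal _ (fun hle => hne ?_) (map_powTors _ (hz q' hq'))
          exact PrimeSpectrum.ext (le_antisymm hle (hq.1.2 (hQ.mem_toFinset.1 hq').1.1 hle))
        simp only [x', map_sub, map_smul, h1, hzq q (hQ.mem_toFinset.2 hq), sub_self]
      have hle : (annEl x : Ideal A) ⊓ hQ.toFinset.inf (fun q => (annEl (z q) : Ideal A)) ≤ annEl x' := by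
        rintro c ⟨hc1, hc2⟩
        show c • x' = 0
        have hcz : c • zs = 0 := by
          rw [Finset.smul_sum]
          exact Finset.sum_eq_zero fun q hq => (Finset.inf_le hq : hQ.toFinset.inf (fun q => annEl (z q)) ≤ _) hc2
        rw [smul_sub, smul_comm c a, show c • x = 0 from hc1, smul_zero, ← map_smul, hcz, map_zero, sub_zero]
      have hnotQ : r ∉ Qs := fun hrQ => by
        obtain ⟨t, ht⟩ := (mkL_eq_zero_iff _ _).1 (hz' r hrQ)
        exact t.2 (hr ht)
      rcases (r.isPrime.inf_le).1 (hle.trans hr) with h | h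
      · have h0 := hdeg r h
        push_cast at h0
        by_contra hlt
        obtain ⟨r0, hr0, hr0le⟩ := Ideal.exists_minimalPrimes_le h
        let R0 : PrimeSpectrum A := ⟨r0, hr0.1.1⟩
        have h2 := hdeg R0 hr0.1.2
        push_cast at h2
        rcases eq_or_lt_of_le (show R0 ≤ r from hr0le) with h3 | h3
        · exact hnotQ ⟨h3 ▸ hr0, by omega⟩
        · have := deg_strictMono hω M h3
          omega
      · obtain ⟨q, hq, hqr⟩ := (Ideal.IsPrime.inf_le' r.isPrime).1 h
        obtain ⟨m, hm⟩ := InjHullLib.mem_powTors_iff.1 (hz q hq)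
        have hle' : q ≤ r := r.isPrime.le_of_pow_le ((show q.asIdeal ^ m ≤ annEl (z q) from fun c hc => hm c hc).trans hqr)
        rcases eq_or_lt_of_le hle' with rfl | hlt
        · exact absurd (hQ.mem_toFinset.1 hq) hnotQ
        · have := deg_strictMono hω M hlt
          have := (hQ.mem_toFinset.1 hq).2
          omega
    have h1 := annihilated_of_locKill hT hω M J i hJ k x' hx' hdeg' b' hb'
    rw [show (b' * a) • x = b' • x' + b' • W.d (i - 1) i zs by simp only [x', smul_sub, mul_smul, sub_add_cancel]]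
    exact add_mem h1 (Submodule.smul_mem _ _ hd0)

end Cx

variable {ω : Dual.D A} (hω : Dual.IsDualizing A ω) (M : Model ω)
variable (N : Type u) [AddCommGroup N] [Module A N] [Module.Finite A N]
variable (W : DRing.Cx A) (hW : ∀ i, Injective (W.X i)) [W.IsStrictlyGE 0] (e : DerivedCategory.Q.obj W ≅ Dual.inD A N)

include M hω in
theorem finite_hom' (j : ℤ) : Module.Finite A (Dual.inD A N ⟶ ω⟦j⟧) := by
  classical
  obtain ⟨r, fl, hfl, hfs⟩ := finV M.inj M.lo (finite_homology hω M) N j
  have hsum : ∀ (t : Finset (Fin r)) (c : Fin r → A), ∃ h, cl M (∑ l ∈ t, c l • fl l) h = ∑ l ∈ t, c l • cl M (fl l) (hfl l) := by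
    intro t c
    induction t using Finset.induction with
    | empty =>
      exact ⟨by simp, (cl_eq_zero_iff M _ _).2 ⟨0, by simp⟩⟩
    | insert a t hat ih =>
      obtain ⟨h, he⟩ := ih
      refine ⟨by rw [Finset.sum_insert hat, LinearMap.comp_add, h, LinearMap.comp_smul, hfl, smul_zero, add_zero], ?_⟩
      simp_rw [Finset.sum_insert hat]
      rw [← he, ← cl_smul, ← cl_add]
  refine Module.Finite.of_surjective (Fintype.linearCombination A fun l => cl M (fl l) (hfl l)) fun φ => ?_
  obtain ⟨f, hf, rfl⟩ := cl_surjective M φ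
  obtain ⟨c, g, hcg⟩ := hfs f hf
  refine ⟨c, ?_⟩
  rw [Fintype.linearCombination_apply]
  obtain ⟨h, hs⟩ := hsum Finset.univ c
  rw [← hs]
  refine (cl_eq_iff M _ _ h hf).2 ⟨-g, ?_⟩
  simp [hcg]

include hW e in
/-- Local annihilation in terms of the dualizing complex. -/
theorem locKill_iff (q : PrimeSpectrum A) (a : A) (i : ℕ) :
    LocKill W q a i ↔
      ∀ φ : Dual.inD A N ⟶ ω⟦deg hω M q - i⟧, ∃ s : q.asIdeal.primeCompl, ((s : A) * a) • φ = 0 := by
  let S := q.asIdeal.primeCompl
  haveI : IsNoetherianRing (Localization S) := IsLocalization.isNoetherianRing S _ inferInstance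
  haveI : ∀ j, Injective ((locCx S W).X j) := fun j => injective_locF S (hW j)
  haveI : (locCx S W).IsKInjective := CochainComplex.isKInjective_of_injective _ 0
  obtain ⟨e'⟩ := exists_locCx_iso S W N e
  have h1 := smul_eq_zero_iff_cycles (locCx S W) e' (i : ℤ)
    (isColimK_κI (mQ q.asIdeal) i (ModuleCat.of (Localization S) (NAt S N))) (algebraMap A (Localization S) a)
  have h2 := S1713.result (Localization S) ((omegaAt M q)⟦deg hω M q⟧)
    (isDualizing_shift (isDualizing_omegaAt hω M q) _) (isNormalized_omegaAt hω M q) (NAt S N) i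
  rw [← kills_hom_loc_iff M S N]
  let ℓ := homShift (X := Dual.inD (Localization S) (NAt S N)) (ω := omegaAt M q) (deg hω M q) (-(i : ℤ))
    (deg hω M q - i) (by ring)
  constructor
  · intro h ψ
    obtain ⟨ψ', rfl⟩ := ℓ.surjective ψ
    rw [← map_smul, show algebraMap A (Localization S) a • ψ' = 0 from ?_, map_zero]
    refine Module.mem_annihilator.1 (h2.ge (Module.mem_annihilator.2 ?_)) ψ'
    refine h1.2 fun z hz => ?_
    obtain ⟨y', hy', hd⟩ := h z (mem_TTors_zeroLocus_iff.1 hz.1) ((mem_Cy (locCx S W) rfl).1 hz.2)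
    exact (mem_TBd _ (locCx S W) (j := (i : ℤ) - 1) (by omega)).2
      ⟨y', mem_TTors_zeroLocus_iff.2 hy', hd.trans (algebraMap_smul_loc S _ a z).symm⟩
  · intro h y hy hd
    have h3 : ∀ v : LocCoh.H (mQ q.asIdeal) i (NAt S N), algebraMap A (Localization S) a • v = 0 := by
      refine Module.mem_annihilator.1 (h2.le (Module.mem_annihilator.2 fun ψ' => ℓ.injective ?_))
      rw [map_smul, h, map_zero]
    obtain ⟨y', hy', hd'⟩ := (mem_TBd _ (locCx S W) (j := (i : ℤ) - 1) (by omega)).1
      (h1.1 h3 y ⟨mem_TTors_zeroLocus_iff.2 hy, (mem_Cy (locCx S W) rfl).2 hd⟩)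
    exact ⟨y', mem_TTors_zeroLocus_iff.1 hy', hd'.trans (algebraMap_smul_loc S _ a y)⟩

include hω M in
theorem krullDim_Icc (p q : PrimeSpectrum A) (hpq : p ≤ q) :
    Order.krullDim (Set.Icc p q) = (((deg hω M q - deg hω M p).toNat : ℕ∞) : WithBot ℕ∞) := by
  rw [← height_eq_deg_sub M hω p q hpq, Order.height_eq_krullDim_Iic]
  exact Order.krullDim_eq_of_orderIso
    { toFun := fun r => ⟨⟨r.1, r.2.1⟩, r.2.2⟩
      invFun := fun r => ⟨r.1.1, r.1.2, r.2⟩
      left_inv := fun _ => rfl
      right_inv := fun _ => rfl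
      map_rel_iff' := Iff.rfl }

include hω M hW e in
/-- The annihilator theorem. -/
theorem annihilator_iff {T T' : Set (PrimeSpectrum A)} (hT : StableUnderSpecialization T)
    (hT' : StableUnderSpecialization T') (s : ℕ) :
    (∃ J : Ideal A, PrimeSpectrum.zeroLocus (J : Set A) ⊆ T' ∧
        ∀ i : ℕ, i ≤ s → ∀ a ∈ J, ∀ z ∈ TCy T W i, a • z ∈ TBd T W i) ↔
      ∀ p q : PrimeSpectrum A, p ∉ T' → q ∈ T → p ≤ q → (s : WithBot ℕ∞) <
        ((LocCoh.depth (Localization.AtPrime p.asIdeal) (LocalizedModule p.asIdeal.primeCompl N) : ℕ∞) : WithBot ℕ∞) +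
          Order.krullDim (Set.Icc p q) := by
  classical
  constructor
  · rintro ⟨J, hJ, hk⟩ p q hp hq hpq
    rw [krullDim_Icc hω M p q hpq]
    cases hn : LocCoh.depth (Localization.AtPrime p.asIdeal) (LocalizedModule p.asIdeal.primeCompl N) with
    | top => rw [← WithBot.coe_add, top_add]; exact WithBot.coe_lt_coe.2 (ENat.natCast_lt_top s)
    | coe n =>
      by_contra hlt
      have hle : n + (deg hω M q - deg hω M p).toNat ≤ s := not_lt.1 fun h => hlt (by exact_mod_cast h)
      obtain ⟨a, haJ, hap⟩ := SetLike.not_le_iff_exists.1 fun h : J ≤ p.asIdeal => hp (hJ h)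
      obtain ⟨c, hc⟩ := locKill_of_annihilated W hW hT a s (fun i hi z hz => hk i hi a haJ z hz)
        (n + (deg hω M q - deg hω M p).toNat) hle
      have hmono := (deg_strictMono hω M).monotone hpq
      refine (vanS_of_depth hω M p n N hn).2 ((vanS_iff_hom M _ N _).2 ?_)
      have h := (locKill_iff hω M N W hW e q (a ^ c) _).1 (hc q hq)
      rw [show deg hω M q - ((n + (deg hω M q - deg hω M p).toNat : ℕ) : ℤ) = deg hω M p - n by push_cast; omega] at h
      intro φ
      obtain ⟨t, ht⟩ := h φ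
      exact ⟨⟨(t : A) * a ^ c, fun hmem => (p.isPrime.mem_or_mem hmem).elim (fun ht' => t.2 (hpq ht'))
        fun ha' => hap (p.isPrime.mem_of_pow_mem c ha')⟩, ht⟩
  · intro hyp
    have hN : ∀ j : ℤ, ∃ Jj : Ideal A, PrimeSpectrum.zeroLocus (Jj : Set A) ⊆ T' ∧
        ∀ a ∈ Jj, ∀ q ∈ T, deg hω M q - j ≤ s → ∀ φ : Dual.inD A N ⟶ ω⟦j⟧,
          ∃ t : q.asIdeal.primeCompl, ((t : A) * a) • φ = 0 := by
      intro j
      have := finite_hom' hω M N j
      obtain ⟨r, v, hv⟩ := Module.Finite.exists_fin (R := A) (M := Dual.inD A N ⟶ ω⟦j⟧)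
      let K : Fin r → Ideal A := fun l =>
        { carrier := {a | ∀ q ∈ T, deg hω M q - j ≤ s → ∃ t : q.asIdeal.primeCompl, ((t : A) * a) • v l = 0}
          zero_mem' := fun q _ _ => ⟨1, by rw [mul_zero, zero_smul]⟩
          add_mem' := fun {a b} ha hb q hq hs => by
            obtain ⟨t, ht⟩ := ha q hq hs
            obtain ⟨t', ht'⟩ := hb q hq hs
            refine ⟨t * t', ?_⟩
            rw [Submonoid.coe_mul, mul_add, add_smul, mul_right_comm, mul_comm _ (t' : A), mul_smul, ht, smul_zero,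
              mul_assoc, mul_smul, ht', smul_zero, add_zero]
          smul_mem' := fun c a ha q hq hs => by
            obtain ⟨t, ht⟩ := ha q hq hs
            exact ⟨t, by rw [smul_eq_mul, mul_left_comm, mul_smul, ht, smul_zero]⟩ }
      refine ⟨Finset.univ.inf K, fun P hP => ?_, fun a ha q hq hs φ => ?_⟩
      · by_contra hPT
        obtain ⟨l, -, hl⟩ := (Ideal.IsPrime.inf_le' P.isPrime).1 hP
        obtain ⟨P0, hP0, hP0le⟩ := Ideal.exists_minimalPrimes_le hl
        obtain ⟨p, rfl⟩ : ∃ p : PrimeSpectrum A, p.asIdeal = P0 := ⟨⟨P0, hP0.1.1⟩, rfl⟩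
        have hpT : p ∉ T' := fun h => hPT (hT' ((PrimeSpectrum.le_iff_specializes p P).1 hP0le) h)
        obtain ⟨y, hy⟩ := Submodule.exists_eq_colon_of_mem_minimalPrimes (N := K l) (x := (1 : A)) (I := p.asIdeal) (by
          rwa [show Submodule.colon (K l) {(1 : A)} = K l from by ext c; simp])
        have hyK : y ∉ K l := fun h => hP0.1.1.ne_top (hy.trans (Ideal.eq_top_of_isUnit_mem _
          (Submodule.mem_colon_singleton.2 (by rwa [one_smul])) isUnit_one))
        obtain ⟨q, hq, hs, hyq⟩ : ∃ q ∈ T, deg hω M q - j ≤ s ∧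
            ∀ t : q.asIdeal.primeCompl, ((t : A) * y) • v l ≠ 0 := by
          by_contra! hall
          exact hyK fun q hq hs => hall q hq hs
        have hpq : p ≤ q := fun c hc => by
          by_contra hcq
          have : c ∈ Submodule.colon (K l) {y} := hy ▸ hc
          obtain ⟨t, ht⟩ := Submodule.mem_colon_singleton.1 this q hq hs
          exact hyq (t * ⟨c, hcq⟩) (by rwa [Submonoid.coe_mul, mul_assoc])
        have hnv : ¬ VanS M.W p.asIdeal.primeCompl N j := fun h => by
          obtain ⟨t, ht⟩ := (vanS_iff_hom M _ N j).1 h (v l)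
          exact t.2 (hP0.1.2 (fun q _ _ => ⟨1, by rw [Submonoid.coe_one, one_mul]; exact ht⟩ : (t : A) ∈ K l))
        have hlt := hyp p q hpT hq hpq
        rw [krullDim_Icc hω M p q hpq] at hlt
        cases hn : LocCoh.depth (Localization.AtPrime p.asIdeal) (LocalizedModule p.asIdeal.primeCompl N) with
        | top =>
          haveI : Subsingleton (LocalizedModule p.asIdeal.primeCompl N) := by
            by_contra hne
            rw [not_subsingleton_iff_nontrivial] at hne
            obtain ⟨m, hm⟩ := DepthLib.exists_depth_eq_natCast (R := Localization.AtPrime p.asIdeal)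
              (M := LocalizedModule p.asIdeal.primeCompl N)
            exact ENat.natCast_ne_top m (hm.symm.trans hn)
          exact hnv (vanS_of_subsingleton_localized p N j)
        | coe n =>
          rw [hn] at hlt
          have h1 : j ≤ deg hω M p := by
            by_contra h
            exact hnv (vanS_high hω M p j N (by omega))
          have h2 : j ≤ deg hω M p - n := by
            by_contra h
            refine hnv ?_
            have := (vanS_of_depth hω M p n N hn).1 (deg hω M p - j).toNat (by omega)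
            rwa [show deg hω M p - ((deg hω M p - j).toNat : ℤ) = j by omega] at this
          have h3 : s < n + (deg hω M q - deg hω M p).toNat := by exact_mod_cast hlt
          have := (deg_strictMono hω M).monotone hpq
          omega
      · have hmem : φ ∈ Submodule.span A (Set.range v) := hv ▸ trivial
        induction hmem using Submodule.span_induction with
        | mem φ hφ =>
          obtain ⟨l, rfl⟩ := hφ
          exact (Finset.inf_le (Finset.mem_univ l) : Finset.univ.inf K ≤ K l) ha q hq hs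
        | zero => exact ⟨1, smul_zero _⟩
        | add x y _ _ hx hy =>
          obtain ⟨t, ht⟩ := hx
          obtain ⟨t', ht'⟩ := hy
          refine ⟨t * t', ?_⟩
          rw [smul_add, Submonoid.coe_mul, mul_right_comm, mul_comm _ (t' : A), mul_smul, ht, smul_zero, zero_add,
            mul_left_comm, mul_smul, ht', smul_zero]
        | smul c x _ hx =>
          obtain ⟨t, ht⟩ := hx
          exact ⟨t, by rw [smul_comm, ht, smul_zero]⟩
    choose Jj hJj hJk using hN
    let J := (Finset.Icc (M.lo - s) M.hi).inf Jj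
    let k := (M.hi - M.lo + 1).toNat
    have hOk : Ok T' (J ^ k) :=
      Ok.pow (Finset.inf_induction ok_top (fun x hx y hy => hx.inf hy) fun j _ => hJj j) k
    refine ⟨J ^ k, hOk, fun i hi b hb x hx => ?_⟩
    refine annihilated_of_locKill W hW hT hω M J i (fun a ha q hq => ?_) k x hx (fun r _ => ?_) b hb
    · have h1 := deg_ge hω M q
      have h2 := deg_le hω M q
      have hmem : deg hω M q - i ∈ Finset.Icc (M.lo - s) M.hi := Finset.mem_Icc.2 ⟨by omega, by omega⟩
      exact (locKill_iff hω M N W hW e q a i).2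
        (hJk _ a ((Finset.inf_le hmem : J ≤ _) ha) q hq (by omega))
    · have h1 := deg_ge hω M r
      have h2 := deg_le hω M r
      omega

end Groth.Agent.Dlz27
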