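import Groth.Agent.Lib.Dlz27.Point
import Groth.Agent.Lib.DMod.PCHomology

/-!
# Finite free resolutions and morphisms from cocycles
-/

set_option autoImplicit false
universe u

open CategoryTheory CategoryTheory.Limits CochainComplex.HomComplex

attribute [local instance] HasDerivedCategory.standard

noncomputable section

namespace Groth.Agent.Dlz27

variable {A : Type u} [CommRing A]

theorem exists_res_finiteFree [IsNoetherianRing A] (K : Dual.D A) (b : ℤ) [K.IsLE b]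
    (hK : ∀ i, Module.Finite A (Dual.HD A K i)) :
    ∃ P : DRing.Cx A, P.IsStrictlyLE b ∧ (∀ i, Module.Finite A (P.X i) ∧ Module.Free A (P.X i)) ∧
      Nonempty (DerivedCategory.Q.obj P ≅ K) := by
  have : (K⟦b⟧).IsLE 0 := DerivedCategory.TStructure.t.isLE_shift K b b 0 (by omega)
  have hK' : ∀ i, Module.Finite A (Dual.HD A (K⟦b⟧) i) := fun i => by
    haveI : Module.Finite A (Dual.HD A K (b + i)) := hK (b + i)
    have l : Dual.HD A K (b + i) ≃ₗ[A] Dual.HD A (K⟦b⟧) i :=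
      (((DerivedCategory.homologyFunctor (ModuleCat.{u} A) 0).shiftIso b i (b + i) rfl).app K).toLinearEquiv.symm
    exact Module.Finite.equiv l
  obtain ⟨E, hE, hF, ⟨e⟩⟩ := DMod.exists_finite_free_resolution hK'
  have : E.IsStrictlyLE 0 := (DMod.vanishesAbove_iff E 0).1 hE
  refine ⟨E⟦-b⟧, CochainComplex.isStrictlyLE_shift E 0 (-b) b (by omega), fun i => hF _,
    ⟨((DerivedCategory.Q.commShiftIso (-b)).app E) ≪≫ (shiftFunctor (Dual.D A) (-b)).mapIso e ≪≫
      (shiftFunctorCompIsoId (Dual.D A) b (-b) (by omega)).app K⟩⟩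

/-- The morphism of a cocycle between complexes. -/
def hcl {P W : DRing.Cx A} {n : ℤ} (z : Cocycle P W n) :
    DerivedCategory.Q.obj P ⟶ (DerivedCategory.Q.obj W)⟦n⟧ :=
  DerivedCategory.Q.map (Cocycle.equivHomShift.symm z) ≫ (DerivedCategory.Q.commShiftIso n).hom.app W

variable {P W : DRing.Cx A} [W.IsKInjective] {n : ℤ}

theorem hcl_eq_zero_iff (z : Cocycle P W n) :
    hcl z = 0 ↔ ∃ w : Cochain P W (n - 1), δ (n - 1) n w = z := by
  rw [← mem_coboundaries_iff z (n - 1) (by omega), ← CohomologyClass.toHom_mk_eq_zero_iff, CohomologyClass.toHom_mk]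
  constructor
  · intro h
    have h0 : DerivedCategory.Q.map (Cocycle.equivHomShift.symm z) = DerivedCategory.Q.map 0 := by
      rw [Functor.map_zero, ← cancel_mono ((DerivedCategory.Q.commShiftIso n).hom.app W), zero_comp]
      exact h
    obtain ⟨H⟩ := (KInjLib.map_eq_iff _ _).1 h0
    rw [HomotopyCategory.eq_of_homotopy _ _ H, Functor.map_zero]
  · intro h
    rw [show (0 : (HomotopyCategory.quotient _ _).obj P ⟶ (HomotopyCategory.quotient _ _).obj (W⟦n⟧)) =
      (HomotopyCategory.quotient _ _).map 0 from (Functor.map_zero _ _ _).symm] at h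
    rw [hcl, (KInjLib.map_eq_iff _ _).2 ⟨HomotopyCategory.homotopyOfEq _ _ h⟩, Functor.map_zero, zero_comp]

theorem hcl_surjective (φ : DerivedCategory.Q.obj P ⟶ (DerivedCategory.Q.obj W)⟦n⟧) :
    ∃ z : Cocycle P W n, hcl z = φ := by
  obtain ⟨g, hg⟩ := KInjLib.exists_map_eq (K := P) (I := W⟦n⟧) (φ ≫ (DerivedCategory.Q.commShiftIso n).inv.app W)
  refine ⟨Cocycle.equivHomShift g, ?_⟩
  rw [hcl, AddEquiv.symm_apply_apply, hg]
  erw [Category.assoc, Iso.inv_hom_id_app]
  exact Category.comp_id _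

theorem coboundary_of_subsingleton {ω : Dual.D A} (eP : DerivedCategory.Q.obj P ≅ ω) (eW : DerivedCategory.Q.obj W ≅ ω)
    (h : Subsingleton (ω ⟶ ω⟦n⟧)) (z : Cochain P W n) (hz : δ n (n + 1) z = 0) :
    ∃ w : Cochain P W (n - 1), δ (n - 1) n w = z := by
  refine (hcl_eq_zero_iff (Cocycle.mk z (n + 1) rfl hz)).1 ?_
  rw [← cancel_mono ((shiftFunctor (Dual.D A) n).mapIso eW).hom, zero_comp, ← cancel_epi eP.inv, comp_zero]
  exact h.elim _ _

theorem exists_scalar {ω : Dual.D A} (hω : Dual.IsDualizing A ω) (q : P ⟶ W) [IsIso (DerivedCategory.Q.map q)]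
    (eW : DerivedCategory.Q.obj W ≅ ω) (z : Cochain P W 0) (hz : δ 0 1 z = 0) :
    ∃ (a : A) (w : Cochain P W (-1)), z = a • Cochain.ofHom q + δ (-1) 0 w := by
  let c : Cocycle P W 0 := Cocycle.mk z 1 rfl hz
  let eP : DerivedCategory.Q.obj P ≅ ω := asIso (DerivedCategory.Q.map q) ≪≫ eW
  obtain ⟨a, ha⟩ := hω.toEnd_bijective.2 (eP.inv ≫ DerivedCategory.Q.map (Cocycle.homOf c) ≫ eW.hom)
  have hQ : DerivedCategory.Q.map (Cocycle.homOf c) = DerivedCategory.Q.map (a • q) := by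
    rw [Functor.map_smul, ← cancel_epi eP.inv, ← cancel_mono eW.hom, Category.assoc]
    refine ha.symm.trans ?_
    simp only [eP, Iso.trans_inv, asIso_inv, Category.assoc, Linear.comp_smul, Linear.smul_comp,
      IsIso.inv_hom_id_assoc, Iso.inv_hom_id]
  obtain ⟨H⟩ := (KInjLib.map_eq_iff _ _).1 hQ
  obtain ⟨w, hw⟩ := Cochain.equivHomotopy _ _ H
  refine ⟨a, w, ?_⟩
  have h1 : Cochain.ofHom (Cocycle.homOf c) = z := Cocycle.cochain_ofHom_homOf_eq_coe c
  have h2 : Cochain.ofHom (a • q) = a • Cochain.ofHom q := by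
    ext p; simp
  rw [← h1, hw, h2, add_comm]

theorem scalar_eq_zero {ω : Dual.D A} (hω : Dual.IsDualizing A ω) (q : P ⟶ W) [IsIso (DerivedCategory.Q.map q)]
    (eW : DerivedCategory.Q.obj W ≅ ω) {a : A} {w : Cochain P W (-1)}
    (h : a • Cochain.ofHom q = δ (-1) 0 w) : a = 0 := by
  refine hω.toEnd_bijective.1 (a₂ := 0) ?_
  show a • 𝟙 ω = (0 : A) • 𝟙 ω
  have h2 : Cochain.ofHom (a • q) = a • Cochain.ofHom q := by
    ext p; simp
  have H : Homotopy (a • q) 0 := (Cochain.equivHomotopy _ _).symm ⟨w, by rw [h2, h, Cochain.ofHom_zero, add_zero]⟩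
  have hQ : DerivedCategory.Q.map (a • q) = DerivedCategory.Q.map 0 := (KInjLib.map_eq_iff _ _).2 ⟨H⟩
  rw [Functor.map_zero, Functor.map_smul] at hQ
  let eP : DerivedCategory.Q.obj P ≅ ω := asIso (DerivedCategory.Q.map q) ≪≫ eW
  calc a • 𝟙 ω = eP.inv ≫ (a • DerivedCategory.Q.map q) ≫ eW.hom := by simp [eP]
    _ = eP.inv ≫ 0 ≫ eW.hom := by rw [hQ]
    _ = (0 : A) • 𝟙 ω := by simp

end Groth.Agent.Dlz27
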