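import Groth.Agent.Lib.Dlz27.CxDuality
import Groth.Agent.Lib.Dlz27.Faltings
import Groth.Agent.Lib.Dlz27.Res

/-!
# Morphisms from complexes into a dualizing complex: finiteness and localization
-/

set_option autoImplicit false
universe u

open CategoryTheory CategoryTheory.Limits CategoryTheory.Pretriangulated CochainComplex.HomComplex

attribute [local instance] HasDerivedCategory.standard

noncomputable section

namespace Groth.Agent.Dlz27

variable {A : Type u} [CommRing A]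

/-- Untwisting morphisms out of a shift, general degrees. -/
def homUntwist' {ω : Dual.D A} (X : Dual.D A) (n l j : ℤ) (h : l + n = j) : (X ⟶ ω⟦l⟧) ≃ₗ[A] (X⟦n⟧ ⟶ ω⟦j⟧) :=
  LinearEquiv.ofBijective
    ({ toFun := fun ψ => ψ⟦n⟧' ≫ (shiftFunctorAdd' (Dual.D A) l n j h).inv.app ω
       map_add' := fun ψ ψ' => by rw [Functor.map_add, Preadditive.add_comp]
       map_smul' := fun r ψ => by rw [Functor.map_smul, Linear.smul_comp]; rfl } :
      (X ⟶ ω⟦l⟧) →ₗ[A] (X⟦n⟧ ⟶ ω⟦j⟧))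
    ⟨fun ψ ψ' h => (shiftFunctor (Dual.D A) n).map_injective ((cancel_mono _).1 h), fun φ =>
      ⟨(shiftFunctor (Dual.D A) n).preimage (φ ≫ (shiftFunctorAdd' (Dual.D A) l n j h).hom.app ω), by
        show (shiftFunctor (Dual.D A) n).map _ ≫ _ = φ
        rw [Functor.map_preimage, Category.assoc, Iso.hom_inv_id_app]
        exact Category.comp_id φ⟩⟩

theorem hcl_smul {P W : DRing.Cx A} {n : ℤ} (a : A) (z : Cocycle P W n) : hcl (a • z) = a • hcl z := by
  have h : Cocycle.equivHomShift.symm (a • z) = a • Cocycle.equivHomShift.symm z := by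
    ext p : 1
    simp [Cocycle.equivHomShift]
  rw [hcl, hcl, h, Functor.map_smul, Linear.smul_comp]

variable {ω : Dual.D A} (M : Model ω)

/-- Morphisms from an object in high degrees into the dualizing complex vanish. -/
theorem hom_ge_eq_zero {C : Dual.D A} {m : ℤ} (hC : C.IsGE m) {j : ℤ} (h : M.hi < m + j) (ψ : C ⟶ ω⟦j⟧) : ψ = 0 := by
  haveI := hC
  obtain ⟨L, hL, ⟨e⟩⟩ := DerivedCategory.exists_iso_Q_obj_of_isGE C m
  obtain ⟨z, hz⟩ := hcl_surjective (e.inv ≫ ψ ≫ (shiftFunctor (Dual.D A) j).map M.e.inv)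
  have h0 : z = 0 := Cocycle.ext (Cochain.ext _ _ fun p q hpq => by
    rcases lt_or_ge p m with hp | hp
    · exact (L.isZero_of_isStrictlyGE m p hp).eq_of_src _ _
    · exact (M.W.isZero_of_isStrictlyLE M.hi q (by omega)).eq_of_tgt _ _)
  have hz0 : hcl (0 : Cocycle L M.W j) = 0 := (hcl_eq_zero_iff _).2 ⟨0, by simp⟩
  rw [h0, hz0] at hz
  rw [← cancel_mono ((shiftFunctor (Dual.D A) j).mapIso M.e).inv, ← cancel_epi e.inv]
  simpa using hz.symm

/-- Precomposition along a triangle with high cone is bijective. -/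
theorem pre_bijective (T : Triangle (Dual.D A)) (hT : T ∈ distTriang _) {m : ℤ} (hY : T.obj₃.IsGE m) {j : ℤ}
    (h : M.hi < m + j) : Function.Bijective fun ψ : T.obj₂ ⟶ ω⟦j⟧ => T.mor₁ ≫ ψ := by
  refine ⟨fun ψ ψ' he => ?_, fun ψ => ?_⟩
  · rw [← sub_eq_zero]
    obtain ⟨g, hg⟩ := Triangle.yoneda_exact₂ T hT (ψ - ψ') (by
      rw [Preadditive.comp_sub, sub_eq_zero]; exact he)
    rw [hg, hom_ge_eq_zero M hY h g, comp_zero]
  · have hY' : (T.obj₃⟦(-1 : ℤ)⟧).IsGE (m + 1) := DerivedCategory.TStructure.t.isGE_shift T.obj₃ m (-1) (m + 1) (by omega)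
    obtain ⟨g, hg⟩ := Triangle.yoneda_exact₂ T.invRotate (inv_rot_of_distTriang _ hT) ψ
      (hom_ge_eq_zero M hY' (by omega) _)
    exact ⟨g, hg.symm⟩

variable [IsNoetherianRing A] (hω : Dual.IsDualizing A ω)

/-- Finiteness of all `Hom(X, ω⟦j⟧)`. -/
def FinHom (ω X : Dual.D A) : Prop := ∀ j : ℤ, Module.Finite A (X ⟶ ω⟦j⟧)

include M hω in
/-- `Hom(K, ω⟦j⟧)` is finite for bounded below complexes with finite cohomology. -/
theorem finite_homC (K : Dual.D A) (a : ℤ) (hK : ∀ l : ℤ, Module.Finite A (Dual.HD A K l))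
    (h1 : ∀ l : ℤ, l < a → Subsingleton (Dual.HD A K l)) (j : ℤ) : Module.Finite A (K ⟶ ω⟦j⟧) := by
  have hiso : ∀ {X Y : Dual.D A}, (X ≅ Y) → FinHom ω X → FinHom ω Y := fun e h j => by
    haveI := h j
    exact Module.Finite.equiv (Linear.homCongr A e (Iso.refl (ω⟦j⟧)))
  have hb : ∀ (d : ℕ) (a : ℤ) (X : Dual.D A), (∀ l : ℤ, Module.Finite A (Dual.HD A X l)) →
      (∀ l : ℤ, l < a → Subsingleton (Dual.HD A X l)) → (∀ l : ℤ, a + d ≤ l → Subsingleton (Dual.HD A X l)) →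
      FinHom ω X := by
    refine bounded_induction (FinHom ω) hiso (fun X hX j => ?_) (fun N _ m j => ?_) (fun T hT h1 h3 j => ?_)
    · haveI : Subsingleton (X ⟶ ω⟦j⟧) := ⟨fun f g => hX.eq_of_src f g⟩
      infer_instance
    · have e : (sgl.obj N)⟦-m⟧ ≅ (DerivedCategory.singleFunctor (ModuleCat.{u} A) m).obj N :=
        (((DerivedCategory.singleFunctors (ModuleCat.{u} A)).shiftIso (-m) m 0 (by omega)).app N)
      haveI := finite_hom' hω M N (j + m)
      exact Module.Finite.equiv ((homUntwist' (ω := ω) (sgl.obj N) (-m) (j + m) j (by omega)) ≪≫ₗ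
        Linear.homCongr A e (Iso.refl (ω⟦j⟧)))
    · haveI := h1 j
      haveI := h3 j
      let f : (T.obj₂ ⟶ ω⟦j⟧) →ₗ[A] (T.obj₁ ⟶ ω⟦j⟧) := Linear.leftComp A _ T.mor₁
      let g : (T.obj₃ ⟶ ω⟦j⟧) →ₗ[A] (T.obj₂ ⟶ ω⟦j⟧) := Linear.leftComp A _ T.mor₂
      haveI hker : Module.Finite A (LinearMap.ker f) := by
        have hle : LinearMap.ker f = LinearMap.range g := le_antisymm (fun ψ hψ => by
          obtain ⟨χ, hχ⟩ := Triangle.yoneda_exact₂ T hT ψ hψ
          exact ⟨χ, hχ.symm⟩) (by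
          rintro _ ⟨χ, rfl⟩
          show T.mor₁ ≫ T.mor₂ ≫ χ = 0
          rw [← Category.assoc, comp_distTriang_mor_zero₁₂ _ hT, zero_comp])
        rw [hle]; infer_instance
      haveI : Module.Finite A ((T.obj₂ ⟶ ω⟦j⟧) ⧸ LinearMap.ker f) := Module.Finite.equiv f.quotKerEquivRange.symm
      exact Module.Finite.of_submodule_quotient (LinearMap.ker f)
  obtain ⟨T, hT, ⟨eK⟩, hXle, hYge, hlow, hhigh⟩ := trunc_triangle K (max a (M.hi - j))
  set n := max a (M.hi - j)
  have hX0 := (DMod.isLE_iff T.obj₁ n).1 hXle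
  have hX : Module.Finite A (T.obj₁ ⟶ ω⟦j⟧) := hb (n - a + 1).toNat a T.obj₁ (fun l => by
    rcases le_or_gt l n with hl | hl
    · obtain ⟨e⟩ := hlow l hl
      haveI := hK l
      exact Module.Finite.equiv e.symm
    · haveI := hX0 l hl; infer_instance) (fun l hl => by
    obtain ⟨e⟩ := hlow l (by omega)
    haveI := h1 l hl
    exact e.toEquiv.subsingleton) (fun l hl => hX0 l (by omega)) j
  haveI := hX
  exact Module.Finite.equiv (((Linear.homCongr A eK.symm (Iso.refl (ω⟦j⟧))) ≪≫ₗ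
    LinearEquiv.ofBijective (Linear.leftComp A _ T.mor₁) (pre_bijective M T hT hYge (by omega))).symm)

section Loc

variable (S : Submonoid A)

/-- The localization functor on derived categories. -/
abbrev locD : Dual.D A ⥤ Dual.D (Localization S) := (locF S).mapDerivedCategory

theorem isGE_locD {C : Dual.D A} {m : ℤ} (hC : C.IsGE m) : ((locD S).obj C).IsGE m := by
  haveI := hC
  obtain ⟨L, hL, ⟨e⟩⟩ := DerivedCategory.exists_iso_Q_obj_of_isGE C m
  haveI : (((locF S).mapHomologicalComplex (ComplexShape.up ℤ) ⋙ DerivedCategory.Q).obj L).IsGE m :=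
    (DerivedCategory.isGE_Q_obj_iff (locCx S L) m).2 inferInstance
  exact DerivedCategory.TStructure.t.isGE_of_iso
    (((locD S).mapIso e ≪≫ (locF S).mapDerivedCategoryFactors.app L).symm) m

variable {P : DRing.Cx A} (hP : ∀ i, Module.Finite A (P.X i) ∧ Module.Free A (P.X i))

include hP in
theorem kills_free_loc_iff (j : ℤ) (a : A) :
    (∀ ψ : DerivedCategory.Q.obj (locCx S P) ⟶ (DerivedCategory.Q.obj (locCx S M.W))⟦j⟧,
        algebraMap A (Localization S) a • ψ = 0) ↔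
      ∀ φ : DerivedCategory.Q.obj P ⟶ ω⟦j⟧, ∃ s : S, ((s : A) * a) • φ = 0 := by
  haveI : (locCx S M.W).IsKInjective := (locModel M S).kinj
  constructor
  · intro h φ
    obtain ⟨c, hc⟩ := hcl_surjective (φ ≫ (shiftFunctor (Dual.D A) j).map M.e.inv)
    let z : Cocycle (locCx S P) (locCx S M.W) j := Cocycle.mk (c.1.map (locF S)) (j + 1) rfl (by
      rw [δ_map, Cocycle.δ_eq_zero c (j + 1), Cochain.map_zero])
    have h1 := h (hcl z)
    rw [← hcl_smul, hcl_eq_zero_iff] at h1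
    obtain ⟨w', hw'⟩ := h1
    obtain ⟨s, w, hw⟩ := exists_lift_cochain S M.lo M.hi hP w'
    obtain ⟨t, ht⟩ := exists_kill_cochain S M.lo M.hi hP (δ (j - 1) j w - ((s : A) * a) • c.1) (by
      rw [Cochain.map_sub, ← δ_map, ← hw, δ_smul, hw', map_smul_cochain, Cocycle.coe_smul, map_mul, mul_smul]
      exact sub_self _)
    refine ⟨t * s, ?_⟩
    rw [smul_sub, sub_eq_zero, ← δ_smul, smul_smul, ← mul_assoc, ← Submonoid.coe_mul] at ht
    have h0 : hcl (((↑(t * s) : A) * a) • c) = 0 := (hcl_eq_zero_iff _).2 ⟨(t : A) • w, by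
      rw [Cocycle.coe_smul]; exact ht⟩
    rw [hcl_smul, hc, ← Linear.smul_comp] at h0
    rw [← cancel_mono ((shiftFunctor (Dual.D A) j).mapIso M.e).inv, zero_comp]
    exact h0
  · intro h ψ
    obtain ⟨z, rfl⟩ := hcl_surjective ψ
    obtain ⟨s, c, hc0, hc⟩ := exists_lift_cocycle S (P := P) (W := M.W) M.lo M.hi hP z.1 (Cocycle.δ_eq_zero z (j + 1))
    obtain ⟨t, ht⟩ := h (hcl (Cocycle.mk c (j + 1) rfl hc0) ≫ (shiftFunctor (Dual.D A) j).map M.e.hom)
    rw [← Linear.smul_comp, ← hcl_smul] at ht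
    have h1 : hcl (((t : A) * a) • Cocycle.mk c (j + 1) rfl hc0) = 0 := by
      rw [← cancel_mono ((shiftFunctor (Dual.D A) j).mapIso M.e).hom, zero_comp]
      exact ht
    obtain ⟨w, hw⟩ := (hcl_eq_zero_iff _).1 h1
    obtain ⟨u, hu⟩ := IsLocalization.map_units (Localization S) (t * s)
    rw [← hcl_smul, hcl_eq_zero_iff]
    refine ⟨(↑u⁻¹ : Localization S) • w.map (locF S), ?_⟩
    rw [δ_smul, δ_map, hw, Cocycle.coe_smul, map_smul_cochain, Cocycle.coe_smul, Cocycle.mk_coe, ← hc, smul_smul,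
      smul_smul]
    refine congrArg (fun r : Localization S => r • z.1) ?_
    rw [Submonoid.coe_mul, map_mul] at hu
    rw [map_mul, show (↑u⁻¹ : Localization S) * (algebraMap A (Localization S) t * algebraMap A (Localization S) a) *
      algebraMap A (Localization S) s = algebraMap A (Localization S) a *
        ((↑u⁻¹ : Localization S) * (algebraMap A (Localization S) t * algebraMap A (Localization S) s)) by ring,
      ← hu, Units.inv_mul, mul_one]

include hω in
theorem kills_homC_loc_iff (K : Dual.D A) (a₀ : ℤ) (hK : ∀ l : ℤ, Module.Finite A (Dual.HD A K l))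
    (j : ℤ) (a : A) :
    (∀ ψ : (locD S).obj K ⟶ (DerivedCategory.Q.obj (locCx S M.W))⟦j⟧, algebraMap A (Localization S) a • ψ = 0) ↔
      ∀ φ : K ⟶ ω⟦j⟧, ∃ s : S, ((s : A) * a) • φ = 0 := by
  obtain ⟨T, hT, ⟨eK⟩, hXle, hYge, hlow, hhigh⟩ := trunc_triangle K (max a₀ (M.hi - j))
  set n := max a₀ (M.hi - j)
  have hX0 := (DMod.isLE_iff T.obj₁ n).1 hXle
  haveI := hXle
  obtain ⟨P, hPle, hP, ⟨eP⟩⟩ := exists_res_finiteFree T.obj₁ n (fun l => by
    rcases le_or_gt l n with hl | hl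
    · obtain ⟨e⟩ := hlow l hl
      haveI := hK l
      exact Module.Finite.equiv e.symm
    · haveI := hX0 l hl; infer_instance)
  have hb := pre_bijective M T hT hYge (j := j) (by omega)
  have hb' := pre_bijective (locModel M S) ((locD S).mapTriangle.obj T) ((locD S).map_distinguished T hT)
    (isGE_locD S hYge) (j := j) (show M.hi < _ by omega)
  let e1 : (K ⟶ ω⟦j⟧) ≃ₗ[A] (DerivedCategory.Q.obj P ⟶ ω⟦j⟧) :=
    Linear.homCongr A eK.symm (Iso.refl _) ≪≫ₗ LinearEquiv.ofBijective (Linear.leftComp A _ T.mor₁) hb ≪≫ₗ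
      Linear.homCongr A eP.symm (Iso.refl _)
  let e2 : ((locD S).obj K ⟶ (DerivedCategory.Q.obj (locCx S M.W))⟦j⟧) ≃ₗ[Localization S]
      (DerivedCategory.Q.obj (locCx S P) ⟶ (DerivedCategory.Q.obj (locCx S M.W))⟦j⟧) :=
    Linear.homCongr _ ((locD S).mapIso eK.symm) (Iso.refl _) ≪≫ₗ
      LinearEquiv.ofBijective (Linear.leftComp (Localization S) _ ((locD S).mapTriangle.obj T).mor₁) hb' ≪≫ₗ
      Linear.homCongr _ (((locD S).mapIso eP.symm) ≪≫ (locF S).mapDerivedCategoryFactors.app P) (Iso.refl _)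
  refine Iff.trans ?_ ((kills_free_loc_iff M S hP j a).trans ?_)
  · exact ⟨fun h ψ => by
      obtain ⟨ψ', rfl⟩ := e2.surjective ψ
      rw [← map_smul, h, map_zero],
      fun h ψ => e2.injective (by rw [map_smul, h, map_zero])⟩
  · refine ⟨fun h φ => ?_, fun h φ => ?_⟩
    · obtain ⟨s, hs⟩ := h (e1 φ)
      exact ⟨s, e1.injective (by rw [map_smul, hs, map_zero])⟩
    · obtain ⟨φ', rfl⟩ := e1.surjective φ
      obtain ⟨s, hs⟩ := h φ'
      exact ⟨s, by rw [← map_smul, hs, map_zero]⟩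

end Loc

end Groth.Agent.Dlz27
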