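import Groth.Agent.Lib.Dlz27.SkCrit
import Groth.Agent.Lib.Dlz27.HKappa
import Groth.Agent.Lib.HTFin27.Main
import Groth.Agent.Lib.IdealTransform.CokerH1
import Groth.Agent.Lib.IdealTransform.TorsIso
import Groth.Agent.Lib.LocCoh.Vanishing
import Groth.Agent.Lib.Depth3.Zero
import Groth.Agent.S1727

/-!
# Raising the depth to two along a family of supports
-/

set_option autoImplicit false
universe u

open CategoryTheory IsLocalRing

attribute [local instance] HasDerivedCategory.standard

noncomputable section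

namespace Groth.Agent.Dlz27

open HTFin27

variable {A : Type u} [CommRing A] [IsNoetherianRing A]

theorem finite_H_iff_finite_HT (I : Ideal A) (i : ℕ) (M : Type u) [AddCommGroup M] [Module A M] :
    Module.Finite A (LocCoh.H I i M) ↔ Module.Finite A (Dual2.HT (VI I) i M) := by
  have hge : (Dual.inD A M).IsGE 0 := inferInstanceAs
    (((DerivedCategory.singleFunctor (ModuleCat.{u} A) 0).obj (ModuleCat.of A M)).IsGE 0)
  obtain ⟨W, -, -, hW, ⟨e⟩⟩ := exists_res_bounded (Dual.inD A M) 0 ((DMod.isGE_iff _ 0).1 hge)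
  haveI := hW
  exact (finite_iff (VI I) W e (i : ℤ) (isColimK_κI I i (ModuleCat.of A M))).trans
    (finite_iff (VI I) W e (i : ℤ) (isColimK_κT (VI I) i (ModuleCat.of A M))).symm

theorem mem_associatedPrimes_iff_depth (p : PrimeSpectrum A) (N : Type u) [AddCommGroup N] [Module A N]
    [Module.Finite A N] :
    p.asIdeal ∈ associatedPrimes A N ↔
      LocCoh.depth (Localization.AtPrime p.asIdeal) (LocalizedModule p.asIdeal.primeCompl N) = 0 := by
  haveI : Module.Finite (Localization.AtPrime p.asIdeal) (LocalizedModule p.asIdeal.primeCompl N) :=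
    Module.Finite.of_isLocalizedModule p.asIdeal.primeCompl (LocalizedModule.mkLinearMap p.asIdeal.primeCompl N)
  rw [Depth3.depth_eq_zero_iff]
  refine ⟨Module.associatedPrimes.mem_associatedPrimes_atPrime_of_mem_associatedPrimes, fun h => ?_⟩
  have h2 := Module.associatedPrimes.comap_mem_associatedPrimes_of_mem_associatedPrimes_of_isLocalizedModule_of_fg
    p.asIdeal.primeCompl (LocalizedModule.mkLinearMap p.asIdeal.primeCompl N) _ h (IsNoetherian.noetherian _)
  exact (Localization.AtPrime.under_maximalIdeal (I := p.asIdeal)) ▸ h2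

variable {ω : Dual.D A} (hω : Dual.IsDualizing A ω) (M : Model ω)

include hω M in
theorem finite_depth_one (N : Type u) [AddCommGroup N] [Module A N] [Module.Finite A N] :
    {q : PrimeSpectrum A | LocCoh.depth (Localization.AtPrime q.asIdeal) (LocalizedModule q.asIdeal.primeCompl N) = 1 ∧
      ∀ p : PrimeSpectrum A, p.asIdeal ∈ associatedPrimes A N → ¬ p ⋖ q}.Finite := by
  classical
  have hJ : ∀ i : ℤ, ∃ J : Ideal A, ∀ r : PrimeSpectrum A, J ≤ r.asIdeal ↔ ¬ VanS M.W r.asIdeal.primeCompl N i := fun i => by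
    obtain ⟨J, hJ⟩ := (PrimeSpectrum.isClosed_iff_zeroLocus_ideal _).1 (isOpen_vanS hω M N i).isClosed_compl
    refine ⟨J, fun r => ?_⟩
    rw [← SetLike.coe_subset_coe, ← PrimeSpectrum.mem_zeroLocus, ← hJ]
    rfl
  choose J hJ using hJ
  refine Set.Finite.subset (((Finset.Icc M.lo M.hi).finite_toSet.biUnion fun i _ =>
    Ideal.finite_minimalPrimes_of_isNoetherianRing A (J i)).preimage
      (f := PrimeSpectrum.asIdeal) fun a _ b _ h => PrimeSpectrum.ext h) fun q ⟨hdep, hcov⟩ => ?_
  haveI : Nontrivial (LocalizedModule q.asIdeal.primeCompl N) := not_subsingleton_iff_nontrivial.1 fun h => by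
    rw [depth_eq_top_of_subsingleton q N] at hdep
    exact ENat.top_ne_one hdep
  obtain ⟨d, e, -, he, -, -, h2, -⟩ := exists_profile hω M q N
  obtain rfl : e = 1 := by rw [hdep] at he; exact_mod_cast he.symm
  have hmem : deg hω M q - 1 ∈ Finset.Icc M.lo M.hi := by
    rw [Finset.mem_Icc]
    constructor <;> by_contra hcon
    exacts [h2 (vanS_outside M _ N _ (Or.inl (not_le.1 hcon))), h2 (vanS_outside M _ N _ (Or.inr (not_le.1 hcon)))]
  refine Set.mem_iUnion₂.2 ⟨_, hmem, ⟨q.isPrime, (hJ _ q).2 h2⟩, fun Q hQ hQq => ?_⟩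
  obtain ⟨r, rfl⟩ : ∃ r : PrimeSpectrum A, r.asIdeal = Q := ⟨⟨Q, hQ.1⟩, rfl⟩
  rcases (show r ≤ q from hQq).eq_or_lt with h | h
  · exact le_of_eq (congrArg PrimeSpectrum.asIdeal h).symm
  exfalso
  have hr := (hJ _ r).1 hQ.2
  haveI : Nontrivial (LocalizedModule r.asIdeal.primeCompl N) := not_subsingleton_iff_nontrivial.1 fun h' =>
    hr (vanS_of_subsingleton_localized r N _)
  obtain ⟨d', e', -, he', -, -, -, hrange⟩ := exists_profile hω M r N
  have h3 := (hrange _ hr).2
  have h4 := deg_strictMono hω M h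
  obtain rfl : e' = 0 := by omega
  refine hcov r ((mem_associatedPrimes_iff_depth r N).2 he') ⟨h, fun z hz1 hz2 => ?_⟩
  have := deg_strictMono hω M hz1
  have := deg_strictMono hω M hz2
  omega

theorem bijective_localized_map {X Y : Type u} [AddCommGroup X] [Module A X] [AddCommGroup Y] [Module A Y]
    (f : X →ₗ[A] Y) (I : Ideal A) (p : PrimeSpectrum A) (hp : ¬ I ≤ p.asIdeal)
    (hker : ∀ x : X, f x = 0 → ∃ k : ℕ, ∀ a ∈ I ^ k, a • x = 0)
    (hcoker : ∀ y : Y, ∃ k : ℕ, ∀ a ∈ I ^ k, a • y ∈ LinearMap.range f) :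
    Function.Bijective (LocalizedModule.map p.asIdeal.primeCompl f) := by
  obtain ⟨a, ha, hap⟩ := SetLike.not_le_iff_exists.1 hp
  refine ⟨fun z w h => ?_, fun z => ?_⟩
  · induction z using LocalizedModule.induction_on with
    | h x s =>
      induction w using LocalizedModule.induction_on with
      | h x' s' =>
        rw [LocalizedModule.map_mk, LocalizedModule.map_mk, LocalizedModule.mk_eq] at h
        obtain ⟨t, ht⟩ := h
        obtain ⟨k, hk⟩ := hker (t • s' • x - t • s • x') (by
          simp only [map_sub, Submonoid.smul_def, map_smul] at ht ⊢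
          rw [ht, sub_self])
        rw [LocalizedModule.mk_eq]
        refine ⟨⟨a ^ k, fun hmem => hap (p.isPrime.mem_of_pow_mem k hmem)⟩ * t, ?_⟩
        have := hk _ (Ideal.pow_mem_pow ha k)
        rw [smul_sub, sub_eq_zero] at this
        simpa [Submonoid.smul_def, mul_smul] using this
  · induction z using LocalizedModule.induction_on with
    | h y s =>
      obtain ⟨k, hk⟩ := hcoker y
      obtain ⟨x, hx⟩ := hk _ (Ideal.pow_mem_pow ha k)
      refine ⟨LocalizedModule.mk x (⟨a ^ k, fun hmem => hap (p.isPrime.mem_of_pow_mem k hmem)⟩ * s), ?_⟩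
      rw [LocalizedModule.map_mk, hx, LocalizedModule.mk_eq]
      exact ⟨1, by simp [Submonoid.smul_def, mul_smul, smul_comm (a ^ k)]⟩

theorem depth_eq_of_bijective {X Y : Type u} [AddCommGroup X] [Module A X] [AddCommGroup Y] [Module A Y]
    (f : X →ₗ[A] Y) (p : PrimeSpectrum A) (h : Function.Bijective (LocalizedModule.map p.asIdeal.primeCompl f)) :
    LocCoh.depth (Localization.AtPrime p.asIdeal) (LocalizedModule p.asIdeal.primeCompl X) =
      LocCoh.depth (Localization.AtPrime p.asIdeal) (LocalizedModule p.asIdeal.primeCompl Y) :=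
  DepthLib.idealDepth_congr (LinearEquiv.ofBijective _ h)

include hω in
theorem exists_map_depth_ge_two (T : Set (PrimeSpectrum A)) (hT : StableUnderSpecialization T)
    (N : Type u) [AddCommGroup N] [Module A N] [Module.Finite A N]
    (hN : ∀ p q : PrimeSpectrum A, p ⋖ q → q ∈ T → p ∉ T →
      1 ≤ LocCoh.depth (Localization.AtPrime p.asIdeal) (LocalizedModule p.asIdeal.primeCompl N)) :
    ∃ (N'' : Type u) (_ : AddCommGroup N'') (_ : Module A N'') (_ : Module.Finite A N'') (f : N →ₗ[A] N''),
      (∀ p : PrimeSpectrum A, p ∉ T → Function.Bijective (LocalizedModule.map p.asIdeal.primeCompl f)) ∧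
      ∀ p : PrimeSpectrum A, p ∈ T →
        2 ≤ LocCoh.depth (Localization.AtPrime p.asIdeal) (LocalizedModule p.asIdeal.primeCompl N'') := by
  classical
  let M := model hω
  have hgen : ∀ {F : Finset (PrimeSpectrum A)}, (∀ x ∈ F, x ∈ T) → ∀ p : PrimeSpectrum A,
      F.inf PrimeSpectrum.asIdeal ≤ p.asIdeal → p ∈ T := fun {F} hF p hp => by
    obtain ⟨x, hx, hxp⟩ := (Ideal.IsPrime.inf_le' p.isPrime).1 hp
    exact hT ((PrimeSpectrum.le_iff_specializes x p).1 hxp) (hF x hx)
  let F₀ : Finset (PrimeSpectrum A) := (((associatedPrimes.finite A N).preimage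
    (f := PrimeSpectrum.asIdeal) fun a _ b _ h => PrimeSpectrum.ext h).inter_of_left T).toFinset
  have hF₀ : ∀ x, x ∈ F₀ ↔ x.asIdeal ∈ associatedPrimes A N ∧ x ∈ T := fun x => by simp [F₀]
  let J₀ := F₀.inf PrimeSpectrum.asIdeal
  have hJ₀T : ∀ p : PrimeSpectrum A, p ∉ T → ¬ J₀ ≤ p.asIdeal := fun p hp h => hp (hgen (fun x hx => ((hF₀ x).1 hx).2) p h)
  let N' := N ⧸ DRing.torsionSub J₀ N
  let π : N →ₗ[A] N' := (DRing.torsionSub J₀ N).mkQ
  have hπ : ∀ p : PrimeSpectrum A, ¬ J₀ ≤ p.asIdeal →
      Function.Bijective (LocalizedModule.map p.asIdeal.primeCompl π) := fun p hp =>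
    bijective_localized_map π J₀ p hp (fun x hx => (Submodule.Quotient.mk_eq_zero _).1 hx)
      fun y => ⟨0, fun a _ => (Submodule.mkQ_surjective _ (a • y))⟩
  have hass : ∀ p : PrimeSpectrum A, p.asIdeal ∈ associatedPrimes A N' →
      p ∉ T ∧ p.asIdeal ∈ associatedPrimes A N := by
    intro p hp
    by_cases hJp : J₀ ≤ p.asIdeal
    · exfalso
      obtain ⟨-, m, hm⟩ := isAssociatedPrime_iff.1 hp
      obtain ⟨m, rfl⟩ := Submodule.mkQ_surjective _ m
      obtain ⟨k, hk⟩ : ∃ k : ℕ, ∀ r ∈ J₀, r • m ∈ DRing.torsionSub J₀ N ∧ k = 0 := ⟨0, fun r hr => ⟨by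
        have : r ∈ Submodule.colon (⊥ : Submodule A N') {(DRing.torsionSub J₀ N).mkQ m} := hm.le (hJp hr)
        rw [Submodule.mem_colon_singleton, Submodule.mem_bot, ← map_smul] at this
        exact (Submodule.Quotient.mk_eq_zero _).1 this, rfl⟩⟩
      obtain ⟨G, hG⟩ := IsNoetherian.noetherian J₀
      choose l hl using fun g : G => (hk g.1 (hG ▸ Submodule.subset_span g.2)).1
      have hmt : m ∈ DRing.torsionSub J₀ N := by
        refine ⟨Finset.univ.sup l + 1, ?_⟩
        intro b hb
        rw [pow_succ] at hb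
        induction hb using Submodule.mul_induction_on' with
        | mem_mul_mem x hx y hy =>
          rw [← hG] at hy
          rw [mul_smul]
          refine LinearMap.mem_ker.1 ((Submodule.span_le.2 fun g hg => ?_ :
            _ ≤ LinearMap.ker ((LinearMap.lsmul A N x).comp (LinearMap.toSpanSingleton A N m))) hy)
          exact LinearMap.mem_ker.2 (hl ⟨g, hg⟩ x
            (Ideal.pow_le_pow_right (Finset.le_sup (Finset.mem_univ (⟨g, hg⟩ : G))) hx))
        | add x _ y _ hx hy => rw [add_smul, hx, hy, add_zero]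
      refine hp.1.ne_top (hm.trans ?_)
      rw [Submodule.mkQ_apply, (Submodule.Quotient.mk_eq_zero _).2 hmt]
      simp
    · have h0 := (mem_associatedPrimes_iff_depth p N').1 hp
      rw [← depth_eq_of_bijective π p (hπ p hJp), ← mem_associatedPrimes_iff_depth] at h0
      exact ⟨fun hpT => hJp (Finset.inf_le ((hF₀ p).2 ⟨h0, hpT⟩)), h0⟩
  have hcov : ∀ p q : PrimeSpectrum A, p.asIdeal ∈ associatedPrimes A N' → q ∈ T → ¬ p ⋖ q := fun p q hp hq hpq => by
    have := hN p q hpq hq (hass p hp).1
    rw [(mem_associatedPrimes_iff_depth p N).1 (hass p hp).2] at this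
    exact absurd this (by simp)
  let F : Finset (PrimeSpectrum A) := ((finite_depth_one hω M N').inter_of_left T).toFinset
  let J := F.inf PrimeSpectrum.asIdeal
  have hF : ∀ x ∈ F, x ∈ T := fun x hx => by
    simp only [F, Set.Finite.mem_toFinset] at hx
    exact hx.2
  have hfin : Module.Finite A (LocCoh.H J 1 N') := by
    refine (finite_H_iff_finite_HT J 1 N').2 ((S1727.result A ⟨ω, hω⟩ (VI J) ?_ 1 N').2 ?_ 1 le_rfl)
    · exact (PrimeSpectrum.isClosed_zeroLocus _).stableUnderSpecialization
    intro p q hp hq hpq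
    rw [krullDim_Icc hω M p q hpq]
    have hlt : p < q := lt_of_le_of_ne hpq fun h => hp (h ▸ hq)
    have hd := deg_strictMono hω M hlt
    cases hn : LocCoh.depth (Localization.AtPrime p.asIdeal) (LocalizedModule p.asIdeal.primeCompl N') with
    | top => rw [← WithBot.coe_add, top_add]; exact WithBot.coe_lt_coe.2 (ENat.natCast_lt_top 1)
    | coe n =>
      suffices 1 < n + (deg hω M q - deg hω M p).toNat by exact_mod_cast this
      rcases Nat.eq_zero_or_pos n with rfl | hn'
      · by_contra hle
        refine hcov p q ((mem_associatedPrimes_iff_depth p N').2 hn) (hgen hF q hq) ⟨hlt, fun z hz1 hz2 => ?_⟩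
        have := deg_strictMono hω M hz1
        have := deg_strictMono hω M hz2
        omega
      · omega
  let D := LocCoh.DT J N'
  let g : N' →ₗ[A] D := LocCoh.toDT J N'
  haveI : Module.Finite A D := by
    obtain ⟨ε⟩ := DTLib.nonempty_coker_equiv (I := J) N'
    haveI : Module.Finite A (D ⧸ LinearMap.range g) := Module.Finite.equiv ε.symm
    exact Module.Finite.of_submodule_quotient (LinearMap.range g)
  have hg : ∀ p : PrimeSpectrum A, ¬ J ≤ p.asIdeal →
      Function.Bijective (LocalizedModule.map p.asIdeal.primeCompl g) := fun p hp =>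
    bijective_localized_map g J p hp (fun x hx => (DTLib.ker_toDT J N').le hx) fun y => by
      obtain ⟨k, hk⟩ := DTLib.isPowerTorsion_coker_toDT J N' (Submodule.Quotient.mk y)
      exact ⟨k, fun a ha => (Submodule.Quotient.mk_eq_zero _).1 ((Submodule.Quotient.mk_smul _ a y).trans (hk a ha))⟩
  refine ⟨D, inferInstance, inferInstance, inferInstance, g ∘ₗ π, fun p hp => ?_, fun q hq => ?_⟩
  · have he : ∀ z, LocalizedModule.map p.asIdeal.primeCompl (g ∘ₗ π) z =
        LocalizedModule.map p.asIdeal.primeCompl g (LocalizedModule.map p.asIdeal.primeCompl π z) := fun z => by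
      induction z using LocalizedModule.induction_on with
      | h x s => simp only [LocalizedModule.map_mk, LinearMap.comp_apply]
    rw [show (LocalizedModule.map p.asIdeal.primeCompl (g ∘ₗ π) : _ → _) = _ from funext he]
    exact (hg p fun h => hp (hgen hF p h)).comp (hπ p (hJ₀T p hp))
  · by_cases hJq : J ≤ q.asIdeal
    · have h1 : (2 : ℕ∞) ≤ LocCoh.idealDepth J D := by
        rw [show (2 : ℕ∞) = ((2 : ℕ) : ℕ∞) from rfl, DepthLib.natCast_le_idealDepth_iff]
        refine (LocCohLib.vanishing_below_iff_of_support_eq (I := J) (G := ModuleCat.of A D) (A ⧸ J)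
          (DepthLib.support_quotient _) 2).1 fun i hi => ?_
        interval_cases i
        · exact (LocCohLib.subsingleton_zero_iff J (A := D)).2 ((DTLib.torsionSub_eq_powTors (I := J) D).symm.trans DTLib.torsionSub_DT)
        · exact DTLib.subsingleton_H_one_DT
      exact (DepthLib.natCast_le_idealDepth_iff_forall_localized (I := J) (M := D) 2).1 h1 q hJq
    · rw [← depth_eq_of_bijective g q (hg q hJq)]
      by_contra hlt
      cases hn : LocCoh.depth (Localization.AtPrime q.asIdeal) (LocalizedModule q.asIdeal.primeCompl N') with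
      | top => exact hlt (hn ▸ le_top)
      | coe n =>
        rw [hn] at hlt
        have : n < 2 := by by_contra h; exact hlt (by exact_mod_cast not_lt.1 h)
        interval_cases n
        · exact (hass q ((mem_associatedPrimes_iff_depth q N').2 (by simpa using hn))).1 hq
        · exact hJq (Finset.inf_le (show q ∈ F by
            simp only [F, Set.Finite.mem_toFinset]
            exact ⟨⟨by simpa using hn, fun p hp => hcov p q hp hq⟩, hq⟩))

end Groth.Agent.Dlz27
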