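import Groth.Agent.Lib.InjHull.Duality
import Mathlib.LinearAlgebra.Quotient.Basic
import Mathlib.RingTheory.AdicCompletion.Functoriality

/-!
# Double duals and completions
-/

set_option autoImplicit false
universe u w

open IsLocalRing

noncomputable section

namespace Groth.Agent.Dlz27

variable {A : Type u} [CommRing A]

theorem exists_small_model (S : Type w) [AddCommGroup S] [Module A S] [Module.Finite A S] :
    ∃ (n : ℕ) (K : Submodule A (Fin n → A)), Nonempty (((Fin n → A) ⧸ K) ≃ₗ[A] S) := by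
  obtain ⟨n, p, hp⟩ := Module.Finite.exists_fin' A S
  exact ⟨n, LinearMap.ker p, ⟨p.quotKerEquivOfSurjective hp⟩⟩

variable [IsLocalRing A] [IsNoetherianRing A] {E : Type u} [AddCommGroup E] [Module A E]
  {f : ResidueField A →ₗ[A] E} (hf : InjHull.IsInjectiveHull f)
  (S : Type u) [AddCommGroup S] [Module A S] [Module.Finite A S]

/-- The level quotient. -/
abbrev lev (n : ℕ) : Type u := S ⧸ (maximalIdeal A ^ n • ⊤ : Submodule A S)

theorem isFiniteLength_lev (n : ℕ) : IsFiniteLength A (lev (A := A) S n) := by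
  obtain ⟨r, p, hp⟩ := Module.Finite.exists_fin' A S
  let q : (Fin r → A ⧸ maximalIdeal A ^ n) →ₗ[A] lev (A := A) S n :=
    LinearMap.lsum A (fun _ : Fin r => A ⧸ maximalIdeal A ^ n) A fun j =>
      Submodule.liftQ (maximalIdeal A ^ n) (LinearMap.toSpanSingleton A _ (Submodule.Quotient.mk (p (Pi.single j 1))))
        fun a ha => by
          show a • Submodule.Quotient.mk (p (Pi.single j 1)) = (0 : lev (A := A) S n)
          rw [← Submodule.Quotient.mk_smul]
          exact (Submodule.Quotient.mk_eq_zero _).2 (Submodule.smul_mem_smul ha Submodule.mem_top)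
  have hq : Function.Surjective q := fun z => by
    obtain ⟨z, rfl⟩ := Submodule.Quotient.mk_surjective _ z
    obtain ⟨v, rfl⟩ := hp z
    refine ⟨fun j => Submodule.Quotient.mk (v j), ?_⟩
    conv_rhs => rw [← Finset.univ_sum_single v, map_sum, ← Submodule.mkQ_apply, map_sum]
    simp only [q]
    rw [LinearMap.lsum_apply, LinearMap.sum_apply]
    refine Finset.sum_congr rfl fun j _ => ?_
    rw [show Pi.single (M := fun _ : Fin r => A) j (v j) = v j • Pi.single j (1 : A) by
      rw [← Pi.single_smul, smul_eq_mul, mul_one], map_smul]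
    rfl
  have h1 : IsFiniteLength A (A ⧸ maximalIdeal A ^ n) := InjHullLib.isFiniteLength_quotient le_rfl
  obtain ⟨hN, hA⟩ := isFiniteLength_iff_isNoetherian_isArtinian.1 h1
  exact isFiniteLength_iff_isNoetherian_isArtinian.2
    ⟨inferInstance, isArtinian_of_surjective _ q hq⟩

include hf

/-- The double dual at a level. -/
def levEquiv (n : ℕ) : lev (A := A) S n ≃ₗ[A] ((lev (A := A) S n →ₗ[A] E) →ₗ[A] E) :=
  LinearEquiv.ofBijective _ (InjHullLib.applyₗ_bijective hf (isFiniteLength_lev S n))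

/-- The components of a double dual element. -/
def comp' : ((S →ₗ[A] E) →ₗ[A] E) →ₗ[A] ∀ n, lev (A := A) S n :=
  LinearMap.pi fun n => (levEquiv hf S n).symm.toLinearMap ∘ₗ
    LinearMap.lcomp A E (LinearMap.lcomp A E (maximalIdeal A ^ n • ⊤ : Submodule A S).mkQ)

theorem comp'_spec (ψ : (S →ₗ[A] E) →ₗ[A] E) (n : ℕ) (χ : lev (A := A) S n →ₗ[A] E) :
    χ (comp' hf S ψ n) = ψ (χ ∘ₗ Submodule.mkQ _) :=
  LinearMap.congr_fun ((levEquiv hf S n).apply_symm_apply
    (ψ ∘ₗ LinearMap.lcomp A E (maximalIdeal A ^ n • ⊤ : Submodule A S).mkQ)) χ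

theorem comp'_mem (ψ : (S →ₗ[A] E) →ₗ[A] E) : comp' hf S ψ ∈ AdicCompletion.submodule (maximalIdeal A) S := by
  intro m n hmn
  refine (InjHullLib.applyₗ_bijective hf (isFiniteLength_lev S m)).1 (LinearMap.ext fun χ => ?_)
  show χ (AdicCompletion.transitionMap (maximalIdeal A) S hmn (comp' hf S ψ n)) = χ (comp' hf S ψ m)
  rw [comp'_spec hf S ψ m χ]
  refine (comp'_spec hf S ψ n (χ ∘ₗ AdicCompletion.transitionMap (maximalIdeal A) S hmn)).trans ?_
  exact congrArg ψ (LinearMap.ext fun s => rfl)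

theorem exists_level (φ : S →ₗ[A] E) :
    ∃ (n : ℕ) (χ : lev (A := A) S n →ₗ[A] E), χ ∘ₗ Submodule.mkQ _ = φ := by
  obtain ⟨r, v, hv⟩ := Module.Finite.exists_fin (R := A) (M := S)
  choose k hk using fun l => InjHullLib.exists_pow_smul_eq_zero hf (φ (v l))
  refine ⟨∑ l, k l, Submodule.liftQ _ φ (Submodule.smul_le.2 fun a ha z htriv => ?_), LinearMap.ext fun z => rfl⟩
  clear htriv
  have hz : z ∈ Submodule.span A (Set.range v) := hv ▸ Submodule.mem_top
  rw [LinearMap.mem_ker, map_smul]
  induction hz using Submodule.span_induction with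
  | mem y hy =>
    obtain ⟨l, rfl⟩ := hy
    exact hk l a (Ideal.pow_le_pow_right (Finset.single_le_sum (fun _ _ => Nat.zero_le _) (Finset.mem_univ l)) ha)
  | zero => rw [map_zero, smul_zero]
  | add p q _ _ hp hq => rw [map_add, smul_add, hp, hq, add_zero]
  | smul c p _ hp => rw [map_smul, smul_comm, hp, smul_zero]

theorem completion_equiv :
    Nonempty (AdicCompletion (maximalIdeal A) S ≃ₗ[A] ((S →ₗ[A] E) →ₗ[A] E)) := by
  let F : ((S →ₗ[A] E) →ₗ[A] E) →ₗ[A] AdicCompletion (maximalIdeal A) S :=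
    LinearMap.codRestrict (AdicCompletion.submodule (maximalIdeal A) S) (comp' hf S) (comp'_mem hf S)
  have hinj : Function.Injective F := fun ψ ψ' h => LinearMap.ext fun φ => by
    obtain ⟨n, χ, rfl⟩ := exists_level hf S φ
    rw [← comp'_spec hf S ψ n χ, ← comp'_spec hf S ψ' n χ]
    exact congrArg χ (congrArg (fun z : AdicCompletion (maximalIdeal A) S => z.1 n) h)
  have hsurj : Function.Surjective F := fun x => by
    choose n χ hχ using exists_level hf S
    have key : ∀ (φ : S →ₗ[A] E) (m : ℕ) (χ' : lev (A := A) S m →ₗ[A] E),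
        χ' ∘ₗ Submodule.mkQ _ = φ → χ φ (x.1 (n φ)) = χ' (x.1 m) := by
      intro φ m χ' h'
      rw [← x.2 (le_max_left (n φ) m), ← x.2 (le_max_right (n φ) m)]
      obtain ⟨y, hy⟩ := Submodule.Quotient.mk_surjective _ (x.1 (max (n φ) m))
      rw [← hy]
      exact (LinearMap.congr_fun (hχ φ) y).trans (LinearMap.congr_fun h' y).symm
    let ψ : (S →ₗ[A] E) →ₗ[A] E :=
      { toFun := fun φ => χ φ (x.1 (n φ))
        map_add' := fun φ φ' => by
          let m := max (n φ) (n φ')
          have h : ∀ (l : ℕ) (hl : l ≤ m) (c : lev (A := A) S l →ₗ[A] E),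
              (c ∘ₗ AdicCompletion.transitionMap (maximalIdeal A) S hl) ∘ₗ Submodule.mkQ _ = c ∘ₗ Submodule.mkQ _ :=
            fun l hl c => LinearMap.ext fun s => rfl
          let c1 := χ φ ∘ₗ AdicCompletion.transitionMap (maximalIdeal A) S (le_max_left (n φ) (n φ'))
          let c2 := χ φ' ∘ₗ AdicCompletion.transitionMap (maximalIdeal A) S (le_max_right (n φ) (n φ'))
          rw [key (φ + φ') m (c1 + c2) (by rw [LinearMap.add_comp, h, h, hχ, hχ]),
            key φ m c1 (by rw [h, hχ]), key φ' m c2 (by rw [h, hχ])]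
          rfl
        map_smul' := fun a φ => by
          rw [key (a • φ) (n φ) (a • χ φ) (by rw [LinearMap.smul_comp, hχ])]
          rfl }
    refine ⟨ψ, Subtype.ext (funext fun m => ?_)⟩
    refine (InjHullLib.applyₗ_bijective hf (isFiniteLength_lev S m)).1 (LinearMap.ext fun c => ?_)
    show c (comp' hf S ψ m) = c (x.1 m)
    rw [comp'_spec]
    exact key _ m c rfl
  exact ⟨(LinearEquiv.ofBijective F ⟨hinj, hsurj⟩).symm⟩

end Groth.Agent.Dlz27
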