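import Groth.Agent.Lib.Dlz27.Converse2
import Groth.Agent.Lib.Dlz27.GlueApps
import Groth.Agent.Lib.Dlz27.DualityAll

/-!
# Finiteness of morphisms into complexes of finite injective dimension
-/

set_option autoImplicit false
universe u

open CategoryTheory CategoryTheory.Limits CategoryTheory.Pretriangulated CochainComplex.HomComplex

attribute [local instance] HasDerivedCategory.standard

noncomputable section

namespace Groth.Agent.Dlz27

variable {A : Type u} [CommRing A] [IsNoetherianRing A]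

theorem finite_homW₀ {R : Dual.D A} (M : Model R) (hH : ∀ i, Module.Finite A (M.W.homology i))
    (N : Type u) [AddCommGroup N] [Module A N] [Module.Finite A N] (j : ℤ) :
    Module.Finite A (Dual.inD A N ⟶ R⟦j⟧) := by
  classical
  obtain ⟨r, fl, hfl, hfs⟩ := finV M.inj M.lo hH N j
  let Z : Submodule A (N →ₗ[A] M.W.X j) := LinearMap.ker (LinearMap.compRight A (M := N) (M.W.d j (j + 1)).hom)
  let L : Z →ₗ[A] (Dual.inD A N ⟶ R⟦j⟧) :=
    { toFun := fun f => cl M f.1 (LinearMap.mem_ker.1 f.2)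
      map_add' := fun f g => cl_add M f.1 g.1 (LinearMap.mem_ker.1 f.2) (LinearMap.mem_ker.1 g.2)
      map_smul' := fun c f => cl_smul M c f.1 (LinearMap.mem_ker.1 f.2) }
  refine Module.Finite.of_surjective (L ∘ₗ Fintype.linearCombination A fun l => (⟨fl l, hfl l⟩ : Z)) fun φ => ?_
  obtain ⟨f, hf, rfl⟩ := cl_surjective M φ
  obtain ⟨c, g, hcg⟩ := hfs f hf
  refine ⟨c, ?_⟩
  refine (cl_eq_iff M _ f (LinearMap.mem_ker.1
    (Fintype.linearCombination A (fun l => (⟨fl l, hfl l⟩ : Z)) c).2) hf).2 ⟨-g, ?_⟩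
  simp [hcg, Fintype.linearCombination_apply, Submodule.coe_sum]

theorem finite_hom_bounded₀ {R : Dual.D A} (M : Model R) (hH : ∀ i, Module.Finite A (M.W.homology i))
    (X : Dual.D A) (d : ℕ) (a : ℤ) (hX : ∀ l, Module.Finite A (Dual.HD A X l))
    (h1 : ∀ l : ℤ, l < a → Subsingleton (Dual.HD A X l)) (h2 : ∀ l : ℤ, a + d ≤ l → Subsingleton (Dual.HD A X l)) :
    FinHom R X := by
  revert X
  intro X hX h1 h2
  refine bounded_induction (FinHom R) (fun e h j => ?_) (fun X hX j => ?_) (fun N _ m j => ?_) (fun T hT h1 h3 j => ?_)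
    d a X hX h1 h2
  · haveI := h j
    exact Module.Finite.equiv (Linear.homCongr A e (Iso.refl (R⟦j⟧)))
  · haveI : Subsingleton (X ⟶ R⟦j⟧) := ⟨fun f g => hX.eq_of_src f g⟩
    infer_instance
  · have e : (sgl.obj N)⟦-m⟧ ≅ (DerivedCategory.singleFunctor (ModuleCat.{u} A) m).obj N :=
      (((DerivedCategory.singleFunctors (ModuleCat.{u} A)).shiftIso (-m) m 0 (by omega)).app N)
    haveI := finite_homW₀ M hH N (j + m)
    exact Module.Finite.equiv ((homUntwist' (ω := R) (sgl.obj N) (-m) (j + m) j (by omega)) ≪≫ₗ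
      Linear.homCongr A e (Iso.refl (R⟦j⟧)))
  · haveI := h1 j
    haveI := h3 j
    let f : (T.obj₂ ⟶ R⟦j⟧) →ₗ[A] (T.obj₁ ⟶ R⟦j⟧) := Linear.leftComp A _ T.mor₁
    let g : (T.obj₃ ⟶ R⟦j⟧) →ₗ[A] (T.obj₂ ⟶ R⟦j⟧) := Linear.leftComp A _ T.mor₂
    haveI hker : Module.Finite A (LinearMap.ker f) := by
      have hle : LinearMap.ker f = LinearMap.range g := le_antisymm (fun ψ hψ => by
        obtain ⟨χ, hχ⟩ := Triangle.yoneda_exact₂ T hT ψ hψ
        exact ⟨χ, hχ.symm⟩) (by
        rintro _ ⟨χ, rfl⟩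
        show T.mor₁ ≫ T.mor₂ ≫ χ = 0
        rw [← Category.assoc, comp_distTriang_mor_zero₁₂ _ hT, zero_comp])
      rw [hle]; infer_instance
    haveI : Module.Finite A ((T.obj₂ ⟶ R⟦j⟧) ⧸ LinearMap.ker f) := Module.Finite.equiv f.quotKerEquivRange.symm
    exact Module.Finite.of_submodule_quotient (LinearMap.ker f)

/-- Morphisms from a complex with finite cohomology into a complex of finite injective dimension. -/
theorem finite_hom_all {R : Dual.D A} (M : Model R) (hH : ∀ i, Module.Finite A (M.W.homology i))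
    (K : Dual.D A) (hK : ∀ l : ℤ, Module.Finite A (Dual.HD A K l)) (j : ℤ) : Module.Finite A (K ⟶ R⟦j⟧) := by
  obtain ⟨T, hT, ⟨eK⟩, hXle, hYge, hlow, hhigh⟩ := trunc_triangle K (M.lo - j - 1)
  set n := M.lo - j - 1
  have hY0 := (DMod.isGE_iff T.obj₃ (n + 1)).1 hYge
  have hYfin : ∀ l, Module.Finite A (Dual.HD A T.obj₃ l) := fun l => by
    rcases le_or_gt l n with hl | hl
    · haveI := hY0 l (by omega); infer_instance
    · obtain ⟨e⟩ := hhigh l hl
      haveI := hK l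
      exact Module.Finite.equiv e
  obtain ⟨T', hT', ⟨eY⟩, hXle', hYge', hlow', hhigh'⟩ := trunc_triangle T.obj₃ (max (n + 1) (M.hi - j))
  set n' := max (n + 1) (M.hi - j)
  have hX0 := (DMod.isLE_iff T'.obj₁ n').1 hXle'
  have hX : Module.Finite A (T'.obj₁ ⟶ R⟦j⟧) := finite_hom_bounded₀ M hH T'.obj₁ (n' - n).toNat (n + 1) (fun l => by
    rcases le_or_gt l n' with hl | hl
    · obtain ⟨e⟩ := hlow' l hl
      haveI := hYfin l
      exact Module.Finite.equiv e.symm
    · haveI := hX0 l hl; infer_instance) (fun l hl => by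
    obtain ⟨e⟩ := hlow' l (by omega)
    haveI := hY0 l hl
    exact e.toEquiv.subsingleton) (fun l hl => hX0 l (by omega)) j
  haveI := hX
  haveI : Module.Finite A (T.obj₃ ⟶ R⟦j⟧) :=
    Module.Finite.equiv (((Linear.homCongr A eY.symm (Iso.refl (R⟦j⟧))) ≪≫ₗ
      LinearEquiv.ofBijective (Linear.leftComp A _ T'.mor₁) (pre_bijective M T' hT' hYge' (by omega))).symm)
  let g : (T.obj₃ ⟶ R⟦j⟧) →ₗ[A] (K ⟶ R⟦j⟧) :=
    (Linear.homCongr A eK (Iso.refl (R⟦j⟧))).toLinearMap ∘ₗ Linear.leftComp A _ T.mor₂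
  refine Module.Finite.of_surjective g fun ψ => ?_
  obtain ⟨χ, hχ⟩ := Triangle.yoneda_exact₂ T hT (eK.hom ≫ ψ) (hom_low_eq_zero' M hXle (by omega) _)
  refine ⟨χ, ?_⟩
  show Linear.homCongr A eK (Iso.refl (R⟦j⟧)) (T.mor₂ ≫ χ) = ψ
  rw [← hχ, Linear.homCongr_apply, Iso.refl_hom, Category.comp_id, eK.inv_hom_id_assoc]

end Groth.Agent.Dlz27
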