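import Groth.Agent.Lib.Dlz27.Glue
import Groth.Agent.Lib.Dlz27.Loc
import Groth.Agent.Lib.Dlz27.GlueApps
import Groth.Agent.Lib.Dlz27.CxLoc
import Groth.Agent.Lib.Dlz27.Converse2
import Groth.Agent.Lib.DBaseChange.TorDescent
import Groth.Agent.Lib.RGamma27.FlatBC
import Groth.Agent.Lib.DMod.Basic
import Mathlib.LinearAlgebra.TensorProduct.Pi

/-!
# Flat base change of dualizing complexes with trivial closed fibres
-/

set_option autoImplicit false
universe u

open CategoryTheory CategoryTheory.Limits CochainComplex.HomComplex TensorProduct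

attribute [local instance] HasDerivedCategory.standard

noncomputable section

namespace Groth.Agent.Dlz27

section KProjective

variable {A : Type u} [CommRing A] {P W : DRing.Cx A} [P.IsKProjective] {n : ℤ}

theorem hclP_surjective (φ : DerivedCategory.Q.obj P ⟶ (DerivedCategory.Q.obj W)⟦n⟧) :
    ∃ z : Cocycle P W n, hcl z = φ := by
  obtain ⟨g, hg⟩ := DMod.exists_map_eq (P := P) (L := W⟦n⟧) (φ ≫ (DerivedCategory.Q.commShiftIso n).inv.app W)
  refine ⟨Cocycle.equivHomShift g, ?_⟩
  rw [hcl, AddEquiv.symm_apply_apply, hg]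
  erw [Category.assoc, Iso.inv_hom_id_app]
  exact Category.comp_id _

theorem hclP_eq_zero_iff (z : Cocycle P W n) :
    hcl z = 0 ↔ ∃ w : Cochain P W (n - 1), δ (n - 1) n w = z := by
  rw [← mem_coboundaries_iff z (n - 1) (by omega), ← CohomologyClass.toHom_mk_eq_zero_iff, CohomologyClass.toHom_mk]
  constructor
  · intro h
    have h0 : DerivedCategory.Q.map (Cocycle.equivHomShift.symm z) = 0 := by
      rw [← cancel_mono ((DerivedCategory.Q.commShiftIso n).hom.app W), zero_comp]
      exact h
    obtain ⟨H⟩ := (DMod.map_eq_zero_iff _).1 h0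
    rw [HomotopyCategory.eq_of_homotopy _ _ H, Functor.map_zero]
  · intro h
    rw [show (0 : (HomotopyCategory.quotient _ _).obj P ⟶ (HomotopyCategory.quotient _ _).obj (W⟦n⟧)) =
      (HomotopyCategory.quotient _ _).map 0 from (Functor.map_zero _ _ _).symm] at h
    rw [hcl, (DMod.map_eq_zero_iff _).2 ⟨HomotopyCategory.homotopyOfEq _ _ h⟩, zero_comp]

end KProjective

variable {A B : Type u} [CommRing A] [CommRing B] (φ : A →+* B)

/-- The left tensor factor. -/
abbrev Bb : ModuleCat.{u} A := (ModuleCat.restrictScalars φ).obj (ModuleCat.of B B)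

/-- Extension of scalars. -/
abbrev eF : ModuleCat.{u} A ⥤ ModuleCat.{u} B := ModuleCat.extendScalars.{u, u, u} φ

/-- Pure tensors. -/
abbrev tm (b : B) {M : ModuleCat.{u} A} (x : M) : (eF φ).obj M := TensorProduct.tmul A (show Bb φ from b) x

theorem smul_tm (c b : B) {M : ModuleCat.{u} A} (x : M) : c • tm φ b x = tm φ (c * b) x := rfl

theorem tm_smul (a : A) (b : B) {M : ModuleCat.{u} A} (x : M) : tm φ b (a • x) = tm φ (φ a * b) x :=
  (TensorProduct.smul_tmul (R := A) a (show Bb φ from b) x).symm

theorem eF_map_tm {M N : ModuleCat.{u} A} (f : M ⟶ N) (b : B) (x : M) : (eF φ).map f (tm φ b x) = tm φ b (f x) := rfl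

theorem smul_eF_map {M N : ModuleCat.{u} A} (a : A) (f : M ⟶ N) : (eF φ).map (a • f) = φ a • (eF φ).map f := by
  refine ModuleCat.ExtendScalars.hom_ext fun x => ?_
  show tm φ 1 (a • f x) = φ a • tm φ 1 (f x)
  rw [tm_smul, smul_tm]

theorem map_smul_cochain' {P W : DRing.Cx A} {n : ℤ} (a : A) (c : Cochain P W n) :
    (a • c).map (eF φ) = φ a • c.map (eF φ) := by
  ext p q hpq : 1
  exact smul_eF_map φ a (c.v p q hpq)

section Component

variable {M N : ModuleCat.{u} A}

/-- `b ⊗ g ↦ b • g`. -/
def compMap (M N : ModuleCat.{u} A) : Bb φ ⊗[A] (M ⟶ N) →+ ((eF φ).obj M ⟶ (eF φ).obj N) :=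
  TensorProduct.liftAddHom
    { toFun := fun b =>
        { toFun := fun g => (show B from b) • (eF φ).map g
          map_zero' := by rw [Functor.map_zero, smul_zero]
          map_add' := fun g g' => by rw [Functor.map_add, smul_add] }
      map_zero' := AddMonoidHom.ext fun g => zero_smul B ((eF φ).map g)
      map_add' := fun b b' => AddMonoidHom.ext fun g => add_smul (show B from b) (show B from b') ((eF φ).map g) }
    fun a b g => by
      show (φ a * (show B from b)) • (eF φ).map g = (show B from b) • (eF φ).map (a • g)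
      rw [smul_eF_map, smul_smul, mul_comm]

theorem compMap_tmul (b : B) (g : M ⟶ N) : compMap φ M N ((show Bb φ from b) ⊗ₜ g) = b • (eF φ).map g := rfl

variable {ι : Type} [Fintype ι] (e : Module.Basis ι A M)

/-- `w ↦ coord_i • w`. -/
def coordHom (i : ι) : N →ₗ[A] (M ⟶ N) where
  toFun w := ModuleCat.ofHom ((e.coord i).smulRight w)
  map_add' v w := by ext x; exact smul_add _ v w
  map_smul' a w := by ext x; exact smul_comm _ a w

theorem compMap_bijective (hM : Module.Finite A M ∧ Module.Free A M) : Function.Bijective (compMap φ M N) := by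
  classical
  have := hM.1
  have := hM.2
  obtain ⟨r, ⟨e⟩⟩ : ∃ r, Nonempty (Module.Basis (Fin r) A M) :=
    ⟨_, ⟨(Module.Free.chooseBasis A M).reindex (Fintype.equivFin _)⟩⟩
  let Ψ : ((eF φ).obj M ⟶ (eF φ).obj N) → Bb φ ⊗[A] (M ⟶ N) := fun f =>
    ∑ i, (coordHom e i).lTensor (Bb φ) (f (tm φ 1 (e i)))
  have hz : ∀ z, Ψ (compMap φ M N z) = z := fun z => by
    induction z using TensorProduct.induction_on with
    | zero => rw [map_zero]; exact Finset.sum_eq_zero fun i _ => map_zero _
    | tmul b g =>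
      have h1 : ∀ i, (compMap φ M N (b ⊗ₜ g)) (tm φ 1 (e i)) = tm φ (show B from b) (g (e i)) := fun i => by
        show (show B from b) • tm φ 1 (g (e i)) = _
        rw [smul_tm, mul_one]
      simp only [Ψ, h1, tm, LinearMap.lTensor_tmul]
      rw [← TensorProduct.tmul_sum]
      congr 1
      refine ModuleCat.hom_ext (e.ext fun j => ?_)
      simp [coordHom, ModuleCat.hom_sum, Finsupp.single_apply]
    | add z z' hz hz' =>
      conv_rhs => rw [← hz, ← hz']
      simp only [Ψ, map_add, ← Finset.sum_add_distrib]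
      refine Finset.sum_congr rfl fun i _ => ?_
      exact map_add _ _ _
  refine ⟨fun z z' h => by rw [← hz z, ← hz z', h], fun f => ⟨Ψ f, ModuleCat.ExtendScalars.hom_ext fun x => ?_⟩⟩
  show (compMap φ M N (Ψ f)) (tm φ 1 x) = f (tm φ 1 x)
  have h2 : ∀ i (t : (eF φ).obj N), (compMap φ M N ((coordHom e i).lTensor (Bb φ) t)) (tm φ 1 x) =
      φ (e.coord i x) • t := fun i t => by
    induction t using TensorProduct.induction_on with
    | zero => erw [map_zero]; exact (LinearMap.zero_apply _).trans (smul_zero (A := (eF φ).obj N) _).symm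
    | tmul b w =>
      show (show B from b) • tm φ 1 (e.coord i x • w) = φ (e.coord i x) • tm φ (show B from b) w
      rw [tm_smul, smul_tm, smul_tm]
      congr 1
      ring
    | add t t' ht ht' =>
      erw [map_add, map_add, smul_add]
      exact congrArg₂ (· + ·) ht ht'
  simp only [Ψ, map_sum, ModuleCat.hom_sum, LinearMap.sum_apply, h2]
  have h3 : ∀ i, φ (e.coord i x) • f (tm φ 1 (e i)) = f (tm φ 1 (e.coord i x • e i)) := fun i => by
    rw [← map_smul, smul_tm, tm_smul]
  simp only [h3]
  rw [← map_sum]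
  refine congrArg _ ?_
  show ∑ i, (show Bb φ from (1 : B)) ⊗ₜ[A] (e.coord i x • e i) = (show Bb φ from (1 : B)) ⊗ₜ[A] x
  rw [← TensorProduct.tmul_sum]
  exact congrArg _ (e.sum_repr x)

end Component

section Cochains

variable {P W : DRing.Cx A}

/-- Extended complexes. -/
abbrev eC (W : DRing.Cx A) : DRing.Cx B := ((eF φ).mapHomologicalComplex (ComplexShape.up ℤ)).obj W

variable (P W) in
/-- `b ⊗ c ↦ b • c`. -/
def cochMap (n : ℤ) : Bb φ ⊗[A] Cochain P W n →+ Cochain (eC φ P) (eC φ W) n :=
  TensorProduct.liftAddHom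
    { toFun := fun b =>
        { toFun := fun c => (show B from b) • c.map (eF φ)
          map_zero' := by rw [Cochain.map_zero, smul_zero]
          map_add' := fun c c' => by rw [Cochain.map_add, smul_add] }
      map_zero' := by ext c : 1; exact zero_smul B (c.map (eF φ))
      map_add' := fun b b' => by ext c : 1; exact add_smul (show B from b) (show B from b') (c.map (eF φ)) }
    fun a b c => by
      show (φ a * (show B from b)) • c.map (eF φ) = (show B from b) • (a • c).map (eF φ)
      rw [map_smul_cochain', smul_smul, mul_comm]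

theorem cochMap_δ (n m : ℤ) (z : Bb φ ⊗[A] Cochain P W n) :
    cochMap φ P W m ((δ_hom A P W n m).lTensor (Bb φ) z) = δ n m (cochMap φ P W n z) := by
  induction z using TensorProduct.induction_on with
  | zero => rw [map_zero, map_zero, map_zero, δ_zero]
  | tmul b c =>
    rw [LinearMap.lTensor_tmul]
    show (show B from b) • (δ n m c).map (eF φ) = δ n m ((show B from b) • c.map (eF φ))
    rw [δ_smul, δ_map]
  | add z z' hz hz' => rw [map_add, map_add, map_add, hz, hz', δ_add]

variable (lo hi : ℤ) [W.IsStrictlyGE lo] [W.IsStrictlyLE hi]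

variable (P W) in
/-- The components of a cochain. -/
def comps (n : ℤ) : Cochain P W n →ₗ[A] ((q : {q // q ∈ Finset.Icc lo hi}) → (P.X (q.1 - n) ⟶ W.X q.1)) where
  toFun c q := c.v (q.1 - n) q.1 (by omega)
  map_add' c c' := funext fun q => Cochain.add_v _ _ _ _ _
  map_smul' a c := funext fun q => Cochain.smul_v _ _ _ _ _

include lo hi in
theorem isZero_outside {q : ℤ} (h : q ∉ Finset.Icc lo hi) : IsZero (W.X q) := by
  rcases lt_or_ge q lo with h' | h'
  · exact W.isZero_of_isStrictlyGE lo q h'
  · exact W.isZero_of_isStrictlyLE hi q (by simp at h; omega)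

theorem comps_bijective (n : ℤ) : Function.Bijective (comps P W lo hi n) := by
  classical
  refine ⟨fun c c' h => Cochain.ext _ _ fun p q hpq => ?_, fun g => ?_⟩
  · obtain rfl : p = q - n := by omega
    by_cases hq : q ∈ Finset.Icc lo hi
    · exact congrFun h ⟨q, hq⟩
    · exact (isZero_outside lo hi hq).eq_of_tgt _ _
  · refine ⟨Cochain.mk fun p q hpq => if h : q ∈ Finset.Icc lo hi then
      eqToHom (by rw [show q - n = p by omega]) ≫ g ⟨q, h⟩ else 0, funext fun q => ?_⟩
    dsimp only [comps, LinearMap.coe_mk, AddHom.coe_mk]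
    rw [Cochain.mk_v, dif_pos q.2, eqToHom_refl, Category.id_comp]

theorem cochMap_v (n : ℤ) (q : {q // q ∈ Finset.Icc lo hi}) (z : Bb φ ⊗[A] Cochain P W n) :
    (cochMap φ P W n z).v (q.1 - n) q.1 (by omega) =
      compMap φ (P.X (q.1 - n)) (W.X q.1) ((LinearMap.proj q ∘ₗ comps P W lo hi n).lTensor (Bb φ) z) := by
  induction z using TensorProduct.induction_on with
  | zero => rw [map_zero, map_zero, map_zero, Cochain.zero_v]; rfl
  | tmul b c => rfl
  | add z z' hz hz' => rw [map_add, map_add, map_add, Cochain.add_v, hz, hz']; rfl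

include lo hi in
theorem cochMap_bijective (hP : ∀ i, Module.Finite A (P.X i) ∧ Module.Free A (P.X i)) (n : ℤ) :
    Function.Bijective (cochMap φ P W n) := by
  classical
  let ρ : Bb φ ⊗[A] Cochain P W n ≃ₗ[A] Bb φ ⊗[A] ((q : {q // q ∈ Finset.Icc lo hi}) → (P.X (q.1 - n) ⟶ W.X q.1)) :=
    LinearEquiv.lTensor (Bb φ) (LinearEquiv.ofBijective _ (comps_bijective lo hi n))
  let π := TensorProduct.piRight A A (Bb φ) (fun q : {q // q ∈ Finset.Icc lo hi} => (P.X (q.1 - n) ⟶ W.X q.1))
  have hπ : ∀ z q, π (ρ z) q = (LinearMap.proj q ∘ₗ comps P W lo hi n).lTensor (Bb φ) z := fun z q => by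
    induction z using TensorProduct.induction_on with
    | zero => simp
    | tmul b c => rfl
    | add z z' hz hz' => simp only [map_add, Pi.add_apply, hz, hz']
  constructor
  · intro z z' h
    refine (ρ.trans π).injective (funext fun q => (compMap_bijective φ (hP _)).1 ?_)
    show compMap φ _ _ (π (ρ z) q) = compMap φ _ _ (π (ρ z') q)
    rw [hπ, hπ, ← cochMap_v, ← cochMap_v, h]
  · intro c
    choose g hg using fun q : {q // q ∈ Finset.Icc lo hi} =>
      (compMap_bijective φ (hP (q.1 - n))).2 (c.v (q.1 - n) q.1 (by omega))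
    refine ⟨(ρ.trans π).symm g, Cochain.ext _ _ fun p q hpq => ?_⟩
    obtain rfl : p = q - n := by omega
    by_cases hq : q ∈ Finset.Icc lo hi
    · rw [cochMap_v φ lo hi n ⟨q, hq⟩, ← hπ, show π (ρ ((ρ.trans π).symm g)) = g from (ρ.trans π).apply_symm_apply g]
      exact hg ⟨q, hq⟩
    · exact (Functor.map_isZero (eF φ) (isZero_outside lo hi hq)).eq_of_tgt _ _

end Cochains

end Groth.Agent.Dlz27
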