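import Groth.Agent.Lib.Dlz27.FlatExt

/-!
# Flat base change preserves dualizing complexes when closed fibres are fields
-/

set_option autoImplicit false
universe u

open CategoryTheory CategoryTheory.Limits CochainComplex.HomComplex TensorProduct

attribute [local instance] HasDerivedCategory.standard

noncomputable section

namespace Groth.Agent.Dlz27

variable {A B : Type u} [CommRing A] [CommRing B] (φ : A →+* B)

theorem hclP_add {R : Type u} [CommRing R] {P W : DRing.Cx R} {n : ℤ} (z z' : Cocycle P W n) :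
    hcl (z + z') = hcl z + hcl z' := by
  rw [hcl, map_add, Functor.map_add, Preadditive.add_comp]; rfl

section Classes

variable {P W : DRing.Cx A} (lo hi : ℤ) [W.IsStrictlyGE lo] [W.IsStrictlyLE hi]
  (hP : ∀ i, Module.Finite A (P.X i) ∧ Module.Free A (P.X i)) (hφ : φ.Flat)

include lo hi hP hφ in
/-- Exactness passes to the base change. -/
theorem exists_ext_coboundary (n : ℤ) (h : ∀ c : Cochain P W n, δ n (n + 1) c = 0 → ∃ w : Cochain P W (n - 1), δ (n - 1) n w = c)
    (z : Cochain (eC φ P) (eC φ W) n) (hz : δ n (n + 1) z = 0) : ∃ w, δ (n - 1) n w = z := by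
  haveI := RGamma27.flat_restrict φ hφ
  obtain ⟨t, rfl⟩ := (cochMap_bijective φ lo hi hP n).2 z
  have h0 : (δ_hom A P W n (n + 1)).lTensor (Bb φ) t = 0 :=
    (cochMap_bijective φ lo hi hP (n + 1)).1 ((cochMap_δ φ n (n + 1) t).trans (hz.trans (map_zero _).symm))
  have hex : Function.Exact (δ_hom A P W (n - 1) n) (δ_hom A P W n (n + 1)) := fun c =>
    ⟨fun hc => h c hc, by rintro ⟨w, rfl⟩; exact δ_δ (n - 1) n (n + 1) w⟩
  obtain ⟨u, rfl⟩ := (Module.Flat.lTensor_exact (Bb φ) hex t).1 h0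
  exact ⟨cochMap φ P W (n - 1) u, (cochMap_δ φ (n - 1) n u).symm⟩

include lo hi hP hφ in
/-- One generator of the classes passes to the base change. -/
theorem exists_ext_generator (n : ℤ) (c₀ : Cochain P W n) (hc₀ : δ n (n + 1) c₀ = 0)
    (h : ∀ c : Cochain P W n, δ n (n + 1) c = 0 → ∃ (a : A) (w : Cochain P W (n - 1)), δ (n - 1) n w + a • c₀ = c)
    (z : Cochain (eC φ P) (eC φ W) n) (hz : δ n (n + 1) z = 0) :
    ∃ (b : B) (w : Cochain (eC φ P) (eC φ W) (n - 1)), δ (n - 1) n w + b • c₀.map (eF φ) = z := by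
  haveI := RGamma27.flat_restrict φ hφ
  obtain ⟨t, rfl⟩ := (cochMap_bijective φ lo hi hP n).2 z
  have h0 : (δ_hom A P W n (n + 1)).lTensor (Bb φ) t = 0 :=
    (cochMap_bijective φ lo hi hP (n + 1)).1 ((cochMap_δ φ n (n + 1) t).trans (hz.trans (map_zero _).symm))
  let g : Cochain P W (n - 1) × A →ₗ[A] Cochain P W n :=
    LinearMap.coprod (δ_hom A P W (n - 1) n) (LinearMap.toSpanSingleton A _ c₀)
  have hex : Function.Exact g (δ_hom A P W n (n + 1)) := fun c => by
    constructor
    · intro hc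
      obtain ⟨a, w, hw⟩ := h c hc
      exact ⟨(w, a), hw⟩
    · rintro ⟨⟨w, a⟩, rfl⟩
      show δ n (n + 1) (δ (n - 1) n w + a • c₀) = 0
      rw [δ_add, δ_smul, hc₀, smul_zero, add_zero, δ_δ]
  obtain ⟨u, rfl⟩ := (Module.Flat.lTensor_exact (Bb φ) hex t).1 h0
  clear h0 hz
  induction u using TensorProduct.induction_on with
  | zero => exact ⟨0, 0, by rw [δ_zero, zero_smul, add_zero, map_zero, map_zero]⟩
  | tmul b x =>
    obtain ⟨w, a⟩ := x
    refine ⟨(show B from b) * φ a, (show B from b) • w.map (eF φ), ?_⟩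
    show _ = (show B from b) • (δ (n - 1) n w + a • c₀).map (eF φ)
    rw [Cochain.map_add, smul_add, map_smul_cochain', smul_smul, δ_smul, δ_map]
  | add u u' hu hu' =>
    obtain ⟨b, w, hw⟩ := hu
    obtain ⟨b', w', hw'⟩ := hu'
    refine ⟨b + b', w + w', ?_⟩
    rw [map_add, map_add, ← hw, ← hw', δ_add, add_smul]
    abel

include lo hi hP hφ in
/-- The generator survives the base change. -/
theorem ext_generator_ne (m : Ideal A) (hm : m.map φ ≠ ⊤) (n : ℤ) (c₀ : Cochain P W n)
    (h : ∀ (a : A), (∃ w : Cochain P W (n - 1), δ (n - 1) n w = a • c₀) ↔ a ∈ m) :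
    ¬ ∃ w : Cochain (eC φ P) (eC φ W) (n - 1), δ (n - 1) n w = c₀.map (eF φ) := by
  rintro ⟨w, hw⟩
  haveI := RGamma27.flat_restrict φ hφ
  obtain ⟨u, rfl⟩ := (cochMap_bijective φ lo hi hP (n - 1)).2 w
  let N := LinearMap.range (δ_hom A P W (n - 1) n)
  have hker : m ≤ LinearMap.ker (N.mkQ ∘ₗ LinearMap.toSpanSingleton A (Cochain P W n) c₀) := fun a ha =>
    LinearMap.mem_ker.2 ((Submodule.Quotient.mk_eq_zero N).2 ((h a).2 ha))
  let ι : A ⧸ m →ₗ[A] Cochain P W n ⧸ N := m.liftQ _ hker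
  have hι : Function.Injective ι := LinearMap.ker_eq_bot.1 (Submodule.ker_liftQ_eq_bot _ _ _ fun a ha =>
    (h a).1 ((Submodule.Quotient.mk_eq_zero N).1 (LinearMap.mem_ker.1 ha)))
  have h1 : (show Bb φ from (1 : B)) ⊗ₜ[A] c₀ = (δ_hom A P W (n - 1) n).lTensor (Bb φ) u := by
    refine (cochMap_bijective φ lo hi hP n).1 ?_
    rw [cochMap_δ, hw]
    exact one_smul B _
  have h2 : N.mkQ.lTensor (Bb φ) ((show Bb φ from (1 : B)) ⊗ₜ[A] c₀) = 0 := by
    rw [h1, ← LinearMap.lTensor_comp_apply, show N.mkQ ∘ₗ δ_hom A P W (n - 1) n = 0 from LinearMap.range_mkQ_comp _,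
      LinearMap.lTensor_zero, LinearMap.zero_apply]
  have h3 : (show Bb φ from (1 : B)) ⊗ₜ[A] (Submodule.Quotient.mk 1 : A ⧸ m) = 0 := by
    refine Module.Flat.lTensor_preserves_injective_linearMap (M := Bb φ) ι hι ?_
    rw [map_zero, LinearMap.lTensor_tmul]
    refine (congrArg _ (show ι (Submodule.Quotient.mk 1) = N.mkQ c₀ from ?_)).trans h2
    show N.mkQ ((1 : A) • c₀) = _
    rw [one_smul]
  let ev : Bb φ ⊗[A] (A ⧸ m) →+ B ⧸ m.map φ := TensorProduct.liftAddHom
    { toFun := fun b =>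
        { toFun := fun q => Ideal.Quotient.mk (m.map φ) (show B from b) *
            Ideal.quotientMap (m.map φ) φ Ideal.le_comap_map q
          map_zero' := by rw [map_zero, mul_zero]
          map_add' := fun q q' => by rw [map_add, mul_add] }
      map_zero' := AddMonoidHom.ext fun q => by
        show Ideal.Quotient.mk _ (0 : B) * _ = 0
        rw [map_zero, zero_mul]
      map_add' := fun b b' => AddMonoidHom.ext fun q => by
        show Ideal.Quotient.mk _ ((show B from b) + (show B from b')) * _ = _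
        rw [map_add, add_mul]; rfl }
    fun a b q => by
      obtain ⟨q, rfl⟩ := Ideal.Quotient.mk_surjective q
      show Ideal.Quotient.mk _ (φ a * (show B from b)) * Ideal.Quotient.mk _ (φ q) =
        Ideal.Quotient.mk _ (show B from b) * Ideal.Quotient.mk _ (φ (a * q))
      rw [map_mul, map_mul, map_mul]
      ring
  have h4 := (congrArg ev h3).trans (map_zero ev)
  apply hm
  rw [Ideal.eq_top_iff_one, ← Ideal.Quotient.eq_zero_iff_mem]
  refine Eq.trans ?_ h4
  show _ = Ideal.Quotient.mk (m.map φ) (1 : B) * Ideal.Quotient.mk (m.map φ) (φ 1)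
  rw [map_one φ, map_one, mul_one]

end Classes

section Local

variable [IsNoetherianRing A] {ω : Dual.D A}

theorem finite_homology_ext (hφ : φ.Flat) [IsNoetherianRing B] (W : DRing.Cx A) (i : ℤ) (h : Module.Finite A (W.homology i)) :
    Module.Finite B ((eC φ W).homology i) := by
  have h2 : Module.Finite B ((eF φ).obj (W.homology i)) := by
    letI := φ.toAlgebra
    exact inferInstanceAs (Module.Finite B (TensorProduct A B (W.homology i)))
  exact Module.Finite.equiv (DBaseChange.homologyExtIso φ hφ W i).toLinearEquiv.symm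

/-- The closed residual degree of the base change to a local ring. -/
theorem exists_residue_ext (hω : Dual.IsDualizing A ω) (M : Model ω) [IsLocalRing B] [IsNoetherianRing B] (hφ : φ.Flat)
    (m : Ideal A) [m.IsMaximal] (hm : m.map φ = IsLocalRing.maximalIdeal B) :
    ∃ d : ℤ, d ≤ M.hi ∧
      (∀ i : ℤ, i ≠ d → Subsingleton (Dual.inD B (IsLocalRing.ResidueField B) ⟶ (DerivedCategory.Q.obj (eC φ M.W))⟦i⟧)) ∧
      Nonempty ((Dual.inD B (IsLocalRing.ResidueField B) ⟶ (DerivedCategory.Q.obj (eC φ M.W))⟦d⟧) ≃ₗ[B]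
        IsLocalRing.ResidueField B) := by
  classical
  obtain ⟨d, hvan, ⟨el⟩⟩ := ext_residue hω m
  have hd : d ≤ M.hi := by
    by_contra hlt
    push Not at hlt
    have : Subsingleton (Dual.inD A (A ⧸ m) ⟶ ω⟦d⟧) := (subsingleton_hom_iff_van M.e _ _).2 fun f _ => ⟨0, by
      haveI : Subsingleton (M.W.X d) := ModuleCat.subsingleton_of_isZero (M.W.isZero_of_isStrictlyLE M.hi d hlt)
      exact Subsingleton.elim _ _⟩
    haveI := el.symm.toEquiv.subsingleton
    exact (Ideal.Quotient.subsingleton_iff.1 ‹_› : m = ⊤) |> Ideal.IsPrime.ne_top inferInstance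
  haveI : (Dual.inD A (A ⧸ m)).IsLE 0 := inferInstance
  obtain ⟨P, hPle, hP, ⟨eP⟩⟩ := exists_res_finiteFree (Dual.inD A (A ⧸ m)) 0 (fun i => by
    rcases eq_or_ne i 0 with rfl | hi
    · haveI hf : Module.Finite A ((𝟭 (ModuleCat.{u} A)).obj (ModuleCat.of A (A ⧸ m))) :=
        show Module.Finite A (A ⧸ m) from inferInstance
      exact Module.Finite.equiv (((DerivedCategory.singleFunctorCompHomologyFunctorIso (ModuleCat.{u} A) 0).app
        (ModuleCat.of A (A ⧸ m))).toLinearEquiv.symm)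
    · haveI : Subsingleton (Dual.HD A (Dual.inD A (A ⧸ m)) i) := ModuleCat.subsingleton_of_isZero (by
        rcases lt_or_gt_of_ne hi with h | h
        · exact DerivedCategory.isZero_of_isGE _ 0 i h
        · exact DerivedCategory.isZero_of_isLE _ 0 i h)
      infer_instance)
  haveI := hPle
  haveI : P.IsKProjective := DMod.isKProjective 0 fun i => by
    haveI := (hP i).2
    infer_instance
  haveI : (eC φ P).IsKProjective := DMod.isKProjective 0 fun i => by
    haveI := (hP i).2
    letI := φ.toAlgebra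
    exact inferInstanceAs (Module.Projective B (TensorProduct A B (P.X i)))
  obtain ⟨g, hg⟩ := DMod.exists_map_eq (P := P)
    (L := (HomologicalComplex.single (ModuleCat.{u} A) (ComplexShape.up ℤ) 0).obj (ModuleCat.of A (A ⧸ m)))
    (eP.hom ≫ ((DerivedCategory.singleFunctorIsoCompQ (ModuleCat.{u} A) 0).app _).hom)
  haveI hgi : IsIso (DerivedCategory.Q.map g) := by rw [hg]; infer_instance
  haveI : QuasiIso g := (DerivedCategory.isIso_Q_map_iff_quasiIso _ g).1 hgi
  haveI : IsIso (DerivedCategory.Q.map ((DBaseChange.extCx φ).map g)) :=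
    (DerivedCategory.isIso_Q_map_iff_quasiIso _ _).2 (DBaseChange.quasiIso_ext_of_flat hφ g)
  have el2 : (eF φ).obj (ModuleCat.of A (A ⧸ m)) ≅ ModuleCat.of B (IsLocalRing.ResidueField B) := by
    letI := φ.toAlgebra
    exact ((Ideal.qoutMapEquivTensorQout B (I := m)).symm.trans (Submodule.quotEquivOfEq _ _ hm)).toModuleIso
  let eB : DerivedCategory.Q.obj (eC φ P) ≅ Dual.inD B (IsLocalRing.ResidueField B) :=
    asIso (DerivedCategory.Q.map ((DBaseChange.extCx φ).map g)) ≪≫
      DerivedCategory.Q.mapIso ((HomologicalComplex.singleMapHomologicalComplex (eF φ) (ComplexShape.up ℤ) 0).app _) ≪≫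
      ((DerivedCategory.singleFunctorIsoCompQ (ModuleCat.{u} B) 0).app _).symm ≪≫
      (DerivedCategory.singleFunctor (ModuleCat.{u} B) 0).mapIso el2
  let hom : ∀ i : ℤ, (DerivedCategory.Q.obj P ⟶ (DerivedCategory.Q.obj M.W)⟦i⟧) ≃ₗ[A] (Dual.inD A (A ⧸ m) ⟶ ω⟦i⟧) :=
    fun i => Linear.homCongr A eP ((shiftFunctor (Dual.D A) i).mapIso M.e)
  let homB : ∀ i : ℤ, (DerivedCategory.Q.obj (eC φ P) ⟶ (DerivedCategory.Q.obj (eC φ M.W))⟦i⟧) ≃ₗ[B]
      (Dual.inD B (IsLocalRing.ResidueField B) ⟶ (DerivedCategory.Q.obj (eC φ M.W))⟦i⟧) :=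
    fun i => Linear.homCongr B eB (Iso.refl _)
  refine ⟨d, hd, fun i hi => ?_, ?_⟩
  · haveI : Subsingleton (DerivedCategory.Q.obj P ⟶ (DerivedCategory.Q.obj M.W)⟦i⟧) := by
      haveI := hvan i hi
      exact (hom i).toEquiv.subsingleton
    haveI hs : Subsingleton (DerivedCategory.Q.obj (eC φ P) ⟶ (DerivedCategory.Q.obj (eC φ M.W))⟦i⟧) := by
      refine subsingleton_of_forall_eq 0 fun ψ => ?_
      obtain ⟨z, rfl⟩ := hclP_surjective ψ
      refine (hclP_eq_zero_iff z).2 (exists_ext_coboundary φ M.lo M.hi hP hφ i (fun c hc => ?_) z.1 (Cocycle.δ_eq_zero z _))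
      exact (hclP_eq_zero_iff (Cocycle.mk c (i + 1) rfl hc)).1 (Subsingleton.elim _ _)
    exact (homB i).symm.toEquiv.subsingleton
  · let e0 := (hom d).trans el
    obtain ⟨c₀, hc₀⟩ := hclP_surjective (e0.symm 1)
    have hsmul : ∀ (a : A) (c : Cocycle P M.W d), e0 (hcl (a • c)) = a • e0 (hcl c) := fun a c => by
      rw [hcl_smul, map_smul]
    have h1 : ∀ a : A, (∃ w : Cochain P M.W (d - 1), δ (d - 1) d w = a • c₀.1) ↔ a ∈ m := fun a => by
      have hiff := hclP_eq_zero_iff (a • c₀)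
      refine ⟨fun hw => ?_, fun ha => ?_⟩
      · have h2 : e0 (hcl (a • c₀)) = 0 := by
          rw [hiff.2 hw, map_zero]
        rw [hsmul, hc₀, LinearEquiv.apply_symm_apply, Algebra.smul_def, mul_one, Ideal.Quotient.algebraMap_eq,
          Ideal.Quotient.eq_zero_iff_mem] at h2
        exact h2
      · refine hiff.1 (e0.injective ?_)
        rw [hsmul, hc₀, LinearEquiv.apply_symm_apply, map_zero, Algebra.smul_def, mul_one, Ideal.Quotient.algebraMap_eq,
          Ideal.Quotient.eq_zero_iff_mem]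
        exact ha
    have h2 : ∀ c : Cochain P M.W d, δ d (d + 1) c = 0 →
        ∃ (a : A) (w : Cochain P M.W (d - 1)), δ (d - 1) d w + a • c₀.1 = c := fun c hc => by
      let cc : Cocycle P M.W d := Cocycle.mk c (d + 1) rfl hc
      obtain ⟨a, ha⟩ := Ideal.Quotient.mk_surjective (e0 (hcl cc))
      have h3 : hcl (cc + (-a) • c₀) = 0 := e0.injective (by
        rw [hclP_add, map_add, hsmul, hc₀, LinearEquiv.apply_symm_apply, map_zero, Algebra.smul_def, mul_one,
          Ideal.Quotient.algebraMap_eq, ← ha, ← map_add, add_neg_cancel, map_zero])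
      obtain ⟨w, hw⟩ := (hclP_eq_zero_iff _).1 h3
      refine ⟨a, w, ?_⟩
      rw [hw]
      show c + (-a) • c₀.1 + a • c₀.1 = c
      rw [neg_smul, neg_add_cancel_right]
    let z₀ : Cocycle (eC φ P) (eC φ M.W) d := Cocycle.mk (c₀.1.map (eF φ)) (d + 1) rfl (by
      rw [δ_map, Cocycle.δ_eq_zero, Cochain.map_zero])
    let v := hcl z₀
    let L : B →ₗ[B] (DerivedCategory.Q.obj (eC φ P) ⟶ (DerivedCategory.Q.obj (eC φ M.W))⟦d⟧) :=
      LinearMap.toSpanSingleton B _ v
    have hL : Function.Surjective L := fun ψ => by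
      obtain ⟨z, rfl⟩ := hclP_surjective ψ
      obtain ⟨b, w, hw⟩ := exists_ext_generator φ M.lo M.hi hP hφ d c₀.1 (Cocycle.δ_eq_zero c₀ _) h2 z.1 (Cocycle.δ_eq_zero z _)
      refine ⟨b, ?_⟩
      have h3 : hcl (z + (-b) • z₀) = 0 := (hclP_eq_zero_iff _).2 ⟨w, by
        show _ = z.1 + (-b) • c₀.1.map (eF φ)
        rw [← hw, neg_smul, add_neg_cancel_right]⟩
      rw [hclP_add, hcl_smul, neg_smul, add_neg_eq_zero] at h3
      exact h3.symm
    have hne : v ≠ 0 := fun h0 => ext_generator_ne φ M.lo M.hi hP hφ m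
      (by rw [hm]; exact (IsLocalRing.maximalIdeal.isMaximal B).ne_top) d c₀.1 h1 ((hclP_eq_zero_iff z₀).1 h0)
    have hker : LinearMap.ker L = IsLocalRing.maximalIdeal B := by
      refine le_antisymm (fun b hb => (IsLocalRing.mem_maximalIdeal b).2 fun hu => hne ?_) ?_
      · exact (hu.smul_eq_zero).1 (LinearMap.mem_ker.1 hb)
      · rw [← hm, Ideal.map_le_iff_le_comap]
        intro a ha
        refine LinearMap.mem_ker.2 ?_
        show φ a • hcl z₀ = 0
        rw [← hcl_smul]
        obtain ⟨w, hw⟩ := (h1 a).2 ha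
        refine (hclP_eq_zero_iff _).2 ⟨w.map (eF φ), ?_⟩
        show _ = φ a • c₀.1.map (eF φ)
        rw [δ_map, hw, map_smul_cochain']
    exact ⟨(homB d).symm ≪≫ₗ (LinearMap.quotKerEquivOfSurjective L hL).symm ≪≫ₗ Submodule.quotEquivOfEq _ _ hker⟩

theorem isDualizing_ext_local (hω : Dual.IsDualizing A ω) (M : Model ω) [IsLocalRing B] [IsNoetherianRing B] (hφ : φ.Flat)
    (m : Ideal A) [m.IsMaximal] (hm : m.map φ = IsLocalRing.maximalIdeal B) :
    Dual.IsDualizing B (DerivedCategory.Q.obj (eC φ M.W)) ∧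
      ∃ d : ℤ, d ≤ M.hi ∧ ∀ i : ℤ, i ≠ d →
        Subsingleton (Dual.inD B (IsLocalRing.ResidueField B) ⟶ (DerivedCategory.Q.obj (eC φ M.W))⟦i⟧) := by
  obtain ⟨d, hd, hvan, hiso⟩ := exists_residue_ext φ hω M hφ m hm
  have hfin : ∀ i, Module.Finite B (Dual.HD B (DerivedCategory.Q.obj (eC φ M.W)) i) := fun i => by
    haveI h1 : Module.Finite B ((HomologicalComplex.homologyFunctor (ModuleCat.{u} B) (ComplexShape.up ℤ) i).obj (eC φ M.W)) :=
      finite_homology_ext φ hφ M.W i (finite_homology hω M i)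
    exact Module.Finite.equiv ((DerivedCategory.homologyFunctorFactors (ModuleCat.{u} B) i).app (eC φ M.W)).toLinearEquiv.symm
  exact ⟨isDualizing_of_residue _ hfin ⟨M.lo, fun i hi => ModuleCat.subsingleton_of_isZero
    (DerivedCategory.isZero_of_isGE _ M.lo i hi)⟩ d hvan hiso, d, hd, hvan⟩

/-- Flat base change with closed fibres fields. -/
theorem isDualizing_ext [IsNoetherianRing B] (hφ : φ.Flat) (hω : Dual.IsDualizing A ω) (M : Model ω)
    (hmax : ∀ (n : Ideal B) [n.IsMaximal], (n.comap φ).IsMaximal ∧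
      ((n.comap φ).map φ).map (algebraMap B (Localization.AtPrime n)) = IsLocalRing.maximalIdeal (Localization.AtPrime n)) :
    Dual.IsDualizing B (DerivedCategory.Q.obj (eC φ M.W)) := by
  classical
  let R := DerivedCategory.Q.obj (eC φ M.W)
  haveI hGE : (eC φ M.W).IsStrictlyGE M.lo := inferInstance
  have hfin : ∀ i, Module.Finite B (Dual.HD B R i) := fun i => by
    haveI h1 : Module.Finite B ((HomologicalComplex.homologyFunctor (ModuleCat.{u} B) (ComplexShape.up ℤ) i).obj (eC φ M.W)) :=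
      finite_homology_ext φ hφ M.W i (finite_homology hω M i)
    exact Module.Finite.equiv ((DerivedCategory.homologyFunctorFactors (ModuleCat.{u} B) i).app (eC φ M.W)).toLinearEquiv.symm
  obtain ⟨W₀, hW₀, hW₀i, hW₀K, ⟨e₀⟩⟩ := HTFin27.exists_res_bounded R M.lo fun i hi => ModuleCat.subsingleton_of_isZero
    (DerivedCategory.isZero_of_isGE _ M.lo i hi)
  have hloc : ∀ n : {n : Ideal B // n.IsMaximal}, (haveI := n.2; Dual.IsDualizing (Localization.AtPrime n.1)
      (DerivedCategory.Q.obj (locCx n.1.primeCompl W₀)) ∧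
      ∀ (N : Type u) [AddCommGroup N] [Module (Localization n.1.primeCompl) N] (i : ℤ),
        M.hi < i → Van (locCx n.1.primeCompl W₀) N i) := by
    rintro ⟨n, hn⟩
    let S := n.primeCompl
    let L := Localization.AtPrime n
    haveI : IsNoetherianRing L := IsLocalization.isNoetherianRing S _ inferInstance
    haveI := hn
    obtain ⟨hm, hmap⟩ := hmax n
    haveI := hm
    have hψ : ((algebraMap B L).comp φ).Flat :=
      RingHom.Flat.comp hφ (RingHom.flat_algebraMap_iff.2 (IsLocalization.flat L S))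
    obtain ⟨hd, d, hdhi, hvan⟩ := isDualizing_ext_local ((algebraMap B L).comp φ) hω M hψ (n.comap φ)
      (by rw [← Ideal.map_map]; exact hmap)
    obtain ⟨e1⟩ := exists_locCx_congr S e₀
    let e2 : DerivedCategory.Q.obj (locCx S W₀) ≅ DerivedCategory.Q.obj (eC ((algebraMap B L).comp φ) M.W) :=
      e1 ≪≫ DerivedCategory.Q.mapIso
        (((NatIso.mapHomologicalComplex (extLocIso S) (ComplexShape.up ℤ)).app (eC φ M.W)).symm ≪≫
          ((NatIso.mapHomologicalComplex (ModuleCat.extendScalarsComp.{u} φ (algebraMap B L)) (ComplexShape.up ℤ)).app M.W).symm)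
    refine ⟨isDualizing_of_iso e2.symm hd, ?_⟩
    haveI := hW₀
    have hWi : ∀ i, Injective ((locCx S W₀).X i) := fun i => injective_locF S (hW₀i i)
    haveI := hWi
    haveI : (locCx S W₀).IsKInjective := CochainComplex.isKInjective_of_injective _ M.lo
    intro N _ _ i hi
    refine van_of_cyclic (locCx S W₀) hWi M.hi (fun J j hj => van_quotient_of_residue (locCx S W₀) M.lo (fun l => ?_) M.hi hWi
      (fun l hl => ?_) J j hj) N i hi
    · haveI : Module.Finite B (W₀.homology l) := by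
        haveI := hfin l
        exact Module.Finite.equiv ((DerivedCategory.homologyFunctorFactors (ModuleCat.{u} B) l).symm.app W₀ ≪≫
          (DerivedCategory.homologyFunctor (ModuleCat.{u} B) l).mapIso e₀).toLinearEquiv.symm
      exact finite_homology_locCx S W₀ l inferInstance
    · refine (subsingleton_hom_iff_van e2 _ l).1 ?_
      exact hvan l (by omega)
  have hid : ∃ a b : ℤ, ∀ (N : Type u) [AddCommGroup N] [Module B N] (i : ℤ),
      (i < a ∨ b < i) → Subsingleton (Dual.inD B N ⟶ R⟦i⟧) := by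
    refine ⟨M.lo, M.hi, fun N _ _ i hi => (subsingleton_hom_iff_van e₀ N i).2 ?_⟩
    rcases hi with hi | hi
    · intro f _
      haveI := ModuleCat.subsingleton_of_isZero (W₀.isZero_of_isStrictlyGE M.lo i hi)
      exact ⟨0, Subsingleton.elim _ _⟩
    · exact van_all_of_cover W₀ hW₀i covers_maximal M.hi (fun n N _ _ i hi => (hloc n).2 N i hi) N i hi
  obtain ⟨W, lo, hi, h1, h2, h3, h4, ⟨e⟩⟩ := exists_model_of_injdim R hid
  refine isDualizing_of_cover hfin ⟨W, lo, hi, h1, h2, h3, h4, e⟩ covers_maximal fun n => ?_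
  obtain ⟨e'⟩ := exists_locCx_congr (haveI := n.2; n.1.primeCompl) (e₀ ≪≫ e.symm)
  exact isDualizing_of_iso e' (hloc n).1

theorem isDualizing_LBaseChange_of_maximal [IsNoetherianRing B] (hφ : φ.Flat) [DRing.HasLBaseChange φ]
    (hω : Dual.IsDualizing A ω)
    (hmax : ∀ (n : Ideal B) [n.IsMaximal], (n.comap φ).IsMaximal ∧
      ((n.comap φ).map φ).map (algebraMap B (Localization.AtPrime n)) = IsLocalRing.maximalIdeal (Localization.AtPrime n)) :
    Dual.IsDualizing B ((DRing.LBaseChange φ).obj ω) := by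
  let M := model hω
  haveI := RGamma27.isIso_valueMap_of_flat φ hφ M.W
  exact isDualizing_of_iso ((asIso ((DBaseChange.valueMap φ).app M.W)).symm ≪≫ (DRing.LBaseChange φ).mapIso M.e)
    (isDualizing_ext φ hφ hω M hmax)

end Local

end Groth.Agent.Dlz27
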