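import Groth.Agent.Lib.Dlz27.LocalExt
import Groth.Agent.Lib.InjHull.Socle
import Groth.Agent.Lib.InjHull.Duality
import Mathlib.RingTheory.Filtration
import Mathlib.Algebra.Module.Injective

/-!
# Torsion sections of a normalized dualizing complex
-/

set_option autoImplicit false
universe u

open CategoryTheory CategoryTheory.Limits

attribute [local instance] HasDerivedCategory.standard

noncomputable section

namespace Groth.Agent.Dlz27

open RGamma27

variable {A : Type u} [CommRing A] [IsLocalRing A]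

/-- Killed by a power of the maximal ideal. -/
def Killed (N : Type u) [AddCommGroup N] [Module A N] : Prop :=
  ∃ k : ℕ, ∀ a ∈ IsLocalRing.maximalIdeal A ^ k, ∀ x : N, a • x = 0

theorem killed_quotient_pow (k : ℕ) : Killed (A := A) (A ⧸ IsLocalRing.maximalIdeal A ^ k) :=
  ⟨k, fun a ha x => by
    obtain ⟨x, rfl⟩ := Ideal.Quotient.mk_surjective x
    exact (Submodule.Quotient.mk_eq_zero _).2 (Ideal.mul_mem_right x _ ha)⟩

theorem killed_residue : Killed (A := A) (IsLocalRing.ResidueField A) :=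
  ⟨1, fun a ha x => InjHullLib.residue_smul_eq_zero (by simpa using ha) x⟩

variable {ω : Dual.D A} (M : Model ω)

/-- The torsion subcomplex. -/
abbrev G (j : ℤ) : Submodule A (M.W.X j) := InjHullLib.powTors (IsLocalRing.maximalIdeal A) (M.W.X j)

theorem mem_G {j : ℤ} {x : M.W.X j} : x ∈ G M j ↔ ∃ k : ℕ, ∀ a ∈ IsLocalRing.maximalIdeal A ^ k, a • x = 0 :=
  InjHullLib.mem_powTors_iff

theorem apply_mem_G {N : Type u} [AddCommGroup N] [Module A N] (hN : Killed (A := A) N) {j : ℤ}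
    (f : N →ₗ[A] M.W.X j) (x : N) : f x ∈ G M j := by
  obtain ⟨k, hk⟩ := hN
  exact (mem_G M).2 ⟨k, fun a ha => by rw [← map_smul, hk a ha x, map_zero]⟩

theorem d_mem_G {j j' : ℤ} {x : M.W.X j} (hx : x ∈ G M j) : (M.W.d j j').hom x ∈ G M j' := by
  obtain ⟨k, hk⟩ := (mem_G M).1 hx
  exact (mem_G M).2 ⟨k, fun a ha => by rw [← map_smul, hk a ha, map_zero]⟩

/-- The differential of the torsion subcomplex. -/
def dG (j j' : ℤ) : G M j →ₗ[A] G M j' := (M.W.d j j').hom.restrict fun _ hx => d_mem_G M hx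

@[simp]
theorem coe_dG (j j' : ℤ) (x : G M j) : (dG M j j' x : M.W.X j') = M.W.d j j' x.1 := rfl

theorem dG_dG (i j k : ℤ) (x : G M i) : dG M j k (dG M i j x) = 0 := Subtype.ext (d_d M.W i j k x.1)

/-- Torsion boundaries. -/
abbrev bd (j : ℤ) : Submodule A (G M j) := LinearMap.range (dG M (j - 1) j)

/-- Torsion cycles. -/
abbrev cy (j : ℤ) : Submodule A (G M j) := LinearMap.ker (dG M j (j + 1))

theorem bd_le_cy (j : ℤ) : bd M j ≤ cy M j := by
  rintro _ ⟨y, rfl⟩
  exact dG_dG M _ _ _ y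

variable [IsNoetherianRing A] (hω : Dual.IsDualizing A ω) (hn : Dual.IsNormalized A ω)

theorem injective_G (j : ℤ) : Module.Injective A (G M j) :=
  InjHullLib.injective_powTors ((Module.injective_iff_injective_object A _).2 (M.inj j)) _

include hω hn

theorem van_killed (N : Type u) [AddCommGroup N] [Module A N] [Module.Finite A N] (hN : Killed (A := A) N) (i : ℤ)
    (hi : i ≠ 0) : Van M.W N i := by
  refine (subsingleton_hom_iff_van M.e N i).1 (subsingleton_hom_of_support hω M hn N (fun r hr => ?_) i hi)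
  obtain ⟨k, hk⟩ := hN
  rw [Module.support_eq_zeroLocus, PrimeSpectrum.mem_zeroLocus] at hr
  refine PrimeSpectrum.ext (le_antisymm (IsLocalRing.le_maximalIdeal r.isPrime.ne_top) ?_)
  exact r.isPrime.le_of_pow_le (le_trans (fun a ha => Module.mem_annihilator.2 (hk a ha)) hr)

theorem cy_le_bd {i : ℤ} (hi : i ≠ 0) : cy M i ≤ bd M i := by
  rintro ⟨x, hx⟩ hd
  obtain ⟨k, hk⟩ := (mem_G M).1 hx
  let f : A ⧸ IsLocalRing.maximalIdeal A ^ k →ₗ[A] M.W.X i :=
    Submodule.liftQ _ (LinearMap.toSpanSingleton A (M.W.X i) x) fun a ha => hk a ha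
  have hf : (M.W.d i (i + 1)).hom ∘ₗ f = 0 := Submodule.linearMap_qext _ (LinearMap.ext_ring (by
    show M.W.d i (i + 1) ((1 : A) • x) = 0
    rw [one_smul]; exact congrArg Subtype.val hd))
  obtain ⟨g, hg⟩ := van_killed M hω hn _ (killed_quotient_pow k) i hi f hf
  refine ⟨⟨g (Submodule.Quotient.mk 1), apply_mem_G M (killed_quotient_pow k) g _⟩, Subtype.ext ?_⟩
  exact (LinearMap.congr_fun hg (Submodule.Quotient.mk 1)).trans (one_smul A x)

theorem bd_split_aux : ∀ (k : ℕ) (j : ℤ), j ≤ 0 → j ≤ M.lo + k →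
    Module.Injective A (bd M j) ∧ ∃ s : bd M j →ₗ[A] G M (j - 1), ∀ b, dG M (j - 1) j (s b) = b
  | 0, j, _, hjk => by
    have : Subsingleton (M.W.X (j - 1)) := ModuleCat.subsingleton_of_isZero
      (M.W.isZero_of_isStrictlyGE M.lo (j - 1) (by simp at hjk; omega))
    have hsub : Subsingleton (bd M j) := subsingleton_of_forall_eq 0 fun ⟨b, y, hy⟩ => Subtype.ext (by
      show b = 0
      rw [← hy, Subsingleton.elim y 0, map_zero])
    exact ⟨⟨fun X Y _ _ _ _ f _ g => ⟨0, fun x => Subsingleton.elim _ _⟩⟩, 0,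
      fun b => by rw [Subsingleton.elim b 0]; simp⟩
  | k + 1, j, hj, hjk => by
    obtain ⟨hinj, -⟩ := bd_split_aux k (j - 1) (by omega) (by push_cast at hjk; omega)
    obtain ⟨C, hC⟩ := InjHullLib.exists_isCompl_of_injective _ hinj
    have hker : ∀ x : G M (j - 1), dG M (j - 1) j x = 0 ↔ x ∈ bd M (j - 1) := fun x => by
      refine ⟨fun h => cy_le_bd M hω hn (by omega) ?_, fun h => ?_⟩
      · show dG M (j - 1) (j - 1 + 1) x = 0
        rw [show j - 1 + 1 = j by omega]; exact h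
      · have := bd_le_cy M (j - 1) h
        rwa [LinearMap.mem_ker, show j - 1 + 1 = j by omega] at this
    let ψ : C →ₗ[A] bd M j := (dG M (j - 1) j).rangeRestrict ∘ₗ C.subtype
    have hψ : Function.Bijective ψ := by
      refine ⟨(injective_iff_map_eq_zero _).2 fun c hc => Subtype.ext ?_, fun b => ?_⟩
      · have h0 : c.1 ∈ bd M (j - 1) ⊓ C := ⟨(hker c.1).1 (congrArg Subtype.val hc), c.2⟩
        rwa [hC.inf_eq_bot, Submodule.mem_bot] at h0
      · obtain ⟨b, y, rfl⟩ := b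
        obtain ⟨u, hu, c, hc, rfl⟩ := Submodule.mem_sup.1 (hC.sup_eq_top ▸ Submodule.mem_top (x := y))
        exact ⟨⟨c, hc⟩, Subtype.ext (show dG M (j - 1) j c = dG M (j - 1) j (u + c) by
          rw [map_add, (hker u).2 hu, zero_add])⟩
    let e := LinearEquiv.ofBijective ψ hψ
    refine ⟨InjHullLib.injective_of_linearEquiv e (InjHullLib.injective_of_isCompl hC.symm (injective_G M (j - 1))),
      C.subtype ∘ₗ e.symm.toLinearMap, fun b => ?_⟩
    exact congrArg Subtype.val (e.apply_symm_apply b)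

theorem bd_zero_split : Module.Injective A (bd M 0) ∧
    ∃ s : bd M 0 →ₗ[A] G M (0 - 1), ∀ b, dG M (0 - 1) 0 (s b) = b :=
  bd_split_aux M hω hn (-M.lo).toNat 0 le_rfl (by omega)

omit hω hn [IsNoetherianRing A] in
/-- The degree zero torsion cohomology. -/
abbrev H0 : Type u := ↥(cy M 0) ⧸ (bd M 0).comap (cy M 0).subtype

theorem exists_section : ∃ s : H0 M →ₗ[A] cy M 0, ∀ z, Submodule.Quotient.mk (s z) = z := by
  let N := (bd M 0).comap (cy M 0).subtype
  have hN : Module.Injective A N := InjHullLib.injective_of_linearEquiv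
    (Submodule.comapSubtypeEquivOfLe (bd_le_cy M 0)).symm (bd_zero_split M hω hn).1
  obtain ⟨C, hC⟩ := InjHullLib.exists_isCompl_of_injective _ hN
  let e := Submodule.quotientEquivOfIsCompl _ C hC
  refine ⟨C.subtype ∘ₗ e.toLinearMap, fun z => ?_⟩
  exact (Submodule.mk_quotientEquivOfIsCompl_apply hC z)

omit hω hn [IsNoetherianRing A] in
/-- Cocycles of degree zero out of a module. -/
def cocy (N : Type u) [AddCommGroup N] [Module A N] : Submodule A (N →ₗ[A] M.W.X 0) :=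
  LinearMap.ker (LinearMap.compRight A (M := N) (M.W.d 0 (0 + 1)).hom)

omit hω hn [IsNoetherianRing A] [IsLocalRing A] in
theorem cocy_d {N : Type u} [AddCommGroup N] [Module A N] (f : cocy M N) :
    (M.W.d 0 (0 + 1)).hom ∘ₗ f.1 = 0 := f.2

section Psi

variable {N : Type u} [AddCommGroup N] [Module A N] (hN : Killed (A := A) N)

omit hω hn [IsNoetherianRing A] in
/-- The class in `H⁰` of the values of a cocycle. -/
def toH0 : cocy M N →ₗ[A] (N →ₗ[A] H0 M) where
  toFun f := Submodule.mkQ _ ∘ₗ LinearMap.codRestrict (cy M 0)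
    (LinearMap.codRestrict (G M 0) f.1 (apply_mem_G M hN f.1))
    (fun x => Subtype.ext (LinearMap.congr_fun (cocy_d M f) x))
  map_add' _ _ := LinearMap.ext fun _ => rfl
  map_smul' _ _ := LinearMap.ext fun _ => rfl

omit hω hn [IsNoetherianRing A] in
theorem toH0_apply (f : cocy M N) (x : N) : toH0 M hN f x =
    Submodule.Quotient.mk ⟨⟨f.1 x, apply_mem_G M hN f.1 x⟩, Subtype.ext (LinearMap.congr_fun (cocy_d M f) x)⟩ := rfl

omit hω hn [IsNoetherianRing A] in
variable (N) in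
/-- The class map. -/
def clLin : cocy M N →ₗ[A] (Dual.inD A N ⟶ ω⟦(0 : ℤ)⟧) where
  toFun f := cl M f.1 (cocy_d M f)
  map_add' f g := cl_add M f.1 g.1 (cocy_d M f) (cocy_d M g)
  map_smul' a f := cl_smul M a f.1 (cocy_d M f)

omit hω hn [IsNoetherianRing A] [IsLocalRing A] in
theorem clLin_surjective : Function.Surjective (clLin M N) := fun φ => by
  obtain ⟨f, hf, rfl⟩ := cl_surjective M φ
  exact ⟨⟨f, hf⟩, rfl⟩

omit hω hn [IsNoetherianRing A] in
include hN in
theorem ker_clLin_le : LinearMap.ker (clLin M N) ≤ LinearMap.ker (toH0 M hN) := fun f hf => by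
  obtain ⟨g, hg⟩ := (cl_eq_zero_iff M f.1 (cocy_d M f)).1 hf
  refine LinearMap.ext fun x => ?_
  rw [toH0_apply]
  exact (Submodule.Quotient.mk_eq_zero _).2 ⟨⟨g x, apply_mem_G M hN g x⟩, Subtype.ext (LinearMap.congr_fun hg x)⟩

omit hω hn [IsNoetherianRing A] in
/-- Morphisms into `ω` from a killed module as maps into `H⁰`. -/
def psi : (Dual.inD A N ⟶ ω⟦(0 : ℤ)⟧) →ₗ[A] (N →ₗ[A] H0 M) :=
  (LinearMap.ker (clLin M N)).liftQ (toH0 M hN) (ker_clLin_le M hN) ∘ₗ
    ((clLin M N).quotKerEquivOfSurjective (clLin_surjective M)).symm.toLinearMap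

omit hω hn [IsNoetherianRing A] in
theorem psi_cl (f : cocy M N) : psi M hN (clLin M N f) = toH0 M hN f := by
  show (LinearMap.ker (clLin M N)).liftQ (toH0 M hN) (ker_clLin_le M hN)
    (((clLin M N).quotKerEquivOfSurjective (clLin_surjective M)).symm (clLin M N f)) = _
  rw [show ((clLin M N).quotKerEquivOfSurjective (clLin_surjective M)).symm (clLin M N f) =
    Submodule.Quotient.mk f from (LinearEquiv.symm_apply_eq _).2 rfl]
  rfl

theorem psi_bijective : Function.Bijective (psi M hN) := by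
  refine ⟨(injective_iff_map_eq_zero _).2 fun φ h => ?_, fun u => ?_⟩
  · obtain ⟨f, rfl⟩ := clLin_surjective M φ
    rw [psi_cl] at h
    obtain ⟨s, hs⟩ := (bd_zero_split M hω hn).2
    have hb : ∀ x, (⟨f.1 x, apply_mem_G M hN f.1 x⟩ : G M 0) ∈ bd M 0 := fun x => by
      have := LinearMap.congr_fun h x
      rw [toH0_apply] at this
      have h2 := (Submodule.Quotient.mk_eq_zero _).1 this
      exact h2
    refine (cl_eq_zero_iff M f.1 (cocy_d M f)).2
      ⟨(G M (0 - 1)).subtype ∘ₗ s ∘ₗ LinearMap.codRestrict (bd M 0)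
        (LinearMap.codRestrict (G M 0) f.1 (apply_mem_G M hN f.1)) hb, LinearMap.ext fun x => ?_⟩
    exact congrArg Subtype.val (hs ⟨_, hb x⟩)
  · obtain ⟨s, hs⟩ := exists_section M hω hn
    let f : cocy M N := ⟨(G M 0).subtype ∘ₗ (cy M 0).subtype ∘ₗ s ∘ₗ u,
      LinearMap.ext fun x => congrArg Subtype.val (s (u x)).2⟩
    refine ⟨clLin M N f, ?_⟩
    rw [psi_cl]
    refine LinearMap.ext fun x => ?_
    rw [toH0_apply]
    exact hs (u x)

omit hω hn [IsNoetherianRing A] in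
theorem psi_natural {N' : Type u} [AddCommGroup N'] [Module A N'] (hN' : Killed (A := A) N') (ρ : N' →ₗ[A] N)
    (φ : Dual.inD A N ⟶ ω⟦(0 : ℤ)⟧) :
    psi M hN' ((DerivedCategory.singleFunctor (ModuleCat.{u} A) 0).map (ModuleCat.ofHom ρ) ≫ φ) =
      psi M hN φ ∘ₗ ρ := by
  obtain ⟨f, rfl⟩ := clLin_surjective M φ
  let f' : cocy M N' := ⟨f.1 ∘ₗ ρ, LinearMap.ext fun x => LinearMap.congr_fun (cocy_d M f) (ρ x)⟩
  have h : (DerivedCategory.singleFunctor (ModuleCat.{u} A) 0).map (ModuleCat.ofHom ρ) ≫ clLin M N f =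
      clLin M N' f' := by
    refine Eq.trans (Category.assoc _ _ _).symm (congrArg (· ≫ _) ?_)
    exact (el_precomp _ _ (ModuleCat.hom_ext (cocy_d M f))).symm
  rw [h, psi_cl, psi_cl]
  rfl

end Psi

theorem exists_extend_killed {N₁ N₂ : Type u} [AddCommGroup N₁] [Module A N₁] [AddCommGroup N₂] [Module A N₂]
    [Module.Finite A N₂] (hN₂ : Killed (A := A) N₂) (ι : N₁ →ₗ[A] N₂) (hι : Function.Injective ι)
    (u : N₁ →ₗ[A] H0 M) : ∃ v : N₂ →ₗ[A] H0 M, v ∘ₗ ι = u := by
  obtain ⟨k, hk⟩ := hN₂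
  have hN₁ : Killed (A := A) N₁ := ⟨k, fun a ha x => hι (by rw [map_smul, map_zero]; exact hk a ha _)⟩
  obtain ⟨φ, rfl⟩ := (psi_bijective M hω hn hN₁).2 u
  obtain ⟨f, rfl⟩ := clLin_surjective M φ
  obtain ⟨F, hF⟩ := exists_extend (M.inj 0) hι f.1
  let π := (LinearMap.range ι).mkQ
  have hπ : Function.Surjective π := Submodule.mkQ_surjective _
  obtain ⟨e, he⟩ := exists_desc hπ (LinearMap.exact_map_mkQ_range ι) ((M.W.d 0 (0 + 1)).hom ∘ₗ F)
    (by rw [LinearMap.comp_assoc, hF, cocy_d M f])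
  have hkill : Killed (A := A) (N₂ ⧸ LinearMap.range ι) := ⟨k, fun a ha x => by
    obtain ⟨x, rfl⟩ := Submodule.mkQ_surjective _ x
    rw [← map_smul, hk a ha x, map_zero]⟩
  obtain ⟨g, hg⟩ := van_killed M hω hn _ hkill (0 + 1) (by norm_num) e (comp_right_cancel hπ (by
    rw [LinearMap.comp_assoc, he, dd_comp, LinearMap.zero_comp]))
  let g' : N₂ ⧸ LinearMap.range ι →ₗ[A] M.W.X 0 := g
  have hg' : (M.W.d 0 (0 + 1)).hom ∘ₗ g' = e := hg
  let F' : cocy M N₂ := ⟨F - g' ∘ₗ π, by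
    show (M.W.d 0 (0 + 1)).hom ∘ₗ (F - g' ∘ₗ π) = 0
    rw [LinearMap.comp_sub, ← LinearMap.comp_assoc, hg', he, sub_self]⟩
  refine ⟨toH0 M ⟨k, hk⟩ F', ?_⟩
  rw [psi_cl]
  refine LinearMap.ext fun x => ?_
  rw [LinearMap.comp_apply, toH0_apply, toH0_apply]
  refine congrArg Submodule.Quotient.mk (Subtype.ext (Subtype.ext ?_))
  show F (ι x) - g' (π (ι x)) = f.1 x
  rw [show π (ι x) = 0 from (Submodule.Quotient.mk_eq_zero _).2 ⟨x, rfl⟩, map_zero, sub_zero]
  exact LinearMap.congr_fun hF x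

omit hω hn [IsNoetherianRing A] in
theorem isPowerTorsion_H0 : LocCoh.IsPowerTorsion (IsLocalRing.maximalIdeal A) (H0 M) := fun z => by
  obtain ⟨⟨⟨x, hx⟩, hd⟩, rfl⟩ := Submodule.Quotient.mk_surjective _ z
  obtain ⟨k, hk⟩ := (mem_G M).1 hx
  refine ⟨k, fun a ha => ?_⟩
  rw [← Submodule.Quotient.mk_smul]
  exact (congrArg Submodule.Quotient.mk (Subtype.ext (Subtype.ext (hk a ha)))).trans (Submodule.Quotient.mk_zero _)

theorem injective_H0 : Module.Injective A (H0 M) := by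
  classical
  refine Module.Baer.iff_injective.1 fun J u => ?_
  let m := IsLocalRing.maximalIdeal A
  obtain ⟨c, hc⟩ : ∃ c : ℕ, ∀ a ∈ m ^ c, ∀ x : J, a • u x = 0 := by
    obtain ⟨n, v, hv⟩ := Module.Finite.exists_fin (R := A) (M := J)
    choose k hk using fun l => isPowerTorsion_H0 M (u (v l))
    refine ⟨∑ l, k l, fun a ha x => ?_⟩
    have hx : x ∈ Submodule.span A (Set.range v) := hv ▸ Submodule.mem_top
    induction hx using Submodule.span_induction with
    | mem y hy =>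
      obtain ⟨l, rfl⟩ := hy
      exact hk l a (Ideal.pow_le_pow_right (Finset.single_le_sum (fun _ _ => Nat.zero_le _) (Finset.mem_univ l)) ha)
    | zero => rw [map_zero, smul_zero]
    | add p q _ _ hp hq => rw [map_add, smul_add, hp, hq, add_zero]
    | smul r p _ hp => rw [map_smul, smul_comm, hp, smul_zero]
  obtain ⟨k, hk⟩ := Ideal.exists_pow_inf_eq_pow_smul m (J : Submodule A A)
  have hle : ∀ x : J, x.1 ∈ m ^ (c + k) → u x = 0 := fun x hx => by
    have hx' : x.1 ∈ m ^ (c + k - k) • (m ^ k • (⊤ : Submodule A A) ⊓ J) := by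
      rw [← hk (c + k) (by omega)]
      exact ⟨by simpa [Ideal.mul_top] using hx, x.2⟩
    rw [Nat.add_sub_cancel] at hx'
    have key : ∀ y ∈ m ^ c • (J : Submodule A A), ∃ hy : y ∈ J, u ⟨y, hy⟩ = 0 := fun y hy =>
      Submodule.smul_induction_on hy
        (fun a ha z hz => ⟨Submodule.smul_mem _ a hz, (map_smul u a ⟨z, hz⟩).trans (hc a ha _)⟩)
        (fun p q ⟨hp, hp'⟩ ⟨hq, hq'⟩ => ⟨Submodule.add_mem _ hp hq,
          (map_add u ⟨p, hp⟩ ⟨q, hq⟩).trans (by rw [hp', hq', add_zero])⟩)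
    exact (key x.1 (Submodule.smul_mono le_rfl inf_le_right hx')).2
  let π : A →ₗ[A] A ⧸ m ^ (c + k) := Submodule.mkQ _
  let ρ := (π ∘ₗ (J : Submodule A A).subtype).rangeRestrict
  have hρ : Function.Surjective ρ := LinearMap.surjective_rangeRestrict _
  obtain ⟨u', hu'⟩ := exists_desc hρ (LinearMap.exact_subtype_ker_map ρ) u (LinearMap.ext fun x => hle x.1 (by
    have hx : π (x.1.1) = 0 := congrArg Subtype.val x.2
    exact (Submodule.Quotient.mk_eq_zero _).1 hx))
  obtain ⟨v, hv⟩ := exists_extend_killed M hω hn (killed_quotient_pow (c + k))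
    (LinearMap.range (π ∘ₗ (J : Submodule A A).subtype)).subtype (Submodule.injective_subtype _) u'
  exact ⟨v ∘ₗ π, fun x hx => (LinearMap.congr_fun hv (ρ ⟨x, hx⟩)).trans (LinearMap.congr_fun hu' ⟨x, hx⟩)⟩

theorem residue_hom_equiv :
    Nonempty ((Dual.inD A (IsLocalRing.ResidueField A) ⟶ ω⟦(0 : ℤ)⟧) ≃ₗ[A] IsLocalRing.ResidueField A) := by
  obtain ⟨n, hvan, ⟨e⟩⟩ := ext_residue hω (IsLocalRing.maximalIdeal A)
  obtain rfl : n = 0 := by
    by_contra h
    have hs : Subsingleton (Dual.inD A (A ⧸ IsLocalRing.maximalIdeal A) ⟶ ω⟦n⟧) := hn n h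
    have : Subsingleton (A ⧸ IsLocalRing.maximalIdeal A) := e.symm.toEquiv.subsingleton
    have := Ideal.Quotient.nontrivial_iff.2 (IsLocalRing.maximalIdeal.isMaximal A).ne_top
    exact not_subsingleton (A ⧸ IsLocalRing.maximalIdeal A) ‹_›
  exact ⟨e⟩

theorem exists_hull_H0 : ∃ g : IsLocalRing.ResidueField A →ₗ[A] H0 M, InjHull.IsInjectiveHull g := by
  obtain ⟨e⟩ := residue_hom_equiv hω hn
  let l : Submodule.torsionBySet A (H0 M) (IsLocalRing.maximalIdeal A : Set A) ≃ₗ[A] IsLocalRing.ResidueField A :=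
    (InjHullLib.homQuotientEquiv (IsLocalRing.maximalIdeal A) (H0 M)).symm ≪≫ₗ
      (LinearEquiv.ofBijective (psi M (killed_residue (A := A)))
        (psi_bijective M hω hn (killed_residue (A := A)))).symm ≪≫ₗ e
  have : IsSimpleModule A (IsLocalRing.ResidueField A) :=
    isSimpleModule_iff_quot_maximal.2 ⟨_, IsLocalRing.maximalIdeal.isMaximal A, ⟨LinearEquiv.refl A _⟩⟩
  obtain ⟨g, hg, hsoc⟩ := InjHullLib.exists_residueMap_of_length_one (T := H0 M)
    (l.length_eq.trans (Module.length_eq_one A _))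
  exact ⟨g, InjHullLib.isInjectiveHull_of_socle (injective_H0 M hω hn) (isPowerTorsion_H0 M) g hg hsoc⟩

theorem equiv_hull {E : Type u} [AddCommGroup E] [Module A E] {f : IsLocalRing.ResidueField A →ₗ[A] E}
    (hf : InjHull.IsInjectiveHull f) : Nonempty (H0 M ≃ₗ[A] E) := by
  obtain ⟨g, hg⟩ := exists_hull_H0 M hω hn
  obtain ⟨e, -⟩ := InjHullLib.injectiveHull_unique hg hf
  exact ⟨e⟩

end Groth.Agent.Dlz27
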