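import Groth.Agent.Lib.Dlz27.Res
import Groth.Agent.Lib.InjHull.Change
import Groth.Agent.Lib.RGamma27.FlatBC
import Mathlib.Algebra.Category.ModuleCat.Localization
import Mathlib.Algebra.Module.FinitePresentation
import Mathlib.RingTheory.Localization.BaseChange
import Mathlib.Data.Int.Interval

/-!
# Localization of complexes of modules
-/

set_option autoImplicit false
universe u

open CategoryTheory CategoryTheory.Limits CochainComplex.HomComplex

attribute [local instance] HasDerivedCategory.standard

noncomputable section

namespace Groth.Agent.Dlz27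

variable {A : Type u} [CommRing A] (S : Submonoid A)

/-- Localization of modules. -/
abbrev locF : ModuleCat.{u} A ⥤ ModuleCat.{u} (Localization S) := ModuleCat.localizedModuleFunctor S

/-- Localization of complexes. -/
abbrev locCx (W : DRing.Cx A) : DRing.Cx (Localization S) := ((locF S).mapHomologicalComplex (ComplexShape.up ℤ)).obj W

theorem locF_map_mk {M N : ModuleCat.{u} A} (f : M ⟶ N) (x : M) :
    (locF S).map f (M.localizedModuleMkLinearMap S x) = N.localizedModuleMkLinearMap S (f x) :=
  IsLocalizedModule.map_apply S (M.localizedModuleMkLinearMap S) (N.localizedModuleMkLinearMap S) f.hom x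

theorem smul_locF_map {M N : ModuleCat.{u} A} (a : A) (f : M ⟶ N) :
    (locF S).map (a • f) = algebraMap A (Localization S) a • (locF S).map f := by
  apply ModuleCat.hom_ext
  show IsLocalizedModule.mapExtendScalars S (M.localizedModuleMkLinearMap S) (N.localizedModuleMkLinearMap S)
    (Localization S) (a • f.hom) = algebraMap A (Localization S) a • IsLocalizedModule.mapExtendScalars S
      (M.localizedModuleMkLinearMap S) (N.localizedModuleMkLinearMap S) (Localization S) f.hom
  rw [map_smul, algebraMap_smul]

theorem injective_locF [IsNoetherianRing A] {E : ModuleCat.{u} A} (hE : Injective E) :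
    Injective ((locF S).obj E) := by
  have h := InjHullLib.injective_localization ((Module.injective_iff_injective_object A E).2 hE) S
  have : Injective (ModuleCat.of (Localization S) (LocalizedModule S E)) :=
    (Module.injective_iff_injective_object _ _).1 h
  exact Injective.of_iso (Shrink.linearEquiv (Localization S) (LocalizedModule S E)).symm.toModuleIso this

/-- The comparison with extension of scalars. -/
def extToLoc (M : ModuleCat.{u} A) :
    (ModuleCat.extendScalars.{u, u, u} (algebraMap A (Localization S))).obj M ⟶ M.localizedModule S :=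
  ((ModuleCat.extendRestrictScalarsAdj (algebraMap A (Localization S))).homEquiv M (M.localizedModule S)).symm
    (ModuleCat.ofHom (Y := (ModuleCat.restrictScalars (algebraMap A (Localization S))).obj (M.localizedModule S))
      { toFun := fun x => M.localizedModuleMkLinearMap S x
        map_add' := fun x y => map_add _ x y
        map_smul' := fun a x => (map_smul (M.localizedModuleMkLinearMap S) a x).trans
          (algebraMap_smul (Localization S) a (M.localizedModuleMkLinearMap S x)).symm })

theorem extToLoc_tmul (M : ModuleCat.{u} A) (b : Localization S) (x : M) :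
    extToLoc S M (TensorProduct.tmul A (show (ModuleCat.restrictScalars (algebraMap A (Localization S))).obj
      (ModuleCat.of (Localization S) (Localization S)) from b) x) = b • M.localizedModuleMkLinearMap S x := rfl

theorem extToLoc_bijective (M : ModuleCat.{u} A) : Function.Bijective (extToLoc S M) := by
  let g : (ModuleCat.restrictScalars (algebraMap A (Localization S))).obj
      (ModuleCat.of (Localization S) (Localization S)) ≃ₗ[A] Localization S :=
    { AddEquiv.refl (Localization S) with
      map_smul' := fun a x => (@Algebra.smul_def A (Localization S) _ _ _ a x).symm }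
  let c := TensorProduct.congr g (LinearEquiv.refl A M)
  let e := (IsLocalizedModule.isBaseChange S (Localization S) (M.localizedModuleMkLinearMap S)).equiv
  have h : ∀ z, extToLoc S M z = e (c z) := by
    intro z
    induction z using TensorProduct.induction_on with
    | zero => exact (map_zero (extToLoc S M).hom).trans (by rw [map_zero, map_zero])
    | tmul b x =>
      exact (extToLoc_tmul S M b x).trans (IsBaseChange.equiv_tmul _ _ _).symm
    | add x y hx hy =>
      exact ((map_add (extToLoc S M).hom x y).trans (congrArg₂ (· + ·) hx hy)).trans (by rw [map_add, map_add])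
  have : ⇑(extToLoc S M).hom = e ∘ c := funext h
  show Function.Bijective (extToLoc S M).hom
  rw [this]
  exact e.bijective.comp c.bijective

/-- Extension of scalars to a localization is localization. -/
def extLocIso : ModuleCat.extendScalars.{u, u, u} (algebraMap A (Localization S)) ≅ locF S :=
  NatIso.ofComponents (fun M => @asIso _ _ _ _ (extToLoc S M)
    ((ConcreteCategory.isIso_iff_bijective _).2 (extToLoc_bijective S M))) fun {M N} f => by
    refine ModuleCat.ExtendScalars.hom_ext fun x => ?_
    show extToLoc S N (TensorProduct.tmul A (1 : Localization S) (f x)) =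
      (locF S).map f (extToLoc S M (TensorProduct.tmul A (1 : Localization S) x))
    rw [extToLoc_tmul, extToLoc_tmul, one_smul, one_smul, locF_map_mk]

theorem exists_LBaseChange_iso [IsNoetherianRing A] [DRing.HasLBaseChange (algebraMap A (Localization S))]
    (W : DRing.Cx A) :
    Nonempty ((DRing.LBaseChange (algebraMap A (Localization S))).obj (DerivedCategory.Q.obj W) ≅
      DerivedCategory.Q.obj (locCx S W)) := by
  have hflat : (algebraMap A (Localization S)).Flat :=
    RingHom.flat_algebraMap_iff.2 (IsLocalization.flat (Localization S) S)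
  haveI := RGamma27.isIso_valueMap_of_flat (algebraMap A (Localization S)) hflat W
  exact ⟨asIso ((DBaseChange.valueMap (algebraMap A (Localization S))).app W) ≪≫
    DerivedCategory.Q.mapIso ((NatIso.mapHomologicalComplex (extLocIso S) (ComplexShape.up ℤ)).app W)⟩

variable {P W : DRing.Cx A}

theorem exists_lift_component (hP : ∀ i, Module.Finite A (P.X i) ∧ Module.Free A (P.X i)) (p q : ℤ)
    (f : (locF S).obj (P.X p) ⟶ (locF S).obj (W.X q)) :
    ∃ (s : S) (g : P.X p ⟶ W.X q), algebraMap A (Localization S) s • f = (locF S).map g := by
  have := (hP p).1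
  have := (hP p).2
  haveI : Module.FinitePresentation A (P.X p) := Module.finitePresentation_of_projective A _
  haveI := Module.FinitePresentation.isLocalizedModule_mapExtendScalars S
    ((P.X p).localizedModuleMkLinearMap S) ((W.X q).localizedModuleMkLinearMap S) (Localization S)
  obtain ⟨⟨g, s⟩, hs⟩ := IsLocalizedModule.surj S
    (IsLocalizedModule.mapExtendScalars S ((P.X p).localizedModuleMkLinearMap S)
      ((W.X q).localizedModuleMkLinearMap S) (Localization S)) f.hom
  refine ⟨s, ModuleCat.ofHom g, ModuleCat.hom_ext ?_⟩
  have key : ∀ f' : (P.X p).localizedModule S →ₗ[Localization S] (W.X q).localizedModule S,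
      algebraMap A (Localization S) (s : A) • f' = (s : A) • f' := fun f' => algebraMap_smul _ _ _
  exact (key f.hom).trans hs

theorem exists_kill_component (hP : ∀ i, Module.Finite A (P.X i) ∧ Module.Free A (P.X i)) (p q : ℤ)
    (g : P.X p ⟶ W.X q) (h : (locF S).map g = 0) : ∃ s : S, (s : A) • g = 0 := by
  have := (hP p).1
  have := (hP p).2
  haveI : Module.FinitePresentation A (P.X p) := Module.finitePresentation_of_projective A _
  haveI := Module.FinitePresentation.isLocalizedModule_mapExtendScalars S
    ((P.X p).localizedModuleMkLinearMap S) ((W.X q).localizedModuleMkLinearMap S) (Localization S)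
  have h' : IsLocalizedModule.mapExtendScalars S ((P.X p).localizedModuleMkLinearMap S)
      ((W.X q).localizedModuleMkLinearMap S) (Localization S) g.hom = 0 := congrArg ModuleCat.Hom.hom h
  obtain ⟨s, hs⟩ := (IsLocalizedModule.eq_zero_iff S _).1 h'
  exact ⟨s, ModuleCat.hom_ext hs⟩

theorem map_smul_cochain {n : ℤ} (a : A) (c : Cochain P W n) :
    (a • c).map (locF S) = algebraMap A (Localization S) a • c.map (locF S) := by
  ext p q hpq : 1
  exact smul_locF_map S a (c.v p q hpq)

variable (a₀ b₀ : ℤ) [W.IsStrictlyGE a₀] [W.IsStrictlyLE b₀]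

include a₀ b₀ in
theorem exists_lift_cochain (hP : ∀ i, Module.Finite A (P.X i) ∧ Module.Free A (P.X i)) {n : ℤ}
    (z : Cochain (locCx S P) (locCx S W) n) :
    ∃ (s : S) (c : Cochain P W n), algebraMap A (Localization S) s • z = c.map (locF S) := by
  classical
  choose s g hg using fun q : ℤ => exists_lift_component S hP (W := W) (q - n) q (z.v (q - n) q (by omega))
  let tot : S := ∏ q ∈ Finset.Icc a₀ b₀, s q
  let rest : ℤ → S := fun q => ∏ q' ∈ (Finset.Icc a₀ b₀).erase q, s q'
  refine ⟨tot, Cochain.mk fun p q hpq => if h : q ∈ Finset.Icc a₀ b₀ then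
    (rest q : A) • (eqToHom (by rw [show q - n = p by omega]) ≫ g q) else 0, ?_⟩
  ext p q hpq : 1
  obtain rfl : p = q - n := by omega
  rw [Cochain.map_v, Cochain.mk_v, Cochain.smul_v]
  by_cases h : q ∈ Finset.Icc a₀ b₀
  · rw [dif_pos h, smul_locF_map, eqToHom_refl, Category.id_comp, ← hg q, smul_smul, ← map_mul, ← Submonoid.coe_mul]
    congr 3
    exact (Finset.prod_erase_mul _ s h).symm
  · have hz : IsZero ((locF S).obj (W.X q)) := Functor.map_isZero _ (by
      rcases lt_or_ge q a₀ with h' | h'
      · exact W.isZero_of_isStrictlyGE a₀ q h'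
      · exact W.isZero_of_isStrictlyLE b₀ q (by simp at h; omega))
    exact hz.eq_of_tgt _ _

include a₀ b₀ in
theorem exists_kill_cochain (hP : ∀ i, Module.Finite A (P.X i) ∧ Module.Free A (P.X i)) {n : ℤ}
    (c : Cochain P W n) (h : c.map (locF S) = 0) : ∃ s : S, (s : A) • c = 0 := by
  classical
  choose s hs using fun q : ℤ => exists_kill_component S hP (q - n) q (c.v (q - n) q (by omega)) (by
    have h1 := congrArg (fun z : Cochain (locCx S P) (locCx S W) n => z.v (q - n) q (by omega)) h
    exact h1)
  refine ⟨∏ q ∈ Finset.Icc a₀ b₀, s q, Cochain.ext _ _ fun p q hpq => ?_⟩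
  obtain rfl : p = q - n := by omega
  rw [Cochain.smul_v, Cochain.zero_v]
  by_cases h' : q ∈ Finset.Icc a₀ b₀
  · rw [← Finset.prod_erase_mul _ s h', Submonoid.coe_mul, mul_smul, hs q, smul_zero]
  · refine IsZero.eq_of_tgt ?_ _ _
    rcases lt_or_ge q a₀ with h'' | h''
    · exact W.isZero_of_isStrictlyGE a₀ q h''
    · exact W.isZero_of_isStrictlyLE b₀ q (by simp at h'; omega)

include a₀ b₀ in
/-- Cocycles between localized complexes come from cocycles. -/
theorem exists_lift_cocycle (hP : ∀ i, Module.Finite A (P.X i) ∧ Module.Free A (P.X i)) {n : ℤ}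
    (z : Cochain (locCx S P) (locCx S W) n) (hz : δ n (n + 1) z = 0) :
    ∃ (s : S) (c : Cochain P W n), δ n (n + 1) c = 0 ∧ algebraMap A (Localization S) s • z = c.map (locF S) := by
  obtain ⟨s, c, hc⟩ := exists_lift_cochain S a₀ b₀ hP z
  have h0 : (δ n (n + 1) c).map (locF S) = 0 := by
    rw [← δ_map, ← hc, δ_smul, hz, smul_zero]
  obtain ⟨t, ht⟩ := exists_kill_cochain S a₀ b₀ hP _ h0
  refine ⟨t * s, (t : A) • c, by rw [δ_smul, ht], ?_⟩
  rw [map_smul_cochain, ← hc, Submonoid.coe_mul, map_mul, mul_smul]

end Groth.Agent.Dlz27
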