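import Groth.Agent.Lib.Dlz27.Pairing
import Groth.Agent.Lib.LocCoh.Dim
import Groth.Agent.Lib.LocCoh.Torsion

/-!
# Local duality for finite modules
-/

set_option autoImplicit false
universe u

open CategoryTheory CategoryTheory.Limits CategoryTheory.Pretriangulated Pointwise

attribute [local instance] HasDerivedCategory.standard

noncomputable section

namespace Groth.Agent.Dlz27

open Groth.Agent.LocCohLib

theorem exists_factor {A : Type u} [CommRing A] {J Q R : Type*} [AddCommGroup J] [Module A J]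
    [AddCommGroup Q] [Module A Q] [AddCommGroup R] [Module A R] (hJ : Module.Baer A J)
    (v : Q →ₗ[A] R) (t : Q →ₗ[A] J) (h : LinearMap.ker v ≤ LinearMap.ker t) : ∃ t', t' ∘ₗ v = t := by
  obtain ⟨g, hg⟩ := Module.Baer.extension_property hJ ((LinearMap.ker v).liftQ v le_rfl)
    (LinearMap.ker_eq_bot.1 (Submodule.ker_liftQ_eq_bot _ _ _ le_rfl)) ((LinearMap.ker v).liftQ t h)
  exact ⟨g, LinearMap.ext fun x => LinearMap.congr_fun hg (Submodule.Quotient.mk x)⟩

variable {A : Type u} [CommRing A]

theorem pre_preδ (ω : Dual.D A) {S : ShortComplex (ModuleCat.{u} A)} (hS : S.ShortExact) (j j' : ℤ)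
    (h : j + 1 = j') (ψ : ShiftedHom (sgl.obj S.X₁) ω j) : pre ω S.g j' (preδ ω hS j j' h ψ) = 0 := by
  show sgl.map S.g ≫ hS.singleδ ≫ _ = 0
  rw [← Category.assoc]
  have h0 : sgl.map S.g ≫ hS.singleδ = 0 := comp_distTriang_mor_zero₂₃ _ hS.singleTriangle_distinguished
  rw [h0, zero_comp]

theorem cl_sum {ω : Dual.D A} (M : Model ω) {N : Type u} [AddCommGroup N] [Module A N] {j : ℤ} {ι : Type}
    (s : Finset ι) (c : ι → A) (f : ι → (N →ₗ[A] M.W.X j)) (hf : ∀ l, (M.W.d j (j + 1)).hom ∘ₗ f l = 0) :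
    ∃ h, cl M (∑ l ∈ s, c l • f l) h = ∑ l ∈ s, c l • cl M (f l) (hf l) := by
  classical
  induction s using Finset.induction with
  | empty =>
    refine ⟨by simp, (cl_eq_zero_iff M _ _).2 ⟨0, by simp⟩⟩
  | insert a t ha ih =>
    obtain ⟨h, ih⟩ := ih
    refine ⟨by rw [Finset.sum_insert ha, LinearMap.comp_add, LinearMap.comp_smul, hf, smul_zero, zero_add, h], ?_⟩
    rw [cl_congr M (Finset.sum_insert ha), cl_add M _ _ (by rw [LinearMap.comp_smul, hf, smul_zero]) h,
      cl_smul M (c a) (f a) (hf a), ih, Finset.sum_insert ha]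

variable [IsLocalRing A] [IsNoetherianRing A] {ω : Dual.D A} (M : Model ω)
  (hω : Dual.IsDualizing A ω) (hn : Dual.IsNormalized A ω)

include M hω in
theorem finite_hom (N : Type u) [AddCommGroup N] [Module A N] [Module.Finite A N] (j : ℤ) :
    Module.Finite A (Dual.inD A N ⟶ ω⟦j⟧) := by
  obtain ⟨r, fl, hfl, hfs⟩ := finV M.inj M.lo (finite_homology hω M) N j
  refine Module.Finite.of_surjective (Fintype.linearCombination A fun l => cl M (fl l) (hfl l)) fun φ => ?_
  obtain ⟨f, hf, rfl⟩ := cl_surjective M φ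
  obtain ⟨c, g, hcg⟩ := hfs f hf
  refine ⟨c, ?_⟩
  rw [Fintype.linearCombination_apply]
  obtain ⟨h, hsum⟩ := cl_sum M Finset.univ c fl hfl
  rw [← hsum]
  refine (cl_eq_iff M _ _ h hf).2 ⟨-g, ?_⟩
  simp [hcg]

/-- The pairing is bijective in all degrees. -/
def Bij (N : ModuleCat.{u} A) : Prop := ∀ i, Function.Bijective (phi M N i)

omit [IsNoetherianRing A] in
theorem bij_of_iso {N N' : ModuleCat.{u} A} (e : N ≅ N') (h : Bij M N) : Bij M N' := fun i => by
  have h1 : ∀ x, phi M N' i x = phi M N i ((localCohomology mA i).map e.inv x) ∘ₗ pre ω e.hom (-(i : ℤ)) := fun x => by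
    rw [← phi_map]
    refine congrArg (phi M N' i) ?_
    exact (LinearMap.congr_fun (congrArg ModuleCat.Hom.hom ((localCohomology mA i).mapIso e).inv_hom_id) x).symm
  have hp : ∀ ψ : ShiftedHom (sgl.obj N) ω (-(i : ℤ)), pre ω e.hom (-(i : ℤ)) (pre ω e.inv (-(i : ℤ)) ψ) = ψ := fun ψ => by
    show sgl.map e.hom ≫ sgl.map e.inv ≫ ψ = ψ
    rw [← Category.assoc, ← Functor.map_comp, e.hom_inv_id]
    simp
  constructor
  · intro x y hxy
    rw [h1, h1] at hxy
    have : phi M N i ((localCohomology mA i).map e.inv x) = phi M N i ((localCohomology mA i).map e.inv y) :=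
      LinearMap.ext fun ψ => by
        have := LinearMap.congr_fun hxy (pre ω e.inv _ ψ)
        rwa [LinearMap.comp_apply, LinearMap.comp_apply, hp] at this
    exact ((localCohomology mA i).mapIso e.symm).toLinearEquiv.injective ((h i).1 this)
  · intro t
    obtain ⟨x, hx⟩ := (h i).2 (t ∘ₗ pre ω e.inv (-(i : ℤ)))
    refine ⟨(localCohomology mA i).map e.hom x, ?_⟩
    rw [phi_map, hx]
    refine LinearMap.ext fun ψ => congrArg t ?_
    show sgl.map e.inv ≫ sgl.map e.hom ≫ ψ = ψ
    rw [← Category.assoc, ← Functor.map_comp, e.inv_hom_id]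
    simp

include M hω hn

theorem baer_H0 : Module.Baer A (H0 M) := Module.Baer.iff_injective.2 (injective_H0 M hω hn)

theorem pre_f_zero_surjective {S : ShortComplex (ModuleCat.{u} A)} (hS : S.ShortExact) [Module.Finite A S.X₃] :
    Function.Surjective (pre ω S.f (-((0 : ℕ) : ℤ))) := fun ψ => by
  refine exists_pre_f ω hS _ 1 (by simp) ψ ?_
  have : Subsingleton (Dual.inD A S.X₃ ⟶ ω⟦(1 : ℤ)⟧) :=
    (subsingleton_hom_iff_vanS M S.X₃ 1).2 (vanS_high hω M (clPt A) 1 _ (by rw [deg_closedPoint hω M hn]; norm_num))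
  exact @Subsingleton.elim (Dual.inD A S.X₃ ⟶ ω⟦(1 : ℤ)⟧) this _ _

/-- Four lemma. -/
theorem bij_mid {S : ShortComplex (ModuleCat.{u} A)} (hS : S.ShortExact) [Module.Finite A S.X₃]
    (h1 : Bij M S.X₁) (h3 : Bij M S.X₃) : Bij M S.X₂ := fun i => by
  have hJ := baer_H0 M hω hn
  constructor
  · rw [injective_iff_map_eq_zero]
    intro a ha
    have hga : ((localCohomology mA i).map S.g).hom a = 0 := (h3 i).1 (by rw [phi_map, ha]; simp)
    obtain ⟨c, rfl⟩ := (exact_map_map mA i hS a).1 hga
    rw [phi_map] at ha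
    cases i with
    | zero =>
      have hc : c = 0 := (h1 0).1 (by
        rw [map_zero]
        refine LinearMap.ext fun ψ => ?_
        obtain ⟨χ, rfl⟩ := pre_f_zero_surjective M hω hn hS ψ
        exact LinearMap.congr_fun ha χ)
      rw [hc, map_zero]
    | succ i =>
      obtain ⟨t', ht'⟩ := exists_factor hJ (preδ ω hS (-((i + 1 : ℕ) : ℤ)) (-(i : ℤ)) (by omega))
        (phi M S.X₁ (i + 1) c) (fun ψ hψ => by
          obtain ⟨χ, rfl⟩ := exists_pre_f ω hS _ _ _ ψ hψ
          exact LinearMap.congr_fun ha χ)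
      obtain ⟨b, rfl⟩ := (h3 i).2 t'
      have hc : c = δ mA i hS b := (h1 (i + 1)).1 (by rw [phi_δ, ht'])
      exact (exact_δ_map mA i hS c).2 ⟨b, hc.symm⟩
  · intro t
    obtain ⟨b, hb⟩ := (h3 i).2 (t ∘ₗ pre ω S.g (-(i : ℤ)))
    have hδ : δ mA i hS b = 0 := (h1 (i + 1)).1 (by
      rw [phi_δ, hb, map_zero]
      exact LinearMap.ext fun ψ => by
        rw [LinearMap.comp_apply, LinearMap.comp_apply, pre_preδ, map_zero]; rfl)
    obtain ⟨a, rfl⟩ := (exact_map_δ mA i hS b).1 hδ
    rw [phi_map] at hb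
    obtain ⟨t', ht'⟩ := exists_factor hJ (pre ω S.f (-(i : ℤ))) (t - phi M S.X₂ i a) (fun ψ hψ => by
      obtain ⟨χ, rfl⟩ := exists_pre_g ω hS _ ψ hψ
      rw [LinearMap.mem_ker, LinearMap.sub_apply, sub_eq_zero]
      exact (LinearMap.congr_fun hb χ).symm)
    obtain ⟨c, rfl⟩ := (h1 i).2 t'
    exact ⟨a + ((localCohomology mA i).map S.f).hom c, by rw [map_add, phi_map, ht', add_sub_cancel]⟩

theorem T_torsion (N : ModuleCat.{u} A) [Module.Finite A N] (i : ℕ) (t : T M N i) :
    ∃ k : ℕ, ∀ a ∈ mA (A := A) ^ k, a • t = 0 := by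
  have := finite_hom M hω N (-(i : ℤ))
  obtain ⟨n, v, hv⟩ := Module.Finite.exists_fin (R := A) (M := Dual.inD A N ⟶ ω⟦(-(i : ℤ))⟧)
  choose k hk using fun l => isPowerTorsion_H0 M (t (v l))
  refine ⟨∑ l, k l, fun a ha => LinearMap.ext_on hv ?_⟩
  rintro _ ⟨l, rfl⟩
  exact hk l a (Ideal.pow_le_pow_right (Finset.single_le_sum (fun _ _ => Nat.zero_le _) (Finset.mem_univ l)) ha)

/-- The case of a regular element. -/
theorem bij_of_regular {N P : ModuleCat.{u} A} [Module.Finite A N] [Module.Finite A P] (x : A)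
    (hx : x ∈ mA (A := A)) (g : N ⟶ P) (w : (x • 𝟙 N) ≫ g = 0) (hS : (ShortComplex.mk (x • 𝟙 N) g w).ShortExact)
    (h3 : Bij M P) : Bij M N := by
  have hJ := baer_H0 M hω hn
  let S := ShortComplex.mk (x • 𝟙 N) g w
  haveI : Module.Finite A S.X₃ := ‹Module.Finite A P›
  have hmap : ∀ i (a : (localCohomology (mA (A := A)) i).obj N), ((localCohomology mA i).map S.f).hom a = x • a := by
    intro i a
    obtain ⟨k, y, rfl⟩ := exists_ι mA i N a
    rw [map_ι, ← map_smul]
    refine congrArg (ι mA i N k) ?_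
    show y.comp (Abelian.Ext.mk₀ (x • 𝟙 N)) (add_zero i) = _
    rw [Abelian.Ext.mk₀_smul, Abelian.Ext.comp_smul, Abelian.Ext.comp_mk₀_id]
  have hpre : ∀ j (ψ : ShiftedHom (sgl.obj N) ω j), pre ω S.f j ψ = x • ψ := fun j ψ => by
    show sgl.map (x • 𝟙 N) ≫ ψ = x • ψ
    rw [Functor.map_smul, CategoryTheory.Functor.map_id, Linear.smul_comp, Category.id_comp]
  have hsurj : ∀ i, Function.Surjective (phi M N i) := by
    intro i
    suffices key : ∀ (k : ℕ) (t : T M N i), x ^ k • t = 0 → ∃ a, phi M N i a = t by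
      intro t
      obtain ⟨k, hk⟩ := T_torsion M hω hn N i t
      exact key k t (hk _ (Ideal.pow_mem_pow hx k))
    intro k
    induction k with
    | zero => exact fun t ht => ⟨0, by rw [map_zero]; simpa using ht.symm⟩
    | succ k ih =>
      intro t ht
      obtain ⟨a, ha⟩ := ih (x • t) (by rw [smul_smul, ← pow_succ]; exact ht)
      have hga : ((localCohomology mA i).map S.g).hom a = 0 := (h3 i).1 (by
        rw [phi_map, ha, map_zero]
        refine LinearMap.ext fun ψ => ?_
        show x • t (pre ω S.g _ ψ) = 0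
        rw [← map_smul, ← hpre, pre_pre, map_zero])
      obtain ⟨a', rfl⟩ := (exact_map_map mA i hS a).1 hga
      rw [hmap, map_smul] at ha
      have h0 : ∀ ψ, (t - phi M N i a') (pre ω S.f (-(i : ℤ)) ψ) = 0 := fun ψ => by
        rw [hpre, map_smul, ← LinearMap.smul_apply, smul_sub, ha, sub_self, LinearMap.zero_apply]
      cases i with
      | zero =>
        refine ⟨a', (sub_eq_zero.1 (LinearMap.ext fun ψ => ?_)).symm⟩
        obtain ⟨χ, rfl⟩ := pre_f_zero_surjective M hω hn hS ψ
        exact h0 χ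
      | succ i =>
        obtain ⟨t', ht'⟩ := exists_factor hJ (preδ ω hS (-((i + 1 : ℕ) : ℤ)) (-(i : ℤ)) (by omega))
          (t - phi M N (i + 1) a') (fun ψ hψ => by
            obtain ⟨χ, rfl⟩ := exists_pre_f ω hS _ _ _ ψ hψ
            exact h0 χ)
        obtain ⟨b, rfl⟩ := (h3 i).2 t'
        refine ⟨a' + δ mA i hS b, ?_⟩
        rw [map_add]
        exact (congrArg (phi M N (i + 1) a' + ·) ((phi_δ M i hS b).trans ht')).trans (add_sub_cancel _ _)
  refine fun i => ⟨?_, hsurj i⟩
  rw [injective_iff_map_eq_zero]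
  suffices key : ∀ a, phi M N i a = 0 → x • a = 0 → a = 0 by
    intro a ha
    obtain ⟨k, hk⟩ := LocCohLib.isPowerTorsion mA i N a
    have hxk : x ^ k • a = 0 := hk _ (Ideal.pow_mem_pow hx k)
    clear hk
    induction k with
    | zero => simpa using hxk
    | succ k ih =>
      refine ih (key _ (by rw [map_smul, ha, smul_zero]) ?_)
      rw [smul_smul, ← pow_succ']; exact hxk
  intro a ha hxa
  rw [← hmap] at hxa
  cases i with
  | zero => exact injective_map_f_zero mA hS (hxa.trans (map_zero _).symm)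
  | succ i =>
    obtain ⟨b, rfl⟩ := (exact_δ_map mA i hS a).1 hxa
    replace ha := (phi_δ M i hS b).symm.trans ha
    obtain ⟨t', ht'⟩ := exists_factor hJ (pre ω S.g (-(i : ℤ))) (phi M P i b) (fun ψ hψ => by
      obtain ⟨χ, rfl⟩ := exists_preδ ω hS _ (-(i : ℤ)) (show -((i + 1 : ℕ) : ℤ) + 1 = -(i : ℤ) by omega) ψ hψ
      exact LinearMap.congr_fun ha χ)
    obtain ⟨c, rfl⟩ := hsurj i t'
    have hb : b = ((localCohomology mA i).map S.g).hom c := (h3 i).1 (by rw [phi_map]; exact ht'.symm)
    exact (exact_map_δ mA i hS b).2 ⟨c, hb.symm⟩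

theorem bij_of_subsingleton (N : ModuleCat.{u} A) [Subsingleton N] : Bij M N := fun i => by
  have hN : IsZero N := ModuleCat.isZero_of_subsingleton N
  have : Subsingleton (T M N i) := by
    have : Subsingleton (ShiftedHom (sgl.obj N) ω (-(i : ℤ))) :=
      ⟨fun a b => (Functor.map_isZero sgl hN).eq_of_src a b⟩
    exact ⟨fun a b => LinearMap.ext fun z => by rw [Subsingleton.elim z 0, map_zero, map_zero]⟩
  refine ⟨fun a b _ => ?_, fun t => ⟨0, Subsingleton.elim _ _⟩⟩
  have h0 : IsZero ((localCohomology (mA (A := A)) i).obj N) :=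
    (IsZero.iff_id_eq_zero _).2 ((CategoryTheory.Functor.map_id _ _).symm.trans (by
      rw [hN.eq_of_src (𝟙 N) (0 • 𝟙 N)]
      ext z
      obtain ⟨k, y, rfl⟩ := exists_ι mA i N z
      rw [map_ι, zero_smul, Abelian.Ext.mk₀_zero, Abelian.Ext.comp_zero, map_zero]
      rfl))
  exact @Subsingleton.elim _ (ModuleCat.subsingleton_of_isZero h0) a b

theorem bij_residue : Bij M (ModuleCat.of A (IsLocalRing.ResidueField A)) := fun i => by
  cases i with
  | succ i =>
    have hdim : Module.supportDim A (IsLocalRing.ResidueField A) < ((i + 1 : ℕ) : WithBot ℕ∞) := by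
      rw [show Module.supportDim A (IsLocalRing.ResidueField A) = ringKrullDim (A ⧸ IsLocalRing.maximalIdeal A) from
        Module.supportDim_quotient_eq_ringKrullDim _, ringKrullDim_eq_zero_of_isField
          ((Ideal.Quotient.maximal_ideal_iff_isField_quotient _).1 inferInstance)]
      exact_mod_cast Nat.succ_pos i
    have hH : Subsingleton (LocCoh.H (mA (A := A)) (i + 1) (IsLocalRing.ResidueField A)) :=
      LocCohLib.subsingleton_of_supportDim_lt _ _ _ hdim
    have hS : Subsingleton (Dual.inD A (IsLocalRing.ResidueField A) ⟶ ω⟦(-((i + 1 : ℕ) : ℤ))⟧) :=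
      hn _ (by omega)
    exact ⟨fun a b _ => @Subsingleton.elim _ hH a b, fun t => ⟨0, LinearMap.ext fun z => by
      rw [show z = 0 from @Subsingleton.elim _ hS z 0, map_zero, map_zero]⟩⟩
  | zero =>
    let k := IsLocalRing.ResidueField A
    have h1 : mA (A := A) ^ 1 = IsLocalRing.maximalIdeal A := pow_one _
    let q : Q (mA (A := A)) 1 ⟶ ModuleCat.of A k :=
      ModuleCat.ofHom (Submodule.mapQ _ (IsLocalRing.maximalIdeal A) LinearMap.id h1.le)
    let e : LocCoh.H (mA (A := A)) 0 k := ι mA 0 (ModuleCat.of A k) 1 (Abelian.Ext.mk₀ q)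
    have hgen : ∀ a : LocCoh.H (mA (A := A)) 0 k, ∃ c : A, c • e = a := by
      intro a
      obtain ⟨n, hn1, y, rfl⟩ := exists_ι_le mA 0 (ModuleCat.of A k) a 1
      obtain ⟨g, rfl⟩ := (Abelian.Ext.mk₀_bijective _ _).2 y
      obtain ⟨c, hc⟩ := IsLocalRing.residue_surjective (g.hom (Submodule.Quotient.mk 1))
      refine ⟨c, ?_⟩
      refine ((congrArg (c • ·) (ι_proj mA 0 (ModuleCat.of A k) hn1 (Abelian.Ext.mk₀ q)).symm).trans
        (map_smul _ _ _).symm).trans ?_
      refine congrArg (ι mA 0 (ModuleCat.of A k) n) ?_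
      rw [Abelian.Ext.mk₀_comp_mk₀, ← Abelian.Ext.mk₀_smul]
      refine congrArg Abelian.Ext.mk₀ (ModuleCat.hom_ext (Submodule.linearMap_qext _ (LinearMap.ext_ring ?_)))
      show c • (IsLocalRing.residue A 1) = g.hom (Submodule.Quotient.mk 1)
      rw [← hc, map_one, Algebra.smul_def, mul_one]
      rfl
    obtain ⟨er⟩ := residue_hom_equiv hω hn
    let ψ₀ : ShiftedHom (sgl.obj (ModuleCat.of A k)) ω (0 : ℤ) := er.symm 1
    have hψ : ∀ ψ : ShiftedHom (sgl.obj (ModuleCat.of A k)) ω (0 : ℤ), ∃ r : A, r • ψ₀ = ψ := fun ψ => by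
      obtain ⟨r, hr⟩ := IsLocalRing.residue_surjective (er ψ)
      refine ⟨r, er.injective ?_⟩
      rw [show ψ₀ = er.symm 1 from rfl]
      refine (map_smul er r _).trans ?_
      rw [LinearEquiv.apply_symm_apply, ← hr, Algebra.smul_def, mul_one]
      rfl
    have hval : ∀ ψ : ShiftedHom (sgl.obj (ModuleCat.of A k)) ω (0 : ℤ),
        phi M (ModuleCat.of A k) 0 e ψ = psi M (killed_residue (A := A)) ψ 1 := fun ψ => by
      rw [show e = ι mA 0 (ModuleCat.of A k) 1 (Abelian.Ext.mk₀ q) from rfl, phi_ι, phiPre_apply]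
      rw [Abelian.Ext.mk₀_hom]
      refine (congrArg (val M 1) (ShiftedHom.mk₀_comp _ _ _ _)).trans ?_
      exact LinearMap.congr_fun (psi_natural M (killed_residue (A := A)) (killed_quotient_pow 1) q.hom ψ) _
    have hψ0 : psi M (killed_residue (A := A)) ψ₀ 1 ≠ 0 := fun h => by
      have h2 : psi M (killed_residue (A := A)) ψ₀ = 0 := LinearMap.ext fun z => by
        obtain ⟨r, rfl⟩ := IsLocalRing.residue_surjective z
        rw [show IsLocalRing.residue A r = r • (1 : k) by rw [Algebra.smul_def, mul_one]; rfl, map_smul, h, smul_zero,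
          LinearMap.zero_apply]
      have h3 : er.symm 1 = 0 := (psi_bijective M hω hn (killed_residue (A := A))).1 (h2.trans (map_zero _).symm)
      exact one_ne_zero (er.symm.injective (h3.trans (map_zero _).symm))
    constructor
    · rw [injective_iff_map_eq_zero]
      intro a ha
      obtain ⟨c, rfl⟩ := hgen a
      by_cases hc : c ∈ IsLocalRing.maximalIdeal A
      · show c • ι mA 0 (ModuleCat.of A k) 1 (Abelian.Ext.mk₀ q) = 0
        exact smul_ι_eq_zero mA 0 _ _ (by rwa [h1])
      · refine absurd ?_ hψ0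
        have h2 := LinearMap.congr_fun ha ψ₀
        rw [map_smul, LinearMap.smul_apply, hval, LinearMap.zero_apply] at h2
        exact (IsLocalRing.notMem_maximalIdeal.1 hc).smul_eq_zero.1 h2
    · intro t
      obtain ⟨g, hg⟩ := exists_hull_H0 M hω hn
      have hmem : ∀ r ∈ IsLocalRing.maximalIdeal A, r • ψ₀ = 0 := fun r hr => by
        refine er.injective ((map_smul er r _).trans ?_)
        rw [map_zero]
        exact InjHullLib.residue_smul_eq_zero hr _
      have hsoc : ∀ z : H0 M, (∀ r ∈ IsLocalRing.maximalIdeal A, r • z = 0) → ∃ c : k, g c = z := fun z hz => by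
        have : z ∈ Submodule.torsionBySet A (H0 M) (IsLocalRing.maximalIdeal A : Set A) := InjHullLib.mem_torsion_iff.2 hz
        rw [InjHullLib.torsion_eq_range (m := IsLocalRing.maximalIdeal A) hg.toIsEssentialInj] at this
        exact this
      obtain ⟨c, hc⟩ := hsoc (psi M (killed_residue (A := A)) ψ₀ 1) fun r hr => by
        rw [← map_smul, InjHullLib.residue_smul_eq_zero hr, map_zero]
      obtain ⟨c', hc'⟩ := hsoc (t ψ₀) fun r hr =>
        (map_smul t r ψ₀).symm.trans ((congrArg t (hmem r hr)).trans (map_zero t))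
      have hc0 : c ≠ 0 := fun h => hψ0 (by rw [← hc, h, map_zero])
      obtain ⟨s, hs⟩ := IsLocalRing.residue_surjective (c' * c⁻¹)
      refine ⟨s • e, LinearMap.ext fun ψ => ?_⟩
      obtain ⟨r, rfl⟩ := hψ ψ
      rw [map_smul (phi M (ModuleCat.of A k) 0 (s • e)), map_smul t]
      refine congrArg (r • ·) ?_
      rw [map_smul, LinearMap.smul_apply, hval, ← hc, ← hc', ← map_smul]
      refine congrArg g ?_
      rw [Algebra.smul_def, show algebraMap A k s = IsLocalRing.residue A s from rfl, hs,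
        inv_mul_cancel_right₀ hc0]

theorem bij_closed (N : Type u) [AddCommGroup N] [Module A N] [Module.Finite A N]
    (h : ∀ r ∈ Module.support A N, r = clPt A) : Bij M (ModuleCat.of A N) := by
  revert h
  refine IsNoetherianRing.induction_on_isQuotientEquivQuotientPrime A (motive := fun N _ _ _ =>
    (∀ r ∈ Module.support A N, r = clPt A) → Bij M (ModuleCat.of A N)) (inferInstance : Module.Finite A N) ?_ ?_ ?_
  · intro L _ _ _ _ _
    haveI : Subsingleton (ModuleCat.of A L) := ‹Subsingleton L›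
    exact bij_of_subsingleton M hω hn _
  · intro L _ _ _ q e hq
    obtain rfl : q = clPt A := hq q (by
      rw [e.support_eq, Module.support_eq_zeroLocus, PrimeSpectrum.mem_zeroLocus, Ideal.annihilator_quotient])
    exact bij_of_iso M (LinearEquiv.toModuleIso e.symm) (bij_residue M hω hn)
  · intro N₁ _ _ _ N₂ _ _ _ N₃ _ _ _ f g hf hg hex h₁ h₃ h
    have hs := Module.support_of_exact hex hf hg
    haveI : Module.Finite A (ShortComplex.moduleCatMk f g hex.linearMap_comp_eq_zero).X₃ := ‹Module.Finite A N₃›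
    exact bij_mid M hω hn (LocCohLib.shortExact_mk f g hf hg hex) (h₁ fun r hr => h r (hs ▸ Or.inl hr))
      (h₃ fun r hr => h r (hs ▸ Or.inr hr))

theorem bij_of_dim_lt : ∀ (d : ℕ) (N : Type u) [AddCommGroup N] [Module A N] [Module.Finite A N],
    Module.supportDim A N < (d : WithBot ℕ∞) → Bij M (ModuleCat.of A N)
  | 0, N, _, _, _, hd => by
    rcases subsingleton_or_nontrivial N with h | h
    · haveI : Subsingleton (ModuleCat.of A N) := h
      exact bij_of_subsingleton M hω hn _
    · obtain ⟨n, hn'⟩ := DepthLib.exists_supportDim_eq_natCast (R := A) (M := N)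
      rw [hn'] at hd
      exact absurd (by exact_mod_cast hd : n < 0) n.not_lt_zero
  | d + 1, N, _, _, _, hd => by
    let P := InjHullLib.powTors (mA (A := A)) N
    haveI : Module.Finite A P := inferInstance
    have hP : ∀ r ∈ Module.support A P, r = clPt A := by
      obtain ⟨k, hk⟩ : ∃ k : ℕ, ∀ a ∈ mA (A := A) ^ k, ∀ x : P, a • x = 0 := by
        obtain ⟨n, v, hv⟩ := Module.Finite.exists_fin (R := A) (M := P)
        choose k hk using fun l => InjHullLib.mem_powTors_iff.1 (v l).2
        refine ⟨∑ l, k l, fun a ha x => ?_⟩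
        have hle : (⊤ : Submodule A P) ≤ LinearMap.ker (a • (LinearMap.id : P →ₗ[A] P)) := by
          rw [← hv, Submodule.span_le]
          rintro _ ⟨l, rfl⟩
          exact Subtype.ext (hk l a (Ideal.pow_le_pow_right
            (Finset.single_le_sum (fun _ _ => Nat.zero_le _) (Finset.mem_univ l)) ha))
        exact hle (Submodule.mem_top (x := x))
      intro r hr
      rw [Module.support_eq_zeroLocus, PrimeSpectrum.mem_zeroLocus] at hr
      refine PrimeSpectrum.ext (le_antisymm (IsLocalRing.le_maximalIdeal r.isPrime.ne_top) ?_)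
      exact r.isPrime.le_of_pow_le (le_trans (fun a ha => Module.mem_annihilator.2 (hk a ha)) hr)
    have hQ : Bij M (ModuleCat.of A (N ⧸ P)) := by
      rcases subsingleton_or_nontrivial (N ⧸ P) with h | h
      · haveI : Subsingleton (ModuleCat.of A (N ⧸ P)) := h
        exact bij_of_subsingleton M hω hn _
      · have hnass : IsLocalRing.maximalIdeal A ∉ associatedPrimes A (N ⧸ P) := fun hass => by
          obtain ⟨z, hz0, hz⟩ := (Depth3.mem_associatedPrimes_iff_exists _).1 hass
          obtain ⟨z, rfl⟩ := Submodule.Quotient.mk_surjective P z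
          refine hz0 ((Submodule.Quotient.mk_eq_zero P).2 ?_)
          obtain ⟨n, v, hv⟩ := Submodule.fg_iff_exists_fin_generating_family.1
            (IsNoetherian.noetherian (IsLocalRing.maximalIdeal A))
          have hvm : ∀ l, v l ∈ IsLocalRing.maximalIdeal A := fun l => hv ▸ Submodule.subset_span ⟨l, rfl⟩
          choose k hk using fun l => InjHullLib.mem_powTors_iff.1 ((Submodule.Quotient.mk_eq_zero P).1
            ((Submodule.Quotient.mk_smul P (v l) z).trans (hz _ (hvm l))))
          refine InjHullLib.mem_powTors_iff.2 ⟨(∑ l, k l) + 1, fun a ha => ?_⟩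
          rw [pow_succ] at ha
          induction ha using Submodule.mul_induction_on' with
          | mem_mul_mem b hb c hc =>
            rw [show (mA : Ideal A) = IsLocalRing.maximalIdeal A from rfl, ← hv] at hc
            obtain ⟨e, rfl⟩ := (Submodule.mem_span_range_iff_exists_fun A).1 hc
            rw [Finset.mul_sum, Finset.sum_smul]
            refine Finset.sum_eq_zero fun l _ => ?_
            rw [smul_eq_mul, ← mul_assoc, mul_comm b, mul_assoc, mul_smul, mul_smul,
              hk l b (Ideal.pow_le_pow_right (Finset.single_le_sum (fun _ _ => Nat.zero_le _) (Finset.mem_univ l)) hb),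
              smul_zero]
          | add p hp q hq ihp ihq => rw [add_smul, ihp, ihq, add_zero]
        have h1 : (1 : ℕ∞) ≤ LocCoh.depth A (N ⧸ P) :=
          Order.one_le_iff_ne_zero.2 fun h0 => hnass (Depth3.depth_eq_zero_iff.1 h0)
        obtain ⟨x, hx, hreg⟩ := DepthLib.exists_isSMulRegular_of_one_le_idealDepth
          (DepthLib.smul_top_ne_top (IsLocalRing.maximalIdeal.isMaximal A).ne_top) h1
        have hdim : Module.supportDim A (QuotSMulTop x (N ⧸ P)) < (d : WithBot ℕ∞) := by
          have h2 := Module.supportDim_quotSMulTop_succ_eq_supportDim hreg hx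
          have h3 := (Module.supportDim_le_of_surjective P.mkQ P.mkQ_surjective).trans_lt hd
          rw [← h2] at h3
          by_contra hle
          rw [not_lt] at hle
          have h4 := add_le_add hle (le_refl (1 : WithBot ℕ∞))
          exact absurd h3 (not_lt.2 (by push_cast; exact h4))
        let g : N ⧸ P →ₗ[A] QuotSMulTop x (N ⧸ P) := Submodule.mkQ _
        have hex : Function.Exact (x • (LinearMap.id : (N ⧸ P) →ₗ[A] N ⧸ P)) g := fun v => by
          constructor
          · intro hv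
            obtain ⟨w, -, hw⟩ := (Submodule.mem_smul_pointwise_iff_exists _ _ _).1
              ((Submodule.Quotient.mk_eq_zero _).1 hv)
            exact ⟨w, hw⟩
          · rintro ⟨w, rfl⟩
            exact (Submodule.Quotient.mk_eq_zero _).2 (Submodule.smul_mem_pointwise_smul w x ⊤ Submodule.mem_top)
        haveI : Module.Finite A (ModuleCat.of A (N ⧸ P)) := inferInstanceAs (Module.Finite A (N ⧸ P))
        haveI : Module.Finite A (ModuleCat.of A (QuotSMulTop x (N ⧸ P))) :=
          inferInstanceAs (Module.Finite A (QuotSMulTop x (N ⧸ P)))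
        have hS := LocCohLib.shortExact_mk (x • (LinearMap.id : (N ⧸ P) →ₗ[A] N ⧸ P)) g hreg
          (Submodule.mkQ_surjective _) hex
        exact bij_of_regular M hω hn x hx (ModuleCat.ofHom g)
          (ModuleCat.hom_ext hex.linearMap_comp_eq_zero) hS (bij_of_dim_lt d _ hdim)
    haveI : Module.Finite A (ShortComplex.moduleCatMk P.subtype P.mkQ
        (LinearMap.exact_subtype_mkQ P).linearMap_comp_eq_zero).X₃ := inferInstanceAs (Module.Finite A (N ⧸ P))
    exact bij_mid M hω hn (LocCohLib.shortExact_mk _ _ P.injective_subtype P.mkQ_surjective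
      (LinearMap.exact_subtype_mkQ P)) (bij_closed M hω hn P hP) hQ

/-- Local duality. -/
theorem bij_finite (N : Type u) [AddCommGroup N] [Module A N] [Module.Finite A N] : Bij M (ModuleCat.of A N) := by
  rcases subsingleton_or_nontrivial N with h | h
  · haveI : Subsingleton (ModuleCat.of A N) := h
    exact bij_of_subsingleton M hω hn _
  · obtain ⟨n, hn'⟩ := DepthLib.exists_supportDim_eq_natCast (R := A) (M := N)
    exact bij_of_dim_lt M hω hn (n + 1) N (by rw [hn']; exact_mod_cast n.lt_succ_self)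

theorem exists_localDual {E : Type u} [AddCommGroup E] [Module A E] {f : IsLocalRing.ResidueField A →ₗ[A] E}
    (hf : InjHull.IsInjectiveHull f) (N : Type u) [AddCommGroup N] [Module A N] [Module.Finite A N] (i : ℕ) :
    Nonempty (LocCoh.H (mA (A := A)) i N ≃ₗ[A] ((Dual.inD A N ⟶ ω⟦(-(i : ℤ))⟧) →ₗ[A] E)) := by
  obtain ⟨e⟩ := equiv_hull M hω hn hf
  exact ⟨LinearEquiv.ofBijective _ (bij_finite M hω hn N i) ≪≫ₗ LinearEquiv.congrRight e⟩

end Groth.Agent.Dlz27
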