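import Groth.Agent.Lib.Dlz27.Local
import Groth.Agent.Lib.Depth3.Zero

/-!
# Morphisms into a normalized dualizing complex over a local ring
-/

set_option autoImplicit false
universe u

open CategoryTheory CategoryTheory.Limits Pointwise

attribute [local instance] HasDerivedCategory.standard

noncomputable section

namespace Groth.Agent.Dlz27

section General

variable {A : Type u} [CommRing A] {W : DRing.Cx A}

/-- Surjectivity of a regular element, up to localization, from vanishing for the quotient. -/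
theorem exists_surj_of_exact (hW : ∀ i, Injective (W.X i)) {N N' : Type u} [AddCommGroup N] [Module A N]
    [AddCommGroup N'] [Module A N'] (x : A) (q : Ideal A) [q.IsPrime] {π : N →ₗ[A] N'}
    (hμ : Function.Injective (x • (LinearMap.id : N →ₗ[A] N))) (hπ : Function.Surjective π)
    (hex : Function.Exact (x • (LinearMap.id : N →ₗ[A] N)) π) (i : ℤ) (h : VanS W q.primeCompl N' (i + 1))
    (f : N →ₗ[A] W.X i) (hf : (W.d i (i + 1)).hom ∘ₗ f = 0) :
    ∃ (s : q.primeCompl) (f' : N →ₗ[A] W.X i) (g : N →ₗ[A] W.X (i - 1)),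
      (W.d i (i + 1)).hom ∘ₗ f' = 0 ∧ (s : A) • f = x • f' + (W.d (i - 1) i).hom ∘ₗ g := by
  obtain ⟨F, hF⟩ := exists_extend (hW i) hμ f
  obtain ⟨e, he⟩ := exists_desc hπ hex ((W.d i (i + 1)).hom ∘ₗ F) (by rw [LinearMap.comp_assoc, hF, hf])
  obtain ⟨s, k, hk⟩ := h.prev rfl e (comp_right_cancel hπ (by
    rw [LinearMap.comp_assoc, he, dd_comp, LinearMap.zero_comp]))
  refine ⟨s, (s : A) • F - k ∘ₗ π, 0, ?_, ?_⟩
  · rw [LinearMap.comp_sub, LinearMap.comp_smul, ← LinearMap.comp_assoc, hk, LinearMap.smul_comp, he, sub_self]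
  · rw [LinearMap.comp_zero, add_zero, ← hF]
    refine LinearMap.ext fun v => ?_
    have hπx : π (x • v) = 0 := (hex (x • v)).2 ⟨v, rfl⟩
    have h2 : x • k (π v) = 0 := by rw [← map_smul, ← map_smul, hπx, map_zero]
    show (s : A) • F (x • v) = x • ((s : A) • F v - k (π v))
    rw [smul_sub, h2, sub_zero, map_smul, smul_comm]

variable [IsNoetherianRing A] {ω : Dual.D A} (hω : Dual.IsDualizing A ω) (M : Model ω)

/-- Associated primes give nonvanishing in their degree. -/
theorem not_vanS_of_mem_associatedPrimes (N : Type u) [AddCommGroup N] [Module A N] [Module.Finite A N]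
    (p : PrimeSpectrum A) (hp : p.asIdeal ∈ associatedPrimes A N) :
    ¬ VanS M.W p.asIdeal.primeCompl N (deg hω M p) := by
  intro h
  obtain ⟨-, m, hm⟩ := isAssociatedPrime_iff.1 hp
  have hker : p.asIdeal = LinearMap.ker (LinearMap.toSpanSingleton A N m) := by
    rw [hm]; ext a; simp [Submodule.mem_colon_singleton]
  let ι : A ⧸ p.asIdeal →ₗ[A] N := p.asIdeal.liftQ (LinearMap.toSpanSingleton A N m) hker.le
  have hι : Function.Injective ι := LinearMap.ker_eq_bot.1 (Submodule.ker_liftQ_eq_bot _ _ _ hker.ge)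
  exact (vanS_iff_ne_deg hω M p _).1 (VanS.left M.inj hι (Submodule.mkQ_surjective (LinearMap.range ι))
    (LinearMap.exact_map_mkQ_range ι) h (vanS_high hω M p _ _ (by omega))) rfl

/-- The support of the cohomology lies between the degree and the degrees of generizations. -/
theorem le_deg_of_not_vanS (q : PrimeSpectrum A) (i : ℤ) (N : Type u) [AddCommGroup N] [Module A N]
    [Module.Finite A N] (h : ¬ VanS M.W q.asIdeal.primeCompl N i) :
    i ≤ deg hω M q ∧ ∃ r ∈ Module.support A N, r ≤ q ∧ deg hω M r ≤ i := by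
  refine ⟨?_, ?_⟩
  · by_contra hlt
    exact h (vanS_high hω M q i N (not_le.1 hlt))
  · by_contra hex
    push Not at hex
    exact h (vanS_low hω M q i N hex)

end General

variable {A : Type u} [CommRing A] [IsLocalRing A] [IsNoetherianRing A] {ω : Dual.D A}
  (hω : Dual.IsDualizing A ω) (M : Model ω) (hn : Dual.IsNormalized A ω)

omit [IsNoetherianRing A] in
theorem subsingleton_hom_iff_vanS (N : Type u) [AddCommGroup N] [Module A N] (i : ℤ) :
    Subsingleton (Dual.inD A N ⟶ ω⟦i⟧) ↔ VanS M.W (clPt A).asIdeal.primeCompl N i :=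
  (subsingleton_hom_iff_van M.e N i).trans (vanS_maximal_iff i).symm

include hω M hn

theorem subsingleton_hom_of_support (N : Type u) [AddCommGroup N] [Module A N] [Module.Finite A N]
    (hN : ∀ r ∈ Module.support A N, r = clPt A) (i : ℤ) (hi : i ≠ 0) :
    Subsingleton (Dual.inD A N ⟶ ω⟦i⟧) :=
  (subsingleton_hom_iff_vanS M N i).2 (vanS_of_support M.inj _ i N fun r hr => by
    obtain rfl := hN r hr
    exact (vanS_iff_ne_deg hω M _ i).2 (by rw [deg_closedPoint hω M hn]; exact hi))

theorem neg_le_deg {N : Type u} [AddCommGroup N] [Module A N] [Module.Finite A N] (d : ℕ)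
    (hd : Module.supportDim A N = d) {r : PrimeSpectrum A} (hr : r ∈ Module.support A N) :
    -(d : ℤ) ≤ deg hω M r := by
  have h := DepthLib.ringKrullDim_quotient_le_supportDim (p := r.asIdeal) hr
  obtain ⟨h0, h1⟩ := dim_quotient_normalized hω M hn r
  rw [h1, hd] at h
  have h2 : (-deg hω M r).toNat ≤ d := by exact_mod_cast h
  omega

theorem nontrivial_hom_imp (N : Type u) [AddCommGroup N] [Module A N] [Module.Finite A N] (d : ℕ)
    (hd : Module.supportDim A N = d) (i : ℤ) (h : Nontrivial (Dual.inD A N ⟶ ω⟦i⟧)) :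
    -(d : ℤ) ≤ i ∧ i ≤ 0 := by
  obtain ⟨h1, r, hr, -, h2⟩ := le_deg_of_not_vanS hω M (clPt A) i N
    (fun hv => not_subsingleton (α := Dual.inD A N ⟶ ω⟦i⟧) ((subsingleton_hom_iff_vanS M N i).2 hv))
  rw [deg_closedPoint hω M hn] at h1
  exact ⟨(neg_le_deg hω M hn d hd hr).trans h2, h1⟩

theorem supportDim_hom_le (N : Type u) [AddCommGroup N] [Module A N] [Module.Finite A N] (i : ℤ) :
    Module.supportDim A (Dual.inD A N ⟶ ω⟦i⟧) ≤ ((-i).toNat : WithBot ℕ∞) := by
  refine iSup_le fun l : LTSeries (Module.support A (Dual.inD A N ⟶ ω⟦i⟧)) => ?_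
  have key : ∀ j, i ≤ deg hω M (l j).1 ∧ deg hω M (l j).1 ≤ 0 := fun j => by
    have hj : Nontrivial (LocalizedModule (l j).1.asIdeal.primeCompl (Dual.inD A N ⟶ ω⟦i⟧)) := (l j).2
    exact ⟨(le_deg_of_not_vanS hω M _ i N ((nontrivial_localized_iff M _ N i).1 hj)).1,
      (dim_quotient_normalized hω M hn _).1⟩
  let f : Fin (l.length + 1) → Fin ((-i).toNat + 1) := fun j => ⟨(deg hω M (l j).1 - i).toNat, by
    have := key j; omega⟩
  have hf : StrictMono f := fun j k hjk => by
    have := deg_strictMono hω M (show (l j).1 < (l k).1 from l.strictMono hjk)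
    have := key j
    show (deg hω M (l j).1 - i).toNat < (deg hω M (l k).1 - i).toNat
    omega
  have := Fintype.card_le_of_injective f hf.injective
  rw [Fintype.card_fin, Fintype.card_fin] at this
  exact_mod_cast (show l.length ≤ (-i).toNat by omega)

/-- Depth via the normalized dualizing complex: one direction. -/
theorem ext_of_depth : ∀ (n : ℕ) (N : Type u) [AddCommGroup N] [Module A N] [Module.Finite A N],
    LocCoh.depth A N = n → (∀ δ : ℕ, δ < n → VanS M.W (clPt A).asIdeal.primeCompl N (-(δ : ℤ))) ∧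
      ¬ VanS M.W (clPt A).asIdeal.primeCompl N (-(n : ℤ))
  | 0, N, _, _, _, hd => by
    refine ⟨fun δ hδ => absurd hδ δ.not_lt_zero, ?_⟩
    have h := not_vanS_of_mem_associatedPrimes hω M N (clPt A) (Depth3.depth_eq_zero_iff.1 (by simpa using hd))
    rw [deg_closedPoint hω M hn] at h
    simpa using h
  | k + 1, N, _, _, _, hd => by
    have hne : IsLocalRing.maximalIdeal A • (⊤ : Submodule A N) ≠ ⊤ := fun h => by
      rw [LocCoh.depth, DepthLib.idealDepth_of_smul_top_eq_top h] at hd
      exact ENat.natCast_ne_top _ hd.symm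
    obtain ⟨x, hx, hreg⟩ := DepthLib.exists_isSMulRegular_of_one_le_idealDepth hne (by
      show 1 ≤ LocCoh.depth A N
      rw [hd]; exact_mod_cast Nat.succ_le_succ (Nat.zero_le k))
    have hd' : LocCoh.depth A (QuotSMulTop x N) = k := by
      have h := DepthLib.idealDepth_quotSMulTop_add_one (M := N) hx hreg
      rw [show LocCoh.idealDepth (IsLocalRing.maximalIdeal A) N = LocCoh.depth A N from rfl, hd, Nat.cast_succ] at h
      exact ENat.add_left_injective_of_ne_top ENat.one_ne_top h
    obtain ⟨hlow, htop⟩ := ext_of_depth k (QuotSMulTop x N) hd'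
    let π : N →ₗ[A] QuotSMulTop x N := Submodule.mkQ _
    have hμ : Function.Injective (x • (LinearMap.id : N →ₗ[A] N)) := hreg
    have hπ : Function.Surjective π := Submodule.mkQ_surjective _
    have hex : Function.Exact (x • (LinearMap.id : N →ₗ[A] N)) π := fun v => by
      constructor
      · intro hv
        obtain ⟨w, -, hw⟩ := (Submodule.mem_smul_pointwise_iff_exists _ _ _).1
          ((Submodule.Quotient.mk_eq_zero _).1 hv)
        exact ⟨w, hw⟩
      · rintro ⟨w, rfl⟩
        exact (Submodule.Quotient.mk_eq_zero _).2 (Submodule.smul_mem_pointwise_smul w x ⊤ Submodule.mem_top)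
    have hvan : ∀ δ : ℕ, δ < k + 1 → VanS M.W (clPt A).asIdeal.primeCompl N (-(δ : ℤ)) := fun δ hδ => by
      refine vanS_of_surjective (finV M.inj M.lo (finite_homology hω M) _ _) _ hx fun f hf =>
        exists_surj_of_exact M.inj x _ hμ hπ hex _ ?_ f hf
      cases δ with
      | zero => exact vanS_high hω M (clPt A) _ _ (by rw [deg_closedPoint hω M hn]; simp)
      | succ δ =>
        have h := hlow δ (by omega)
        rwa [show -((δ + 1 : ℕ) : ℤ) + 1 = -(δ : ℤ) by push_cast; ring]
    refine ⟨hvan, fun h => htop (VanS.right M.inj hμ hπ hex (hvan k (by omega)) ?_)⟩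
    rwa [show -(k : ℤ) - 1 = -((k + 1 : ℕ) : ℤ) by push_cast; ring]

/-- Depth via the normalized dualizing complex. -/
theorem depth_eq_iff (N : Type u) [AddCommGroup N] [Module A N] [Module.Finite A N] [Nontrivial N] (n : ℕ) :
    LocCoh.depth A N = n ↔ (∀ δ : ℕ, δ < n → Subsingleton (Dual.inD A N ⟶ ω⟦(-(δ : ℤ))⟧)) ∧
      Nontrivial (Dual.inD A N ⟶ ω⟦(-(n : ℤ))⟧) := by
  simp only [subsingleton_hom_iff_vanS M, ← not_subsingleton_iff_nontrivial]
  refine ⟨ext_of_depth hω M hn n N, fun ⟨h1, h2⟩ => ?_⟩
  obtain ⟨m, hm⟩ := DepthLib.exists_depth_eq_natCast (R := A) (M := N)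
  obtain ⟨h3, h4⟩ := ext_of_depth hω M hn m N hm
  rcases lt_trichotomy m n with h | rfl | h
  · exact absurd (h1 m h) h4
  · exact hm
  · exact absurd (h3 n h) h2

theorem nontrivial_hom_supportDim (N : Type u) [AddCommGroup N] [Module A N] [Module.Finite A N] [Nontrivial N]
    (d : ℕ) (hd : Module.supportDim A N = d) : Nontrivial (Dual.inD A N ⟶ ω⟦(-(d : ℤ))⟧) := by
  have : Nonempty (Module.support A N) := Module.nonempty_support_of_nontrivial.to_subtype
  have : FiniteDimensionalOrder (Module.support A N) := by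
    refine Order.finiteDimensionalOrder_iff_krullDim_ne_bot_and_top.2 ⟨?_, ?_⟩
    · exact Module.supportDim_ne_bot_of_nontrivial A N
    · intro h
      rw [show Module.supportDim A N = Order.krullDim (Module.support A N) from rfl, h] at hd
      exact absurd hd (ne_of_gt (WithBot.coe_lt_coe.2 (ENat.natCast_lt_top d)))
  let l := LTSeries.longestOf (Module.support A N)
  have hl : Module.supportDim A N = (l.length : WithBot ℕ∞) := Order.krullDim_eq_length_of_finiteDimensionalOrder
  have hld : l.length = d := by rw [hl] at hd; exact_mod_cast hd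
  let p : PrimeSpectrum A := (l.head).1
  have hpmem : p ∈ Module.support A N := (l.head).2
  have hmin : p.asIdeal ∈ (Module.annihilator A N).minimalPrimes := by
    rw [Module.support_eq_zeroLocus, PrimeSpectrum.mem_zeroLocus] at hpmem
    refine ⟨⟨p.isPrime, hpmem⟩, fun q ⟨hq, hqle⟩ hqp => ?_⟩
    by_contra hpq
    have hmem : (⟨q, hq⟩ : PrimeSpectrum A) ∈ Module.support A N := by
      rw [Module.support_eq_zeroLocus, PrimeSpectrum.mem_zeroLocus]; exact hqle
    have hlt : (⟨⟨q, hq⟩, hmem⟩ : Module.support A N) < l.head := lt_of_le_not_ge hqp hpq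
    have := Order.LTSeries.length_le_krullDim (l.cons _ hlt)
    rw [show Order.krullDim (Module.support A N) = Module.supportDim A N from rfl, hl] at this
    simp only [RelSeries.cons, RelSeries.append, RelSeries.singleton_length] at this
    norm_cast at this
    omega
  have key : ∀ j : Fin (l.length + 1), (j : ℤ) ≤ deg hω M (l j).1 - deg hω M p := fun j => by
    induction j using Fin.induction with
    | zero => simp [p, RelSeries.head]
    | succ j ih =>
      have := deg_strictMono hω M (show (l j.castSucc).1 < (l j.succ).1 from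
        l.strictMono (Fin.castSucc_lt_succ (i := j)))
      simp only [Fin.val_castSucc] at ih
      simp only [Fin.val_succ, Nat.cast_add, Nat.cast_one]; omega
  have hdeg : deg hω M p = -(d : ℤ) := by
    have h1 := neg_le_deg hω M hn d hd hpmem
    have h2 := key (Fin.last _)
    have h3 := (dim_quotient_normalized hω M hn (l (Fin.last _)).1).1
    simp only [Fin.val_last] at h2
    omega
  have hv := not_vanS_of_mem_associatedPrimes hω M N p
    (Module.associatedPrimes.minimalPrimes_annihilator_subset_associatedPrimes A N hmin)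
  rw [hdeg] at hv
  have : Nontrivial (LocalizedModule p.asIdeal.primeCompl (Dual.inD A N ⟶ ω⟦(-(d : ℤ))⟧)) :=
    (nontrivial_localized_iff M p N _).2 hv
  by_contra hns
  rw [not_nontrivial_iff_subsingleton] at hns
  exact not_subsingleton (α := LocalizedModule p.asIdeal.primeCompl (Dual.inD A N ⟶ ω⟦(-(d : ℤ))⟧))
    (LocalizedModule.subsingleton_iff.2 fun z => ⟨1, Submonoid.one_mem _, Subsingleton.elim _ _⟩)

end Groth.Agent.Dlz27
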