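import Groth.Agent.Lib.Dlz27.CxLoc
import Groth.Agent.Lib.RGamma27.ExtColim

/-!
# Local cohomology of complexes vanishes above `top + number of generators`
-/

set_option autoImplicit false
universe u

open CategoryTheory CategoryTheory.Limits CategoryTheory.Pretriangulated

attribute [local instance] HasDerivedCategory.standard

noncomputable section

namespace Groth.Agent.Dlz27

variable {A : Type u} [CommRing A]

theorem exists_tors_primitive (K : DRing.Cx A) (hK : ∀ i, RGamma27.Flasque (R := A) (K.X i)) (n : ℤ)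
    (hex : ∀ j : ℤ, n < j → ∀ x : K.X j, K.d j (j + 1) x = 0 → ∃ y, K.d (j - 1) j y = x) :
    ∀ (fs : List A) (i j : ℤ), i + 1 = j → n + fs.length < j → ∀ x : K.X j, RGamma27.Tors fs x →
      K.d j (j + 1) x = 0 → ∃ y : K.X i, RGamma27.Tors fs y ∧ K.d i j y = x
  | [], i, j, hij, hj, x, _, hx => by
    obtain rfl : i = j - 1 := by omega
    obtain ⟨y, hy⟩ := hex j (by simpa using hj) x hx
    exact ⟨y, fun g hg => absurd hg List.not_mem_nil, hy⟩
  | g :: fs, i, j, hij, hj, x, hxT, hx => by
    subst hij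
    simp only [List.length_cons, Nat.cast_succ] at hj
    obtain ⟨y, hy, hdy⟩ := exists_tors_primitive K hK n hex fs i (i + 1) rfl (by omega) x
      (fun f hf => hxT f (List.mem_cons_of_mem g hf)) hx
    obtain ⟨p, hp⟩ := hxT g List.mem_cons_self
    obtain ⟨z, hz, hdz⟩ := exists_tors_primitive K hK n hex fs (i - 1) i (by omega) (by omega) (g ^ p • y)
      (hy.smul _) (by rw [map_smul, hdy, hp])
    obtain ⟨m, z', hz', e⟩ := hK (i - 1) fs g p z hz
    refine ⟨y - K.d (i - 1) i z', fun f hf => ?_, by rw [map_sub, RGamma27.d_d, sub_zero, hdy]⟩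
    rcases List.mem_cons.1 hf with rfl | hf
    · refine ⟨m + p, ?_⟩
      have e' := congrArg (K.d (i - 1) i) e
      rw [map_smul, map_sub, map_smul, map_zero, hdz, ← smul_sub] at e'
      rw [pow_add, mul_smul]
      exact e'
    · exact hy.sub (hz'.map (K.d (i - 1) i).hom) f hf

variable [IsNoetherianRing A]

/-- Local cohomology with support in an ideal with `r` generators vanishes above `n + r` for complexes `≤ n`. -/
theorem hdi_eq_zero_of_isLE (fs : List A) {X : Dual.D A} {n : ℤ} (hX : X.IsLE n) {i : ℤ}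
    (hi : n + fs.length < i) (x : Dual2.HDI A (Ideal.span {y : A | y ∈ fs}) X i) : x = 0 := by
  obtain ⟨J, hJ, hinj, ⟨e⟩⟩ := RGamma27.exists_res X
  obtain ⟨c, hc⟩ := RGamma27.toColim_surjective (q := i) (Ideal.span {y : A | y ∈ fs}) e.symm x
  rw [← hc, RGamma27.toColim_eq_zero_iff]
  have hex : ∀ j : ℤ, n < j → ∀ z : J.X j, J.d j (j + 1) z = 0 → ∃ y, J.d (j - 1) j y = z := fun j hj z hz => by
    obtain ⟨w, rfl⟩ := DMod.exists_cycle (K := J) (k := j + 1) (by simp) z hz
    haveI := (DMod.isLE_iff X n).1 hX j hj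
    haveI : Subsingleton (J.homology j) :=
      (((DerivedCategory.homologyFunctor (ModuleCat.{u} A) j).mapIso e ≪≫
        (DerivedCategory.homologyFunctorFactors (ModuleCat.{u} A) j).app J).toLinearEquiv).symm.toEquiv.subsingleton
    have h0 : J.homologyπ j w = 0 := Subsingleton.elim _ _
    rwa [DMod.homologyπ_eq_zero_iff (K := J) (i := j - 1) (by simp)] at h0
  obtain ⟨y, hy, hdy⟩ := exists_tors_primitive J (fun j => RGamma27.flasque_of_injective (hinj j)) n hex fs (i - 1) i
    (by omega) hi c.1 ((RGamma27.tors_iff fs).2 c.2.1) c.2.2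
  exact ⟨y, (RGamma27.tors_iff fs).1 hy, hdy⟩

end Groth.Agent.Dlz27
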