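import Groth.Agent.Lib.Dlz27.Lowest
import Groth.Agent.Lib.Dlz27.SkCrit
import Groth.Agent.Lib.Depth.CM
import Groth.Prelude.Def_EGA4b

/-!
# A dualizing complex which is a sheaf off a closed subset
-/

set_option autoImplicit false
universe u

open CategoryTheory CategoryTheory.Limits

attribute [local instance] HasDerivedCategory.standard

noncomputable section

namespace Groth.Agent.Dlz27

theorem ordinary_of_sheaf_off {A : Type u} [CommRing A] [IsNoetherianRing A] [IsLocalRing A] {ω : Dual.D A}
    (hω : Dual.IsDualizing A ω) (M : Model ω) (n : ℕ) (hd : ringKrullDim A = n) (J : Ideal A) (hJ : 1 ≤ J.height)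
    (hoff : ∀ p : PrimeSpectrum A, ¬ J ≤ p.asIdeal → ∀ i : ℤ, i ≠ 0 → p ∉ Module.support A (Dual.HD A ω i)) :
    (EGA4.IsEquidim A ∧ Dual.IsNormalized A (ω⟦(n : ℤ)⟧) ∧ LocCoh.HasSk 2 A (Dual.HD A ω 0)) ∧
    (2 ≤ J.height → 2 ≤ LocCoh.idealDepth J (Dual.HD A ω 0)) := by
  -- minimal primes have degree zero
  have hmin : ∀ p : PrimeSpectrum A, p.asIdeal ∈ minimalPrimes A → deg hω M p = 0 := fun p hp => by
    by_contra hne
    refine hoff p (fun hle => ?_) (deg hω M p) hne
      ((nontrivial_localized_HD_iff M p _).2 fun hv => (vanS_self_minimal_iff M hω p hp _).1 hv rfl)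
    have h := hJ.trans ((Ideal.height_mono hle).trans_eq (Ideal.height_eq_zero_iff.2 hp))
    simp at h
  have hge : ∀ p : PrimeSpectrum A, (0 : ℤ) ≤ deg hω M p ∧
      ∃ r : PrimeSpectrum A, r.asIdeal ∈ minimalPrimes A ∧ r ≤ p := fun p => by
    obtain ⟨r₀, hr₀, hle⟩ := Ideal.exists_minimalPrimes_le (I := (⊥ : Ideal A)) (J := p.asIdeal) bot_le
    refine ⟨?_, ⟨r₀, hr₀.1.1⟩, hr₀, hle⟩
    rw [← hmin ⟨r₀, hr₀.1.1⟩ hr₀]
    exact (deg_strictMono hω M).monotone hle
  have hle := deg_le_closedPoint hω M
  have hn : deg hω M (clPt A) = n := by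
    obtain ⟨h0, r, hr, -⟩ := hge (clPt A)
    have h1 : ringKrullDim A ≤ ((deg hω M (clPt A)).toNat : WithBot ℕ∞) := by
      refine iSup_le fun l : LTSeries (PrimeSpectrum A) => ?_
      let f : Fin (l.length + 1) → Fin ((deg hω M (clPt A)).toNat + 1) := fun a => ⟨(deg hω M (l a)).toNat, by
        have := hle (l a); omega⟩
      have hf : StrictMono f := fun a b hab => by
        have := deg_strictMono hω M (l.strictMono hab)
        have := (hge (l a)).1
        show (deg hω M (l a)).toNat < (deg hω M (l b)).toNat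
        omega
      have := Fintype.card_le_of_injective f hf.injective
      rw [Fintype.card_fin, Fintype.card_fin] at this
      exact_mod_cast (show l.length ≤ (deg hω M (clPt A)).toNat by omega)
    have h2 := (dim_quotient hω M r).symm.trans_le (ringKrullDim_le_of_surjective _ Ideal.Quotient.mk_surjective)
    rw [hmin r hr, sub_zero, hd] at h2
    rw [hd] at h1
    have h1' : n ≤ (deg hω M (clPt A)).toNat := Nat.cast_le.1 h1
    have h2' : (deg hω M (clPt A)).toNat ≤ n := by exact_mod_cast h2
    omega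
  have := hω.finite_cohomology 0
  let l : Dual.HD A ω 0 ≃ₗ[A] M.W.homology 0 := ((DerivedCategory.homologyFunctor (ModuleCat.{u} A) 0).mapIso M.e.symm ≪≫
    (DerivedCategory.homologyFunctorFactors (ModuleCat.{u} A) 0).app M.W).toLinearEquiv
  haveI : Module.Finite A (M.W.homology 0) := finite_homology hω M 0
  refine ⟨⟨fun p hp => ?_, fun i hi => ?_,
    DepthLib.hasSk_congr l.symm (hasSk_two_homology hω M fun p => (hge p).1)⟩, fun hJ2 => ?_⟩
  · haveI : p.IsPrime := hp.1.1
    have h := dim_quotient hω M ⟨p, hp.1.1⟩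
    rw [hmin ⟨p, hp.1.1⟩ hp, sub_zero, hn, Int.toNat_natCast] at h
    rw [h, hd]; rfl
  · have h := (subsingleton_hom_iff_vanS (ω := ω) M (IsLocalRing.ResidueField A) ((n : ℤ) + i)).2
      ((vanS_iff_ne_deg hω M (clPt A) _).2 (by rw [hn]; omega))
    exact (Iso.homCongr (Iso.refl _) ((shiftFunctorAdd' (Dual.D A) (n : ℤ) i ((n : ℤ) + i) rfl).app ω)).symm.subsingleton
  · refine (DepthLib.natCast_le_idealDepth_iff_forall_localized 2).2 fun p hp => ?_
    have hp2 : (2 : ℕ∞) ≤ p.asIdeal.height := hJ2.trans (Ideal.height_mono hp)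
    have hdeg : (0 : ℤ) + 1 < deg hω M p := by
      by_contra hcon
      have hh : p.asIdeal.height ≤ ((1 : ℕ) : ℕ∞) := by
        have h1 : Module.supportDim (Localization.AtPrime p.asIdeal) (LocalizedModule p.asIdeal.primeCompl A) ≤
            ((1 : ℕ) : WithBot ℕ∞) := supportDim_localized_le hω M p A 1 fun r _ _ => by
          have := (hge r).1; omega
        rw [DepthLib.supportDim_eq_ringKrullDim_of_isPrime] at h1
        exact WithBot.coe_le_coe.1 h1
      exact absurd (hp2.trans hh) (by decide)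
    have h := two_le_depth hω M (fun q => (hge q).1) p hdeg
    haveI : Module.Finite A (M.W.homology 0) := finite_homology hω M 0
    rw [show LocCoh.depth (Localization.AtPrime p.asIdeal) (LocalizedModule p.asIdeal.primeCompl (Dual.HD A ω 0)) =
      LocCoh.depth (Localization.AtPrime p.asIdeal) (LocalizedModule p.asIdeal.primeCompl (M.W.homology 0)) from
        DepthLib.idealDepth_congr ((IsLocalizedModule.mapEquiv p.asIdeal.primeCompl (LocalizedModule.mkLinearMap _ _) (LocalizedModule.mkLinearMap _ _) (Localization.AtPrime p.asIdeal) l))]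
    exact h

end Groth.Agent.Dlz27
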