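import Groth.Agent.Lib.Dlz27.Gamma
import Groth.Agent.Lib.LocCoh.Basic
import Mathlib.Algebra.Homology.DerivedCategory.Ext.ExactSequences

/-!
# The pairing between local cohomology and morphisms into the dualizing complex
-/

set_option autoImplicit false
universe u

open CategoryTheory CategoryTheory.Limits CategoryTheory.Pretriangulated

attribute [local instance] HasDerivedCategory.standard

noncomputable section

namespace Groth.Agent.Dlz27

open Groth.Agent.LocCohLib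

variable {A : Type u} [CommRing A]

/-- The embedding in degree zero. -/
abbrev sgl : ModuleCat.{u} A ⥤ Dual.D A := DerivedCategory.singleFunctor (ModuleCat.{u} A) 0

section Exact

variable (ω : Dual.D A)

/-- Precomposition on morphisms into a shift of `ω`. -/
def pre {X Y : ModuleCat.{u} A} (f : X ⟶ Y) (j : ℤ) :
    ShiftedHom (sgl.obj Y) ω j →ₗ[A] ShiftedHom (sgl.obj X) ω j where
  toFun ψ := sgl.map f ≫ ψ
  map_add' _ _ := Preadditive.comp_add _ _ _ _ _ _
  map_smul' _ _ := Linear.comp_smul _ _ _ _ _ _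

variable {S : ShortComplex (ModuleCat.{u} A)} (hS : S.ShortExact)

/-- The connecting map. -/
def preδ (j j' : ℤ) (h : j + 1 = j') :
    ShiftedHom (sgl.obj S.X₁) ω j →ₗ[A] ShiftedHom (sgl.obj S.X₃) ω j' where
  toFun ψ := ShiftedHom.comp (show ShiftedHom (sgl.obj S.X₃) (sgl.obj S.X₁) (1 : ℤ) from hS.singleδ) ψ h
  map_add' _ _ := ShiftedHom.comp_add _ _ _ h
  map_smul' _ _ := ShiftedHom.comp_smul _ _ _ h

theorem pre_pre (j : ℤ) (ψ : ShiftedHom (sgl.obj S.X₃) ω j) : pre ω S.f j (pre ω S.g j ψ) = 0 := by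
  show sgl.map S.f ≫ sgl.map S.g ≫ ψ = 0
  rw [← Category.assoc, ← Functor.map_comp, S.zero, Functor.map_zero, zero_comp]

include hS in
theorem exists_pre_g (j : ℤ) (ψ : ShiftedHom (sgl.obj S.X₂) ω j) (h : pre ω S.f j ψ = 0) :
    ∃ χ, pre ω S.g j χ = ψ := by
  obtain ⟨χ, hχ⟩ := Triangle.yoneda_exact₂ _ hS.singleTriangle_distinguished ψ h
  exact ⟨χ, hχ.symm⟩

theorem exists_preδ (j j' : ℤ) (hj : j + 1 = j') (ψ : ShiftedHom (sgl.obj S.X₃) ω j') (h : pre ω S.g j' ψ = 0) :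
    ∃ χ, preδ ω hS j j' hj χ = ψ := by
  obtain ⟨χ, hχ⟩ := Triangle.yoneda_exact₃ _ hS.singleTriangle_distinguished ψ h
  let χ' : (sgl.obj S.X₁)⟦(1 : ℤ)⟧ ⟶ (ω⟦j⟧)⟦(1 : ℤ)⟧ := χ ≫ (shiftFunctorAdd' (Dual.D A) j 1 j' hj).hom.app ω
  refine ⟨(shiftFunctor (Dual.D A) (1 : ℤ)).preimage χ', ?_⟩
  show hS.singleδ ≫ (shiftFunctor (Dual.D A) (1 : ℤ)).map ((shiftFunctor (Dual.D A) (1 : ℤ)).preimage χ') ≫
    (shiftFunctorAdd' (Dual.D A) j 1 j' hj).inv.app ω = ψ
  rw [Functor.map_preimage, Category.assoc, Iso.hom_inv_id_app]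
  erw [Category.comp_id]
  exact hχ.symm

theorem exists_pre_f (j j' : ℤ) (hj : j + 1 = j') (ψ : ShiftedHom (sgl.obj S.X₁) ω j)
    (h : preδ ω hS j j' hj ψ = 0) : ∃ χ, pre ω S.f j χ = ψ := by
  have h0 : hS.singleδ ≫ (shiftFunctor (Dual.D A) (1 : ℤ)).map ψ = 0 := by
    rw [← cancel_mono ((shiftFunctorAdd' (Dual.D A) j 1 j' hj).inv.app ω), zero_comp, Category.assoc]
    exact h
  obtain ⟨χ, hχ⟩ := Triangle.yoneda_exact₃ _
    (rot_of_distTriang _ hS.singleTriangle_distinguished) ((shiftFunctor (Dual.D A) (1 : ℤ)).map ψ) h0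
  refine ⟨(shiftFunctor (Dual.D A) (1 : ℤ)).preimage (-χ), ?_⟩
  refine (shiftFunctor (Dual.D A) (1 : ℤ)).map_injective ?_
  refine Eq.trans ?_ hχ.symm
  show (shiftFunctor (Dual.D A) (1 : ℤ)).map (sgl.map S.f ≫ _) = _
  rw [Functor.map_comp, Functor.map_preimage]
  exact (Preadditive.comp_neg _ _).trans (Preadditive.neg_comp _ _).symm

end Exact

variable [IsLocalRing A] [IsNoetherianRing A] {ω : Dual.D A} (M : Model ω)

/-- The maximal ideal. -/
abbrev mA : Ideal A := IsLocalRing.maximalIdeal A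

/-- The target of the pairing. -/
abbrev T (N : ModuleCat.{u} A) (i : ℕ) : Type _ := ShiftedHom (sgl.obj N) ω (-(i : ℤ)) →ₗ[A] H0 M

/-- Evaluation at one. -/
def val (k : ℕ) : ShiftedHom (sgl.obj (Q mA k)) ω (0 : ℤ) →ₗ[A] H0 M :=
  LinearMap.applyₗ (Submodule.Quotient.mk 1 : A ⧸ mA (A := A) ^ k) ∘ₗ psi M (killed_quotient_pow k)

omit [IsNoetherianRing A] in
theorem val_proj {k k' : ℕ} (h : k ≤ k') (φ : ShiftedHom (sgl.obj (Q mA k)) ω (0 : ℤ)) :
    val M k' (sgl.map (proj mA h) ≫ φ) = val M k φ :=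
  LinearMap.congr_fun (psi_natural M (killed_quotient_pow k) (killed_quotient_pow k')
    (Submodule.mapQ (mA (A := A) ^ k') (mA (A := A) ^ k) LinearMap.id (Ideal.pow_le_pow_right h)) φ) _

variable {N : ModuleCat.{u} A} (i : ℕ)

/-- The pairing with a representative. -/
def phiPre (k : ℕ) : Abelian.Ext (Q mA k) N i →ₗ[A] T M N i where
  toFun a :=
    { toFun := fun ψ => val M k (a.hom.comp ψ (by omega))
      map_add' := fun ψ ψ' => (congrArg (val M k) (ShiftedHom.comp_add _ _ _ _)).trans (map_add _ _ _)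
      map_smul' := fun r ψ => (congrArg (val M k) (ShiftedHom.comp_smul _ _ _ _)).trans (map_smul _ _ _) }
  map_add' a b := LinearMap.ext fun ψ =>
    (congrArg (val M k) ((congrArg (fun t => ShiftedHom.comp t ψ _) (Abelian.Ext.add_hom a b)).trans
      (ShiftedHom.add_comp _ _ _ _))).trans (map_add _ _ _)
  map_smul' r a := LinearMap.ext fun ψ =>
    (congrArg (val M k) ((congrArg (fun t => ShiftedHom.comp t ψ _) (Abelian.Ext.smul_hom a r)).trans
      (ShiftedHom.smul_comp _ _ _ _))).trans (map_smul _ _ _)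

omit [IsNoetherianRing A] in
theorem phiPre_apply (k : ℕ) (a : Abelian.Ext (Q mA k) N i) (ψ : ShiftedHom (sgl.obj N) ω (-(i : ℤ))) :
    phiPre M i k a ψ = val M k (a.hom.comp ψ (by omega)) := rfl

omit [IsNoetherianRing A] in
theorem phiPre_proj {k k' : ℕ} (h : k ≤ k') (a : Abelian.Ext (Q mA k) N i) :
    phiPre M i k' ((Abelian.Ext.mk₀ (proj mA h)).comp a (zero_add i)) = phiPre M i k a := by
  refine LinearMap.ext fun ψ => ?_
  rw [phiPre_apply, phiPre_apply, Abelian.Ext.comp_hom, Abelian.Ext.mk₀_hom,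
    ShiftedHom.comp_assoc _ _ _ _ (show -(i : ℤ) + (i : ℤ) = 0 by omega) (by omega), ShiftedHom.mk₀_comp]
  exact val_proj M h _

omit [IsNoetherianRing A] in
theorem phiPre_eq_of_ι_eq {n m : ℕ} (x : Abelian.Ext (Q mA n) N i) (y : Abelian.Ext (Q mA m) N i)
    (h : ι mA i N n x = ι mA i N m y) : phiPre M i n x = phiPre M i m y := by
  rw [← phiPre_proj M i (le_max_left n m), ← phiPre_proj M i (le_max_right n m) y, ← sub_eq_zero, ← map_sub]
  rw [← ι_proj mA i N (le_max_left n m), ← ι_proj mA i N (le_max_right n m) y, ← sub_eq_zero,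
    ← map_sub, ι_eq_zero_iff] at h
  obtain ⟨k, hk, h0⟩ := h
  rw [← phiPre_proj M i hk, h0, map_zero]

variable (N) in
/-- The duality map. -/
def phi : (localCohomology (mA (A := A)) i).obj N →ₗ[A] T M N i where
  toFun x := phiPre M i _ (exists_ι mA i N x).choose_spec.choose
  map_add' x y := by
    obtain ⟨n, a, rfl⟩ := exists_ι mA i N x
    obtain ⟨m, b, rfl⟩ := exists_ι mA i N y
    rw [phiPre_eq_of_ι_eq M i _ a (exists_ι mA i N (ι mA i N n a)).choose_spec.choose_spec,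
      phiPre_eq_of_ι_eq M i _ b (exists_ι mA i N (ι mA i N m b)).choose_spec.choose_spec,
      ← phiPre_proj M i (le_max_left n m), ← phiPre_proj M i (le_max_right n m) b, ← map_add]
    refine phiPre_eq_of_ι_eq M i _ _ ?_
    rw [(exists_ι mA i N _).choose_spec.choose_spec, map_add, ι_proj, ι_proj]
  map_smul' r x := by
    obtain ⟨n, a, rfl⟩ := exists_ι mA i N x
    rw [phiPre_eq_of_ι_eq M i _ a (exists_ι mA i N (ι mA i N n a)).choose_spec.choose_spec,
      RingHom.id_apply, ← map_smul (phiPre M i n)]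
    refine phiPre_eq_of_ι_eq M i _ _ ?_
    rw [(exists_ι mA i N _).choose_spec.choose_spec, map_smul]

omit [IsNoetherianRing A] in
theorem phi_ι (k : ℕ) (a : Abelian.Ext (Q mA k) N i) : phi M N i (ι mA i N k a) = phiPre M i k a :=
  phiPre_eq_of_ι_eq M i _ a (exists_ι mA i N (ι mA i N k a)).choose_spec.choose_spec

omit [IsNoetherianRing A] in
theorem phi_map {N' : ModuleCat.{u} A} (f : N ⟶ N') (x : (localCohomology (mA (A := A)) i).obj N) :
    phi M N' i ((localCohomology mA i).map f x) = phi M N i x ∘ₗ pre ω f (-(i : ℤ)) := by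
  obtain ⟨k, a, rfl⟩ := exists_ι mA i N x
  rw [map_ι, phi_ι, phi_ι]
  refine LinearMap.ext fun ψ => ?_
  rw [LinearMap.comp_apply, phiPre_apply, phiPre_apply, Abelian.Ext.comp_hom, Abelian.Ext.mk₀_hom,
    ShiftedHom.comp_assoc _ _ _ _ (show -(i : ℤ) + 0 = -(i : ℤ) by omega) (by omega)]
  exact congrArg (val M k) (congrArg (fun t => ShiftedHom.comp a.hom t _) (ShiftedHom.mk₀_comp _ _ _ _))

omit [IsNoetherianRing A] in
theorem phi_δ {S : ShortComplex (ModuleCat.{u} A)} (hS : S.ShortExact)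
    (x : (localCohomology (mA (A := A)) i).obj S.X₃) :
    phi M S.X₁ (i + 1) (δ mA i hS x) =
      phi M S.X₃ i x ∘ₗ preδ ω hS (-((i + 1 : ℕ) : ℤ)) (-(i : ℤ)) (by omega) := by
  obtain ⟨k, a, rfl⟩ := exists_ι mA i S.X₃ x
  rw [δ_ι, phi_ι, phi_ι]
  refine LinearMap.ext fun ψ => ?_
  rw [LinearMap.comp_apply, phiPre_apply, phiPre_apply, Abelian.Ext.comp_hom,
    ShortComplex.ShortExact.extClass_hom,
    ShiftedHom.comp_assoc _ _ _ _ (show -((i + 1 : ℕ) : ℤ) + 1 = -(i : ℤ) by omega) (by omega)]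
  rfl

end Groth.Agent.Dlz27
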