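import Groth.Agent.Lib.RGamma27.ExtColim
import Groth.Agent.Lib.DMod.TruncLE
import Groth.Agent.Lib.HTFin27.Main
import Groth.Prelude.Def_Wider
import Mathlib.Algebra.Homology.HomotopyCategory.HomComplexCohomology

/-!
# A bounded injective model of a dualizing complex
-/

set_option autoImplicit false
universe u

open CategoryTheory CategoryTheory.Limits CochainComplex.HomComplex

attribute [local instance] HasDerivedCategory.standard

noncomputable section

namespace Groth.Agent.Dlz27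

open RGamma27

variable {A : Type u} [CommRing A]

/-- Every cocycle `N → W^i` is a coboundary. -/
def Van (W : DRing.Cx A) (N : Type u) [AddCommGroup N] [Module A N] (i : ℤ) : Prop :=
  ∀ f : N →ₗ[A] W.X i, (W.d i (i + 1)).hom ∘ₗ f = 0 →
    ∃ g : N →ₗ[A] W.X (i - 1), (W.d (i - 1) i).hom ∘ₗ g = f

variable {W : DRing.Cx A} {ω : Dual.D A}

theorem subsingleton_hom_iff_van [W.IsKInjective] (e : DerivedCategory.Q.obj W ≅ ω) (N : Type u)
    [AddCommGroup N] [Module A N] (i : ℤ) :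
    Subsingleton (Dual.inD A N ⟶ ω⟦i⟧) ↔ Van W N i := by
  constructor
  · intro h f hf
    let f' : ModuleCat.of A N ⟶ W.X i := ModuleCat.ofHom f
    have hf' : f' ≫ W.d i (i + 1) = 0 := ModuleCat.hom_ext hf
    have h0 : el f' hf' = 0 := by
      rw [← cancel_mono ((shiftFunctor (Dual.D A) i).mapIso e).hom, zero_comp]
      exact h.elim _ _
    obtain ⟨g, hg⟩ := (el_eq_zero_iff f' hf').1 h0
    exact ⟨g.hom, congrArg ModuleCat.Hom.hom hg⟩
  · intro h
    refine ⟨fun φ ψ => ?_⟩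
    suffices H : ∀ φ : Dual.inD A N ⟶ ω⟦i⟧, φ = 0 from (H φ).trans (H ψ).symm
    intro φ
    obtain ⟨f, hf, hφ⟩ := el_surjective (φ ≫ (shiftFunctor (Dual.D A) i).map e.inv)
    obtain ⟨g, hg⟩ := h f.hom (congrArg ModuleCat.Hom.hom hf)
    have h0 : el f hf = 0 := (el_eq_zero_iff f hf).2 ⟨ModuleCat.ofHom g, ModuleCat.hom_ext hg⟩
    rw [← cancel_mono ((shiftFunctor (Dual.D A) i).mapIso e).inv, zero_comp]
    exact hφ.symm.trans h0

theorem Van.prev {N : Type u} [AddCommGroup N] [Module A N] {i : ℤ} (h : Van W N i) {j : ℤ} (hj : j + 1 = i)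
    (f : N →ₗ[A] W.X i) (hf : (W.d i (i + 1)).hom ∘ₗ f = 0) :
    ∃ g : N →ₗ[A] W.X j, (W.d j i).hom ∘ₗ g = f := by
  obtain rfl : j = i - 1 := by omega
  exact h f hf

theorem exact_of_van (i : ℤ) (h : Van W A i) (x : W.X i) (hx : W.d i (i + 1) x = 0) :
    ∃ y, W.d (i - 1) i y = x := by
  obtain ⟨g, hg⟩ := h (LinearMap.toSpanSingleton A (W.X i) x) (LinearMap.ext_ring (by simpa using hx))
  exact ⟨g 1, (LinearMap.congr_fun hg 1).trans (one_smul A x)⟩

theorem subsingleton_HD (e : DerivedCategory.Q.obj W ≅ ω) (i : ℤ) (h : Van W A i) :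
    Subsingleton (Dual.HD A ω i) := by
  have h1 : Subsingleton (Dual.HD A (DRing.toD W) i) :=
    (DMod.subsingleton_HD_toD_iff W i).2 ((DMod.subsingleton_homology_iff W (i := i - 1) (k := i + 1)
      (by simp) (by simp)).2 (exact_of_van i h))
  exact ((DerivedCategory.homologyFunctor (ModuleCat.{u} A) i).mapIso e).toLinearEquiv.symm.toEquiv.subsingleton

variable (ω) in
theorem exists_model_of_injdim (hinjdim : ∃ a b : ℤ, ∀ (M : Type u) [AddCommGroup M] [Module A M] (i : ℤ),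
      (i < a ∨ b < i) → Subsingleton (Dual.inD A M ⟶ ω⟦i⟧)) :
    ∃ (W : DRing.Cx A) (a b : ℤ), W.IsStrictlyGE a ∧ W.IsStrictlyLE b ∧
      (∀ i, Injective (W.X i)) ∧ W.IsKInjective ∧ Nonempty (DerivedCategory.Q.obj W ≅ ω) := by
  obtain ⟨a, b, hab⟩ := hinjdim
  obtain ⟨I, hI, ⟨e⟩⟩ := KInjLib.exists_iso_kInjective ω
  have hlow : ∀ i : ℤ, i < a → Subsingleton (Dual.HD A ω i) := fun i hi =>
    subsingleton_HD e.symm i ((subsingleton_hom_iff_van e.symm A i).1 (hab A i (Or.inl hi)))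
  have hhigh : ∀ i : ℤ, b < i → Subsingleton (Dual.HD A ω i) := fun i hi =>
    subsingleton_HD e.symm i ((subsingleton_hom_iff_van e.symm A i).1 (hab A i (Or.inr hi)))
  obtain ⟨W, hW, hWi, hWK, ⟨e'⟩⟩ := HTFin27.exists_res_bounded ω a hlow
  have hle : (DRing.toD W).IsLE b := (DMod.isLE_iff _ b).2 fun i hi => by
    have := hhigh i hi
    exact ((DerivedCategory.homologyFunctor (ModuleCat.{u} A) i).mapIso e').toLinearEquiv.toEquiv.subsingleton
  obtain ⟨e''⟩ := DMod.exists_truncTo_iso W b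
  obtain ⟨hV1, hV2⟩ := (DMod.vanishesOutside_iff (DMod.truncTo W b) a b).1 (DMod.vanishesOutside_truncTo W b a)
  have hinj : ∀ i, Injective ((DMod.truncTo W b).X i) := by
    intro i
    rcases lt_trichotomy i b with h | rfl | h
    · exact Injective.of_iso (DMod.truncToXEquiv W h).toModuleIso.symm (hWi i)
    · let Z := ↥(LinearMap.ker (W.d (i + 1) (i + 1 + 1)).hom)
      obtain ⟨t, ht⟩ := ((subsingleton_hom_iff_van e' Z (i + 1)).1 (hab Z (i + 1) (Or.inr (by omega)))).prev rfl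
        (LinearMap.ker (W.d (i + 1) (i + 1 + 1)).hom).subtype (LinearMap.ext fun x => x.2)
      have hdd : ∀ x : W.X i, W.d (i + 1) (i + 1 + 1) (W.d i (i + 1) x) = 0 := fun x =>
        congrArg (fun f : W.X i ⟶ W.X (i + 1 + 1) => f x) (W.d_comp_d i (i + 1) (i + 1 + 1))
      let δ : W.X i →ₗ[A] Z := (W.d i (i + 1)).hom.codRestrict _ hdd
      have hker : ∀ x : W.X i, x - t (δ x) ∈ LinearMap.ker (W.d i (i + 1)).hom := fun x => by
        rw [LinearMap.mem_ker, map_sub, sub_eq_zero]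
        exact (LinearMap.congr_fun ht (δ x)).symm
      let r : W.X i →ₗ[A] ↥(LinearMap.ker (W.d i (i + 1)).hom) :=
        (LinearMap.id - t ∘ₗ δ).codRestrict _ hker
      have hrs : r ∘ₗ (LinearMap.ker (W.d i (i + 1)).hom).subtype = LinearMap.id := by
        refine LinearMap.ext fun x => Subtype.ext ?_
        show (x : W.X i) - t (δ x) = x
        rw [show δ x = 0 from Subtype.ext x.2, map_zero, sub_zero]
      have : Injective (ModuleCat.of A ↥(LinearMap.ker (W.d i (i + 1)).hom)) :=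
        @Retract.injective _ _ _ _ ⟨ModuleCat.ofHom (LinearMap.ker (W.d i (i + 1)).hom).subtype,
          ModuleCat.ofHom r, ModuleCat.hom_ext hrs⟩ (hWi i)
      exact Injective.of_iso (DMod.truncToTopEquiv W i).toModuleIso.symm this
    · exact (DMod.isZero_truncTo_X W h).injective
  exact ⟨DMod.truncTo W b, a, b, hV1, hV2, hinj, CochainComplex.isKInjective_of_injective _ a,
    ⟨e'' ≪≫ e'⟩⟩

variable (ω) in
theorem exists_model (hω : Dual.IsDualizing A ω) :
    ∃ (W : DRing.Cx A) (a b : ℤ), W.IsStrictlyGE a ∧ W.IsStrictlyLE b ∧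
      (∀ i, Injective (W.X i)) ∧ W.IsKInjective ∧ Nonempty (DerivedCategory.Q.obj W ≅ ω) :=
  exists_model_of_injdim ω hω.finite_injective_dimension

section Endo

variable [W.IsKInjective] (e : DerivedCategory.Q.obj W ≅ ω) (hω : Dual.IsDualizing A ω)

include e hω in
theorem exists_delta_of_cocycle {n : ℤ} (hn : n ≠ 0) (z : Cochain W W n)
    (hz : δ n (n + 1) z = 0) : ∃ w : Cochain W W (n - 1), δ (n - 1) n w = z := by
  let c : Cocycle W W n := Cocycle.mk z (n + 1) rfl hz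
  have hQ : DerivedCategory.Q.map (Cocycle.equivHomShift.symm c) = DerivedCategory.Q.map 0 := by
    rw [Functor.map_zero]
    refine (cancel_mono ((DerivedCategory.Q.commShiftIso n).hom.app W ≫
      (shiftFunctor (Dual.D A) n).map e.hom)).1 ?_
    rw [zero_comp, ← cancel_epi e.inv, comp_zero]
    exact (hω.ext_self_subsingleton n hn).elim _ _
  have hc : c ∈ coboundaries W W n := by
    rw [← CohomologyClass.toHom_mk_eq_zero_iff, CohomologyClass.toHom_mk]
    obtain ⟨H⟩ := (KInjLib.map_eq_iff _ _).1 hQ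
    rw [HomotopyCategory.eq_of_homotopy _ _ H, Functor.map_zero]
  exact (mem_coboundaries_iff c (n - 1) (by omega)).1 hc

include e hω in
theorem exists_scalar_of_cocycle (z : Cochain W W 0) (hz : δ 0 1 z = 0) :
    ∃ (a : A) (w : Cochain W W (-1)), z = a • Cochain.ofHom (𝟙 W) + δ (-1) 0 w := by
  let c : Cocycle W W 0 := Cocycle.mk z 1 rfl hz
  obtain ⟨a, ha⟩ := hω.toEnd_bijective.2 (e.inv ≫ DerivedCategory.Q.map (Cocycle.homOf c) ≫ e.hom)
  have hQ : DerivedCategory.Q.map (Cocycle.homOf c) = DerivedCategory.Q.map (a • 𝟙 W) := by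
    rw [Functor.map_smul, CategoryTheory.Functor.map_id, ← cancel_epi e.inv, ← cancel_mono e.hom,
      Category.assoc]
    refine ha.symm.trans ?_
    simp only [Linear.comp_smul, Linear.smul_comp, Category.comp_id, Iso.inv_hom_id]
  obtain ⟨H⟩ := (KInjLib.map_eq_iff _ _).1 hQ
  obtain ⟨w, hw⟩ := Cochain.equivHomotopy _ _ H
  refine ⟨a, w, ?_⟩
  have h1 : Cochain.ofHom (Cocycle.homOf c) = z := Cocycle.cochain_ofHom_homOf_eq_coe c
  have h2 : Cochain.ofHom (a • 𝟙 W) = a • Cochain.ofHom (𝟙 W) := by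
    ext p; simp
  rw [← h1, hw, h2, add_comm]

include e hω in
theorem eq_zero_of_scalar {a : A} {w : Cochain W W (-1)}
    (h : a • Cochain.ofHom (𝟙 W) = δ (-1) 0 w) : a = 0 := by
  refine hω.toEnd_bijective.1 (a₂ := 0) ?_
  show a • 𝟙 ω = (0 : A) • 𝟙 ω
  have h2 : Cochain.ofHom (a • 𝟙 W) = a • Cochain.ofHom (𝟙 W) := by
    ext p; simp
  have H : Homotopy (a • 𝟙 W) 0 := (Cochain.equivHomotopy _ _).symm ⟨w, by rw [h2, h, Cochain.ofHom_zero, add_zero]⟩
  have hQ : DerivedCategory.Q.map (a • 𝟙 W) = DerivedCategory.Q.map 0 := (KInjLib.map_eq_iff _ _).2 ⟨H⟩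
  rw [Functor.map_zero, Functor.map_smul, CategoryTheory.Functor.map_id] at hQ
  calc a • 𝟙 ω = e.inv ≫ (a • 𝟙 _) ≫ e.hom := by simp
    _ = e.inv ≫ 0 ≫ e.hom := by rw [hQ]
    _ = (0 : A) • 𝟙 ω := by simp

end Endo

end Groth.Agent.Dlz27
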