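import Groth.Agent.Lib.Dlz27.Flat
import Mathlib.Algebra.Module.Torsion.Basic
import Mathlib.LinearAlgebra.Dual.Lemmas
import Mathlib.LinearAlgebra.Basis.VectorSpace

/-!
# A dualizing complex has a single residual degree at a maximal ideal
-/

set_option autoImplicit false
universe u

open CategoryTheory CategoryTheory.Limits CochainComplex.HomComplex

attribute [local instance] HasDerivedCategory.standard

noncomputable section

namespace Groth.Agent.Dlz27

variable {A : Type u} [CommRing A]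

/-- Functionals on a module killed by a maximal ideal. -/
theorem exists_functional (m : Ideal A) [m.IsMaximal] {X : Type u} [AddCommGroup X] [Module A X]
    (hX : ∀ a ∈ m, ∀ x : X, a • x = 0) (U : Submodule A X) {x : X} (hx : x ∉ U) :
    ∃ P : X →ₗ[A] A ⧸ m, P x = 1 ∧ ∀ v ∈ U, P v = 0 := by
  letI := Ideal.Quotient.field m
  let hTor : Module.IsTorsionBySet A (X ⧸ U) (m : Set A) := fun v a => by
    obtain ⟨v, rfl⟩ := Submodule.Quotient.mk_surjective U v
    rw [← Submodule.Quotient.mk_smul, hX a.1 a.2 v, Submodule.Quotient.mk_zero]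
  letI : Module (A ⧸ m) (X ⧸ U) := hTor.module
  haveI : IsScalarTower A (A ⧸ m) (X ⧸ U) := hTor.isScalarTower
  have hx0 : (Submodule.Quotient.mk x : X ⧸ U) ≠ 0 := fun h => hx ((Submodule.Quotient.mk_eq_zero U).1 h)
  obtain ⟨f, hf⟩ := Module.Projective.exists_dual_eq_one (A ⧸ m) hx0
  refine ⟨(f.restrictScalars A) ∘ₗ U.mkQ, hf, fun v hv => ?_⟩
  show f (Submodule.Quotient.mk v) = 0
  rw [(Submodule.Quotient.mk_eq_zero U).2 hv, map_zero]

/-- Complements in a module killed by a maximal ideal. -/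
theorem exists_isCompl_killed (m : Ideal A) [m.IsMaximal] {X : Type u} [AddCommGroup X] [Module A X]
    (hX : ∀ a ∈ m, ∀ x : X, a • x = 0) (U : Submodule A X) : ∃ Q : Submodule A X, IsCompl U Q := by
  letI := Ideal.Quotient.field m
  let hTor : Module.IsTorsionBySet A X (m : Set A) := fun v a => hX a.1 a.2 v
  letI : Module (A ⧸ m) X := hTor.module
  haveI : IsScalarTower A (A ⧸ m) X := hTor.isScalarTower
  let U' : Submodule (A ⧸ m) X :=
    { U.toAddSubmonoid with
      smul_mem' := fun c v hv => by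
        obtain ⟨c, rfl⟩ := Ideal.Quotient.mk_surjective c
        exact U.smul_mem c hv }
  obtain ⟨Q, hQ⟩ := exists_isCompl U'
  refine ⟨Q.restrictScalars A, IsCompl.of_eq ?_ ?_⟩
  · refine (Submodule.eq_bot_iff _).2 fun v ⟨h1, h2⟩ => ?_
    exact (Submodule.mem_bot (A ⧸ m)).1 (hQ.inf_eq_bot ▸ (⟨h1, h2⟩ : v ∈ U' ⊓ Q))
  · refine Submodule.eq_top_iff'.2 fun v => ?_
    obtain ⟨p, hp, q, hq, rfl⟩ := Submodule.mem_sup.1
      (show v ∈ U' ⊔ Q by rw [hQ.sup_eq_top]; exact Submodule.mem_top)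
    exact Submodule.add_mem_sup hp hq

theorem exists_add_of_isCompl {X : Type u} [AddCommGroup X] [Module A X] {U Q : Submodule A X} (h : IsCompl U Q)
    (v : X) : ∃ z ∈ U, ∃ u ∈ Q, z + u = v :=
  Submodule.mem_sup.1 (by rw [h.sup_eq_top]; exact Submodule.mem_top)

variable (W : DRing.Cx A) (m : Ideal A)

/-- The elements killed by `m`. -/
abbrev Xk (i : ℤ) : Submodule A (W.X i) := Submodule.torsionBySet A (W.X i) (m : Set A)

theorem mem_Xk {i : ℤ} {x : W.X i} : x ∈ Xk W m i ↔ ∀ a ∈ m, a • x = 0 := by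
  simp [Xk, Submodule.mem_torsionBySet_iff]

theorem map_mem_Xk {i j : ℤ} (f : W.X i →ₗ[A] W.X j) {x : W.X i} (hx : x ∈ Xk W m i) : f x ∈ Xk W m j := by
  rw [mem_Xk] at hx ⊢
  intro a ha
  rw [← map_smul, hx a ha, map_zero]

theorem d_d (i j k : ℤ) (x : W.X i) : W.d j k (W.d i j x) = 0 :=
  congrArg (fun f : W.X i ⟶ W.X k => f x) (W.d_comp_d i j k)

/-- A cochain vanishing on the killed elements is a combination with coefficients in `m`. -/
theorem exists_combination (hWi : ∀ i, Injective (W.X i)) {r : ℕ} (g : Fin r → A)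
    (hg : Ideal.span (Set.range g) = m) {n : ℤ} (c : Cochain W W n)
    (hc : ∀ p q hpq, ∀ x ∈ Xk W m p, c.v p q hpq x = 0) :
    ∃ cl : Fin r → Cochain W W n, c = ∑ l, g l • cl l := by
  classical
  have key : ∀ T : Triplet n, ∃ φ : Fin r → (W.X T.p →ₗ[A] W.X T.q),
      (c.v T.p T.q T.hpq).hom = ∑ l, g l • φ l := fun T => by
    let t : W.X T.p →ₗ[A] (Fin r → W.X T.p) := LinearMap.pi fun l => g l • LinearMap.id
    obtain ⟨Ψ, hΨ⟩ := factor_of_ker_le ((Module.injective_iff_injective_object A _).2 (hWi T.q)) t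
      (c.v T.p T.q T.hpq).hom (fun x hx => LinearMap.mem_ker.2 (hc _ _ _ x ((mem_Xk W m).2 fun a ha => by
        have hle : Ideal.span (Set.range g) ≤ LinearMap.ker (LinearMap.toSpanSingleton A (W.X T.p) x) := by
          refine Ideal.span_le.2 ?_
          rintro _ ⟨l, rfl⟩
          exact congrFun (LinearMap.mem_ker.1 hx) l
        exact hle (hg ▸ ha))))
    refine ⟨fun l => Ψ ∘ₗ LinearMap.single A (fun _ => W.X T.p) l, LinearMap.ext fun x => ?_⟩
    rw [← hΨ, LinearMap.sum_apply, LinearMap.comp_apply]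
    have ht : t x = ∑ l, g l • Pi.single l x := by
      funext i
      simp [t, Pi.single_apply, Finset.sum_apply]
    rw [ht, map_sum]
    exact Finset.sum_congr rfl fun l _ => by rw [map_smul]; rfl
  choose φ hφ using key
  refine ⟨fun l => Cochain.mk fun p q hpq => ModuleCat.ofHom (φ ⟨p, q, hpq⟩ l), ?_⟩
  ext p q hpq : 1
  rw [sum_v]
  apply ModuleCat.hom_ext
  simpa using hφ ⟨p, q, hpq⟩

theorem sum_smul_killed {r : ℕ} (g : Fin r → A) (hg : ∀ l, g l ∈ m) {n : ℤ} (cl : Fin r → Cochain W W n)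
    (p q : ℤ) (hpq : p + n = q) {x : W.X p} (hx : x ∈ Xk W m p) :
    (∑ l, g l • cl l).v p q hpq x = 0 := by
  rw [sum_v]
  refine (congrArg (fun f : W.X p →ₗ[A] W.X q => f x) (map_sum (ModuleCat.homAddEquiv) _ _)).trans ?_
  rw [LinearMap.sum_apply]
  refine Finset.sum_eq_zero fun l _ => ?_
  show g l • (cl l).v p q hpq x = 0
  rw [← map_smul, (mem_Xk W m).1 hx _ (hg l), map_zero]

/-- `m`-killed cocycles. -/
def XCy (i : ℤ) (x : W.X i) : Prop := x ∈ Xk W m i ∧ W.d i (i + 1) x = 0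

/-- Boundaries of `m`-killed elements. -/
def XBd (i : ℤ) (x : W.X i) : Prop := ∃ y ∈ Xk W m (i - 1), W.d (i - 1) i y = x

variable {W m}
variable [IsNoetherianRing A] [W.IsKInjective] [m.IsMaximal] {ω : Dual.D A}
variable (e : DerivedCategory.Q.obj W ≅ ω) (hω : Dual.IsDualizing A ω)
variable (hWi : ∀ i, Injective (W.X i)) {a₀ b₀ : ℤ} [W.IsStrictlyGE a₀] [W.IsStrictlyLE b₀]

omit [W.IsKInjective] in
include hWi in
/-- The cochain sending a nonzero class to a given one. -/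
theorem exists_test {i j n : ℤ} (hn : i + n = j) {x : W.X i} (hx : XCy W m i x) (hxb : ¬ XBd W m i x)
    {y : W.X j} (hy : XCy W m j y) :
    ∃ c : Cochain W W n, c.v i j hn x = y ∧ ∀ p q hpq, ∀ v ∈ Xk W m p, (δ n (n + 1) c).v p q hpq v = 0 := by
  classical
  let B : Submodule A (Xk W m i) := (((Xk W m (i - 1)).map (W.d (i - 1) i).hom)).comap (Xk W m i).subtype
  have hxB : (⟨x, hx.1⟩ : Xk W m i) ∉ B := fun h => by
    obtain ⟨z, hz, hzx⟩ := Submodule.mem_map.1 (Submodule.mem_comap.1 h)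
    exact hxb ⟨z, hz, hzx⟩
  obtain ⟨P, hPx, hPB⟩ := exists_functional m (X := Xk W m i)
    (fun a ha v => Subtype.ext ((mem_Xk W m).1 v.2 a ha)) B hxB
  let ε : A ⧸ m →ₗ[A] W.X j := Submodule.liftQ m (LinearMap.toSpanSingleton A (W.X j) y)
    fun a ha => (mem_Xk W m).1 hy.1 a ha
  obtain ⟨φ, hφ⟩ := ((Module.injective_iff_injective_object A _).2 (hWi j)).out (Xk W m i).subtype
    (Xk W m i).injective_subtype (ε ∘ₗ P)
  refine ⟨Cochain.single (ModuleCat.ofHom φ) n, ?_, fun p q hpq v hv => ?_⟩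
  · rw [Cochain.single_v]
    refine (hφ ⟨x, hx.1⟩).trans ?_
    show ε (P ⟨x, hx.1⟩) = y
    rw [hPx]
    exact one_smul A y
  · rw [δ_v n (n + 1) rfl _ p q hpq (q - 1) (p + 1) rfl rfl]
    have h1 : W.d (q - 1) q ((Cochain.single (ModuleCat.ofHom φ) n).v p (q - 1) (by omega) v) = 0 := by
      by_cases hp : p = i
      · subst hp
        obtain rfl : j = q - 1 := by omega
        rw [Cochain.single_v]
        refine (congrArg (W.d (q - 1) q) (hφ ⟨v, hv⟩)).trans ?_
        show W.d (q - 1) q (ε (P ⟨v, hv⟩)) = 0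
        obtain ⟨t, ht⟩ := Submodule.Quotient.mk_surjective m (P ⟨v, hv⟩)
        rw [← ht]
        show W.d (q - 1) q (t • y) = 0
        have hd := hy.2
        rw [show q - 1 + 1 = q by omega] at hd
        rw [map_smul, hd, smul_zero]
      · rw [Cochain.single_v_eq_zero _ _ _ _ _ hp]; exact map_zero _
    have h2 : (Cochain.single (ModuleCat.ofHom φ) n).v (p + 1) q (by omega) (W.d p (p + 1) v) = 0 := by
      by_cases hp : p + 1 = i
      · subst hp
        obtain rfl : j = q := by omega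
        rw [Cochain.single_v]
        refine (hφ ⟨_, map_mem_Xk W m (W.d p (p + 1)).hom hv⟩).trans ?_
        show ε (P _) = 0
        rw [hPB _ (Submodule.mem_comap.2 ?_), map_zero]
        have key : ∀ q', q' = p → W.d p (p + 1) v ∈ (Xk W m q').map (W.d q' (p + 1)).hom := by
          rintro q' rfl
          exact ⟨v, hv, rfl⟩
        exact key _ (by omega)
      · rw [Cochain.single_v_eq_zero _ _ _ _ _ hp]; rfl
    show (W.d (q - 1) q) ((Cochain.single (ModuleCat.ofHom φ) n).v p (q - 1) _ v) +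
      (((n + 1).negOnePow • (W.d p (p + 1) ≫ (Cochain.single (ModuleCat.ofHom φ) n).v (p + 1) q _)).hom v) = 0
    rw [h1, zero_add]
    show (n + 1).negOnePow • ((Cochain.single (ModuleCat.ofHom φ) n).v (p + 1) q _ (W.d p (p + 1) v)) = 0
    rw [h2, smul_zero]

include e hω hWi a₀ b₀ in
/-- Above a nonzero class there is none. -/
theorem XBd_of_lt {i j : ℤ} (hij : i < j) {x : W.X i} (hx : XCy W m i x) (hxb : ¬ XBd W m i x)
    {y : W.X j} (hy : XCy W m j y) : XBd W m j y := by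
  obtain ⟨r, g, hg⟩ := Submodule.fg_iff_exists_fin_generating_family.1 (IsNoetherian.noetherian m)
  have hgm : ∀ l, g l ∈ m := fun l => hg ▸ Submodule.subset_span ⟨l, rfl⟩
  obtain ⟨c, hcx, hc⟩ := exists_test hWi (show i + (j - i) = j by omega) hx hxb hy
  obtain ⟨cl, hcl⟩ := exists_combination W m hWi g hg _ hc
  obtain ⟨w, hw⟩ := exists_cocycle_lift e hω hWi (a := a₀) (b := b₀) (by omega) g c cl hcl
  obtain ⟨t, ht⟩ := exists_delta_of_cocycle e hω (show j - i ≠ 0 by omega) _ hw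
  refine ⟨t.v i (j - 1) (by omega) x, map_mem_Xk W m _ hx.1, ?_⟩
  have h := congrArg (fun z : Cochain W W (j - i) => z.v i j (by omega) x) ht
  dsimp only at h
  rw [δ_v (j - i - 1) (j - i) (by omega) _ i j _ (j - 1) (i + 1) rfl rfl, Cochain.sub_v] at h
  have h' : W.d (j - 1) j (t.v i (j - 1) (by omega) x) +
      (j - i).negOnePow • (t.v (i + 1) j (by omega) (W.d i (i + 1) x)) =
      c.v i j (by omega) x - (∑ l, g l • w l).v i j (by omega) x := h
  rw [hx.2, map_zero, smul_zero, add_zero, sum_smul_killed W m g hgm w _ _ _ hx.1, sub_zero, hcx] at h'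
  exact h'

include e hω hWi a₀ b₀ in
/-- The classes in one degree are multiples of any nonzero one. -/
theorem exists_smul_of_eq {i : ℤ} {x : W.X i} (hx : XCy W m i x) (hxb : ¬ XBd W m i x)
    {y : W.X i} (hy : XCy W m i y) : ∃ a : A, XBd W m i (y - a • x) := by
  obtain ⟨r, g, hg⟩ := Submodule.fg_iff_exists_fin_generating_family.1 (IsNoetherian.noetherian m)
  have hgm : ∀ l, g l ∈ m := fun l => hg ▸ Submodule.subset_span ⟨l, rfl⟩
  obtain ⟨c, hcx, hc⟩ := exists_test hWi (show i + 0 = i by omega) hx hxb hy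
  obtain ⟨cl, hcl⟩ := exists_combination W m hWi g hg _ hc
  obtain ⟨w, hw⟩ := exists_cocycle_lift e hω hWi (a := a₀) (b := b₀) (le_refl 0) g c cl hcl
  obtain ⟨a, t, ht⟩ := exists_scalar_of_cocycle e hω _ hw
  refine ⟨a, t.v i (i - 1) (by omega) x, map_mem_Xk W m _ hx.1, ?_⟩
  have h := congrArg (fun z : Cochain W W 0 => z.v i i (add_zero i) x) ht
  dsimp only at h
  rw [Cochain.add_v, δ_v (-1) 0 (by omega) _ i i _ (i - 1) (i + 1) rfl rfl, Cochain.sub_v, Cochain.smul_v,
    Cochain.ofHom_v] at h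
  have h' : c.v i i (add_zero i) x - (∑ l, g l • w l).v i i (add_zero i) x =
      a • x + (W.d (i - 1) i (t.v i (i - 1) (by omega) x) +
        (0 : ℤ).negOnePow • (t.v (i + 1) i (by omega) (W.d i (i + 1) x))) := h
  rw [hx.2, map_zero, smul_zero, add_zero, sum_smul_killed W m g hgm w _ _ _ hx.1, sub_zero, hcx] at h'
  rw [h', add_sub_cancel_left]

include e hω hWi a₀ b₀ in
/-- Some class is nonzero. -/
theorem exists_class : ∃ (i : ℤ) (x : W.X i), XCy W m i x ∧ ¬ XBd W m i x := by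
  classical
  by_contra hcon
  push Not at hcon
  obtain ⟨r, g, hg⟩ := Submodule.fg_iff_exists_fin_generating_family.1 (IsNoetherian.noetherian m)
  have hgm : ∀ l, g l ∈ m := fun l => hg ▸ Submodule.subset_span ⟨l, rfl⟩
  let Z : ∀ i, Submodule A (Xk W m i) := fun i => (LinearMap.ker (W.d i (i + 1)).hom).comap (Xk W m i).subtype
  choose Q hQ using fun i => exists_isCompl_killed m (X := Xk W m i)
    (fun a ha v => Subtype.ext ((mem_Xk W m).1 v.2 a ha)) (Z i)
  have hd0 : ∀ q p (hp : q + 1 = p) (v : Xk W m q), W.d q p v.1 = 0 → v ∈ Z q := by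
    rintro q _ rfl v hv; exact hv
  have key : ∀ T : Triplet (-1), ∃ φ : W.X T.p →ₗ[A] W.X T.q,
      (∀ v : Xk W m T.p, v ∈ Q T.p → φ v.1 = 0) ∧
      (∀ u : Xk W m T.q, u ∈ Q T.q → φ (W.d T.q T.p u.1) = u.1) := by
    rintro ⟨p, q, hpq⟩
    have hp : q + 1 = p := by omega
    let D : ↥(Q q) →ₗ[A] Z p :=
      ((((W.d q p).hom ∘ₗ (Xk W m q).subtype ∘ₗ (Q q).subtype)).codRestrict (Xk W m p)
        (fun u => map_mem_Xk W m _ u.1.2)).codRestrict (Z p) (fun u => d_d W q p (p + 1) _)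
    have hDinj : Function.Injective D := by
      rw [injective_iff_map_eq_zero]
      intro u hu
      have h0 : W.d q p u.1.1 = 0 := congrArg (fun z : Z p => z.1.1) hu
      exact Subtype.ext ((Submodule.mem_bot A).1 ((hQ q).inf_eq_bot ▸ ⟨hd0 q p hp u.1 h0, u.2⟩))
    have hDsurj : Function.Surjective D := by
      rintro ⟨⟨z, hz⟩, hzd⟩
      obtain ⟨y, hy, hyz⟩ := hcon p z ⟨hz, hzd⟩
      obtain rfl : q = p - 1 := by omega
      obtain ⟨z', hz', u, hu, hsum⟩ := exists_add_of_isCompl (hQ (p - 1)) ⟨y, hy⟩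
      refine ⟨⟨u, hu⟩, Subtype.ext (Subtype.ext ?_)⟩
      show W.d (p - 1) p u.1 = z
      have hzero : W.d (p - 1) p z'.1 = 0 := by
        have : W.d (p - 1) (p - 1 + 1) z'.1 = 0 := hz'
        rwa [show p - 1 + 1 = p by omega] at this
      rw [← hyz, ← show z'.1 + u.1 = y from congrArg Subtype.val hsum, map_add, hzero, zero_add]
    let E := LinearEquiv.ofBijective D ⟨hDinj, hDsurj⟩
    obtain ⟨φ, hφ⟩ := ((Module.injective_iff_injective_object A _).2 (hWi q)).out (Xk W m p).subtype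
      (Xk W m p).injective_subtype
      ((Xk W m q).subtype ∘ₗ (Q q).subtype ∘ₗ E.symm.toLinearMap ∘ₗ (Z p).projectionOnto (Q p) (hQ p))
    refine ⟨φ, fun v hv => ?_, fun u hu => ?_⟩
    · refine (hφ v).trans ?_
      simp [Submodule.projectionOnto_apply_of_mem_right (hQ p) hv]
    · refine (hφ ⟨_, map_mem_Xk W m (W.d q p).hom u.2⟩).trans ?_
      have h1 : (Z p).projectionOnto (Q p) (hQ p) ⟨_, map_mem_Xk W m (W.d q p).hom u.2⟩ = E ⟨u, hu⟩ :=
        Submodule.projectionOnto_apply_left (hQ p) (E ⟨u, hu⟩)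
      simp [h1]
  choose φ hφQ hφd using key
  let H : Cochain W W (-1) := Cochain.mk fun p q hpq => ModuleCat.ofHom (φ ⟨p, q, hpq⟩)
  have hvan : ∀ p q hpq, ∀ v ∈ Xk W m p, (Cochain.ofHom (𝟙 W) - δ (-1) 0 H).v p q hpq v = 0 := by
    intro p q hpq v hv
    obtain rfl : p = q := by omega
    rw [Cochain.sub_v, δ_v (-1) 0 (by omega) _ p p _ (p - 1) (p + 1) rfl rfl, Cochain.ofHom_v]
    show v - (W.d (p - 1) p (φ ⟨p, p - 1, by omega⟩ v) + (0 : ℤ).negOnePow • (φ ⟨p + 1, p, by omega⟩ (W.d p (p + 1) v))) = 0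
    rw [Int.negOnePow_zero, one_smul]
    obtain ⟨z, hz, u, hu, hsum⟩ := exists_add_of_isCompl (hQ p) ⟨v, hv⟩
    have hv' : v = z.1 + u.1 := (congrArg Subtype.val hsum).symm
    obtain ⟨y, hy, hyz⟩ := hcon p z.1 ⟨z.2, hz⟩
    obtain ⟨z', hz', u', hu', hsum'⟩ := exists_add_of_isCompl (hQ (p - 1)) ⟨y, hy⟩
    have hzero : W.d (p - 1) p z'.1 = 0 := by
      have : W.d (p - 1) (p - 1 + 1) z'.1 = 0 := hz'
      rwa [show p - 1 + 1 = p by omega] at this
    have hz1 : z.1 = W.d (p - 1) p u'.1 := by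
      rw [← hyz, ← show z'.1 + u'.1 = y from congrArg Subtype.val hsum', map_add, hzero, zero_add]
    have hA : φ ⟨p, p - 1, by omega⟩ v = u'.1 := by
      rw [hv', map_add, hz1, hφd ⟨p, p - 1, by omega⟩ u' hu', hφQ ⟨p, p - 1, by omega⟩ u hu, add_zero]
    have hB : φ ⟨p + 1, p, by omega⟩ (W.d p (p + 1) v) = u.1 := by
      rw [hv', map_add, show W.d p (p + 1) z.1 = 0 from hz, zero_add, hφd ⟨p + 1, p, by omega⟩ u hu]
    rw [hA, hB, ← hz1, ← hv', sub_self]
  obtain ⟨cl, hcl⟩ := exists_combination W m hWi g hg _ hvan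
  have hcy : δ 0 (0 + 1) (∑ l, g l • cl l) = 0 := by
    rw [← hcl, δ_sub, δ_ofHom, δ_δ, sub_zero]
  obtain ⟨z, hz, hzc⟩ := exists_rel_lift e hω hWi (a := a₀) (b := b₀) (le_refl 0) g cl hcy
  choose s t hst using fun l => exists_scalar_of_cocycle e hω (z l) (hz l)
  have h1 : Cochain.ofHom (𝟙 W) - δ (-1) 0 H =
      (∑ l, g l * s l) • Cochain.ofHom (𝟙 W) + δ (-1) 0 (∑ l, g l • t l) := by
    rw [hcl, ← hzc, Finset.sum_smul]
    show _ = _ + δ_hom A W W (-1) 0 _
    rw [map_sum, ← Finset.sum_add_distrib]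
    refine Finset.sum_congr rfl fun l _ => ?_
    rw [hst l, smul_add, smul_smul, map_smul, δ_hom_apply]
  have h2 : (1 - ∑ l, g l * s l) • Cochain.ofHom (𝟙 W) = δ (-1) 0 (H + ∑ l, g l • t l) := by
    rw [sub_smul, one_smul, δ_add, sub_eq_iff_eq_add, add_assoc, add_comm (δ (-1) 0 (∑ l, g l • t l)), ← h1]
    abel
  have h3 := eq_zero_of_scalar e hω h2
  refine (inferInstance : m.IsMaximal).ne_top ((Ideal.eq_top_iff_one m).2 ?_)
  rw [sub_eq_zero.1 h3]
  exact Ideal.sum_mem _ fun l _ => Ideal.mul_mem_right _ _ (hgm l)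

end Groth.Agent.Dlz27
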