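import Groth.Agent.Lib.Dlz27.SkCrit
import Groth.Prelude.Def_EGA4b

/-!
# Serre's conditions via a complex normalized at all maximal ideals
-/

set_option autoImplicit false
universe u

open CategoryTheory CategoryTheory.Limits

attribute [local instance] HasDerivedCategory.standard

noncomputable section

namespace Groth.Agent.Dlz27

variable {A : Type u} [CommRing A] [IsNoetherianRing A] {ω : Dual.D A} (hω : Dual.IsDualizing A ω) (M : Model ω)
  (hnorm : ∀ (m : Ideal A) (_ : m.IsMaximal) (i : ℤ), i ≠ 0 → Subsingleton (Dual.inD A (A ⧸ m) ⟶ ω⟦i⟧))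

omit [IsNoetherianRing A] in
theorem mem_support_self (p : PrimeSpectrum A) : p ∈ Module.support A A := by
  refine Module.mem_support_iff_exists_annihilator.2 ⟨1, fun a ha => ?_⟩
  rw [Submodule.mem_annihilator_span_singleton, smul_eq_mul, mul_one] at ha
  rw [ha]; exact zero_mem _

include hnorm

theorem deg_maximal (p : PrimeSpectrum A) (hp : p.asIdeal.IsMaximal) : deg hω M p = 0 := by
  by_contra hne
  have h : VanS M.W p.asIdeal.primeCompl (A ⧸ p.asIdeal) (deg hω M p) :=
    ((subsingleton_hom_iff_van M.e _ _).1 (hnorm _ hp _ hne)).vanS _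
  exact (vanS_iff_ne_deg hω M p _).1 h rfl

theorem deg_le_zero (p : PrimeSpectrum A) : deg hω M p ≤ 0 := by
  obtain ⟨m, hm, hle⟩ := Ideal.exists_le_maximal _ p.isPrime.ne_top
  exact ((deg_strictMono hω M).monotone (show p ≤ ⟨m, hm.isPrime⟩ from hle)).trans_eq
    (deg_maximal hω M hnorm _ hm)

theorem dim_quotient_eq (p : PrimeSpectrum A) :
    ringKrullDim (A ⧸ p.asIdeal) = (((-deg hω M p).toNat : ℕ∞) : WithBot ℕ∞) := by
  rw [ringKrullDim_quotient]
  refine le_antisymm (iSup_le fun l => ?_) ?_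
  · let f : Fin (l.length + 1) → Fin ((-deg hω M p).toNat + 1) := fun j => ⟨(deg hω M (l j).1 - deg hω M p).toNat, by
      have := deg_le_zero hω M hnorm (l j).1
      omega⟩
    have hf : StrictMono f := fun i j hij => by
      have := deg_strictMono hω M (show (l i).1 < (l j).1 from l.strictMono hij)
      have := (deg_strictMono hω M).monotone (show p ≤ (l i).1 from (l i).2)
      show (deg hω M (l i).1 - deg hω M p).toNat < (deg hω M (l j).1 - deg hω M p).toNat
      omega
    have := Fintype.card_le_of_injective f hf.injective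
    rw [Fintype.card_fin, Fintype.card_fin] at this
    exact_mod_cast (show l.length ≤ (-deg hω M p).toNat by omega)
  · obtain ⟨m, hm, hle⟩ := Ideal.exists_le_maximal _ p.isPrime.ne_top
    obtain ⟨l, hl, -⟩ := exists_deg_series M hω (-deg hω M p).toNat p ⟨m, hm.isPrime⟩ hle (by
      rw [deg_maximal hω M hnorm ⟨m, hm.isPrime⟩ hm]
      have := deg_le_zero hω M hnorm p
      omega)
    rw [← hl]
    exact Order.LTSeries.length_le_krullDim (LTSeries.mk l.length
      (fun j => (⟨(l j).1, (l j).2⟩ : PrimeSpectrum.zeroLocus (R := A) (p.asIdeal : Set A))) fun _ _ h => l.strictMono h)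

variable {n : ℕ}
variable (N : Type u) [AddCommGroup N] [Module A N] [Module.Finite A N]
  (hmin : ∀ r ∈ (Module.annihilator A N).minimalPrimes, ringKrullDim (A ⧸ r) = (n : WithBot ℕ∞))

include hmin

theorem le_deg_of_mem_support (r : PrimeSpectrum A) (hr : r ∈ Module.support A N) : -(n : ℤ) ≤ deg hω M r := by
  rw [Module.support_eq_zeroLocus, PrimeSpectrum.mem_zeroLocus] at hr
  obtain ⟨r₀, hr₀, hle⟩ := Ideal.exists_minimalPrimes_le (J := r.asIdeal) hr
  have h := dim_quotient_eq hω M hnorm ⟨r₀, hr₀.1.1⟩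
  rw [hmin r₀ hr₀] at h
  have h2 : n = (-deg hω M ⟨r₀, hr₀.1.1⟩).toNat := by exact_mod_cast h
  have := (deg_strictMono hω M).monotone (show (⟨r₀, hr₀.1.1⟩ : PrimeSpectrum A) ≤ r from hle)
  omega

include hω in
theorem neg_le_of_not_vanS (p : PrimeSpectrum A) (i : ℤ) (hi : ¬ VanS M.W p.asIdeal.primeCompl N i) : -(n : ℤ) ≤ i := by
  obtain ⟨-, r, hr, -, hri⟩ := le_deg_of_not_vanS hω M p i N hi
  exact (le_deg_of_mem_support hω M hnorm N hmin r hr).trans hri

theorem supportDim_localized_eq (p : PrimeSpectrum A) (hp : p ∈ Module.support A N) :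
    Module.supportDim (Localization.AtPrime p.asIdeal) (LocalizedModule p.asIdeal.primeCompl N) =
      ((deg hω M p + n).toNat : WithBot ℕ∞) ∧ ¬ VanS M.W p.asIdeal.primeCompl N (-(n : ℤ)) := by
  haveI : Nontrivial (LocalizedModule p.asIdeal.primeCompl N) := hp
  obtain ⟨d, e, hdd, -, -, h1, -, -⟩ := exists_profile hω M p N
  have h2 := neg_le_of_not_vanS hω M hnorm N hmin p _ h1
  have hp' := hp
  rw [Module.support_eq_zeroLocus, PrimeSpectrum.mem_zeroLocus] at hp'
  obtain ⟨r₀, hr₀, hle⟩ := Ideal.exists_minimalPrimes_le (J := p.asIdeal) hp'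
  let r : PrimeSpectrum A := ⟨r₀, hr₀.1.1⟩
  have hrn : deg hω M r = -(n : ℤ) := by
    have h := dim_quotient_eq hω M hnorm r
    rw [show ringKrullDim (A ⧸ r.asIdeal) = n from hmin r₀ hr₀] at h
    have h2 : n = (-deg hω M r).toNat := by exact_mod_cast h
    have := deg_le_zero hω M hnorm r
    omega
  have hr : r ∈ Module.support A N := by
    rw [Module.support_eq_zeroLocus, PrimeSpectrum.mem_zeroLocus]; exact hr₀.1.2
  have h3 := le_deg_of_supportDim_le hω M p N d hdd.le r hr hle
  refine ⟨?_, by rwa [show -(n : ℤ) = deg hω M p - d by omega]⟩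
  rw [hdd, show (deg hω M p + n).toNat = d by omega]

include hω M in
theorem subsingleton_hom_of_lt (i : ℤ) (hi : i < -(n : ℤ)) : Subsingleton (Dual.inD A N ⟶ ω⟦i⟧) := by
  refine (Module.support_eq_empty_iff (R := A)).1 (Set.eq_empty_of_forall_notMem fun p hp => ?_)
  have := neg_le_of_not_vanS hω M hnorm N hmin p _ ((nontrivial_localized_iff M p N _).1 hp)
  omega

include hω M in
theorem hasSk_iff_supportDim_hom (k : ℕ) :
    LocCoh.HasSk k A N ↔
      ∀ j : ℤ, j ≠ -(n : ℤ) →
        (-j - (k : ℤ) < 0 → Subsingleton (Dual.inD A N ⟶ ω⟦j⟧)) ∧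
        (0 ≤ -j - (k : ℤ) → Module.supportDim A (Dual.inD A N ⟶ ω⟦j⟧) ≤ ((-j - (k : ℤ)).toNat : WithBot ℕ∞)) := by
  constructor
  · intro h j hjn
    have key : ∀ p ∈ Module.support A (Dual.inD A N ⟶ ω⟦j⟧), (k : ℤ) + j ≤ deg hω M p := fun p hp => by
      have hi := (nontrivial_localized_iff M p N j).1 hp
      have hsupp : p ∈ Module.support A N := not_subsingleton_iff_nontrivial.1 fun hs =>
        hi (haveI := hs; vanS_of_subsingleton_localized p N j)
      obtain ⟨hdim, hn⟩ := supportDim_localized_eq hω M hnorm N hmin p hsupp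
      have := neg_le_of_not_vanS hω M hnorm N hmin p _ hi
      have hsk := (sk_point_iff hω M k p N).1 (h p.asIdeal) j (-(n : ℤ)) (by omega) hi hn
      rw [hdim] at hsk
      have h' : ((k : ℤ) + j - -(n : ℤ)).toNat ≤ (deg hω M p + n).toNat := Nat.cast_le.1 hsk
      have := le_deg_of_mem_support hω M hnorm N hmin p hsupp
      omega
    refine ⟨fun hik => (Module.support_eq_empty_iff (R := A)).1 (Set.eq_empty_of_forall_notMem fun p hp => ?_), fun hki => ?_⟩
    · have := key p hp
      have := deg_le_zero hω M hnorm p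
      omega
    · refine iSup_le fun l : LTSeries (Module.support A (Dual.inD A N ⟶ ω⟦j⟧)) => ?_
      let f : Fin (l.length + 1) → Fin ((-j - (k : ℤ)).toNat + 1) := fun a => ⟨(deg hω M (l a).1 - ((k : ℤ) + j)).toNat, by
        have := deg_le_zero hω M hnorm (l a).1
        omega⟩
      have hf : StrictMono f := fun a b hab => by
        have := deg_strictMono hω M (show (l a).1 < (l b).1 from l.strictMono hab)
        have := key _ (l a).2
        show (deg hω M (l a).1 - ((k : ℤ) + j)).toNat < (deg hω M (l b).1 - ((k : ℤ) + j)).toNat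
        omega
      have := Fintype.card_le_of_injective f hf.injective
      rw [Fintype.card_fin, Fintype.card_fin] at this
      exact_mod_cast (show l.length ≤ (-j - (k : ℤ)).toNat by omega)
  · intro h p hp
    refine (sk_point_iff hω M k ⟨p, hp⟩ N).2 fun i j hji hi hj => ?_
    have hsupp : (⟨p, hp⟩ : PrimeSpectrum A) ∈ Module.support A N := not_subsingleton_iff_nontrivial.1 fun hs =>
      hi (haveI := hs; vanS_of_subsingleton_localized ⟨p, hp⟩ N i)
    rw [(supportDim_localized_eq hω M hnorm N hmin ⟨p, hp⟩ hsupp).1]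
    have hj' := neg_le_of_not_vanS hω M hnorm N hmin ⟨p, hp⟩ j hj
    have hp0 := deg_le_zero hω M hnorm ⟨p, hp⟩
    have hmem : (⟨p, hp⟩ : PrimeSpectrum A) ∈ Module.support A (Dual.inD A N ⟶ ω⟦i⟧) :=
      (nontrivial_localized_iff M _ N i).2 hi
    obtain ⟨h1, h2⟩ := h i (by omega)
    by_cases hik : -i - (k : ℤ) < 0
    · haveI := h1 hik
      rw [Module.support_eq_empty] at hmem
      exact hmem.elim
    · obtain ⟨m, hm, hle⟩ := Ideal.exists_le_maximal _ hp.ne_top
      obtain ⟨l, hl, -⟩ := exists_deg_series M hω (-deg hω M ⟨p, hp⟩).toNat ⟨p, hp⟩ ⟨m, hm.isPrime⟩ hle (by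
        rw [deg_maximal hω M hnorm ⟨m, hm.isPrime⟩ hm]
        omega)
      have h3 := (Order.LTSeries.length_le_krullDim (LTSeries.mk l.length
        (fun a => (⟨(l a).1, Module.mem_support_mono (l a).2 hmem⟩ :
          Module.support A (Dual.inD A N ⟶ ω⟦i⟧))) fun _ _ hab => l.strictMono hab)).trans (h2 (not_lt.1 hik))
      have h4 : l.length ≤ (-i - (k : ℤ)).toNat := Nat.cast_le.1 h3
      exact Nat.cast_le.2 (by omega)

omit hmin
variable (hEq : EGA4.IsEquidim A) (hd : ringKrullDim A = n)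
include hEq hd

theorem hmin_self : ∀ r ∈ (Module.annihilator A A).minimalPrimes, ringKrullDim (A ⧸ r) = (n : WithBot ℕ∞) := by
  intro r hr
  refine (hEq r ?_).trans hd
  rwa [show Module.annihilator A A = ⊥ from le_bot_iff.1 fun a ha => by
    simpa using Module.mem_annihilator.1 ha 1] at hr

include hω M in
theorem subsingleton_HD_of_lt (i : ℕ) (hi : n < i) : Subsingleton (Dual.HD A ω (-(i : ℤ))) := by
  refine (Module.support_eq_empty_iff (R := A)).1 (Set.eq_empty_of_forall_notMem fun p hp => ?_)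
  have := neg_le_of_not_vanS hω M hnorm A (hmin_self hnorm hEq hd) p _ ((nontrivial_localized_HD_iff M p _).1 hp)
  omega

include hω M in
theorem hasSk_iff_supportDim (k : ℕ) :
    LocCoh.HasSk k A A ↔
        ∀ i : ℕ, i ≠ n →
          (i < k → Subsingleton (Dual.HD A ω (-(i : ℤ)))) ∧
          (k ≤ i → Module.supportDim A (Dual.HD A ω (-(i : ℤ))) ≤ ((i - k : ℕ) : WithBot ℕ∞)) := by
  have hsupp : ∀ j : ℤ, Module.support A (Dual.inD A A ⟶ ω⟦j⟧) = Module.support A (Dual.HD A ω j) := fun j =>
    Set.ext fun p => (nontrivial_localized_iff M p A j).trans (nontrivial_localized_HD_iff M p j).symm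
  have hsub : ∀ j : ℤ, Subsingleton (Dual.inD A A ⟶ ω⟦j⟧) ↔ Subsingleton (Dual.HD A ω j) := fun j => by
    rw [← Module.support_eq_empty_iff (R := A), ← Module.support_eq_empty_iff (R := A), hsupp]
  have hdim : ∀ j : ℤ, Module.supportDim A (Dual.inD A A ⟶ ω⟦j⟧) = Module.supportDim A (Dual.HD A ω j) := fun j => by
    rw [Module.supportDim, Module.supportDim, hsupp]
  rw [hasSk_iff_supportDim_hom hω M hnorm A (hmin_self hnorm hEq hd) k]
  constructor
  · intro h i hi
    obtain ⟨h1, h2⟩ := h (-(i : ℤ)) (by omega)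
    refine ⟨fun hik => (hsub _).1 (h1 (by omega)), fun hki => ?_⟩
    have := h2 (by omega)
    rwa [hdim, show (-(-(i : ℤ)) - (k : ℤ)).toNat = i - k by omega] at this
  · intro h j hj
    by_cases hj0 : 0 < j
    · refine ⟨fun _ => (Module.support_eq_empty_iff (R := A)).1 (Set.eq_empty_of_forall_notMem fun p hp => ?_),
        fun hk => absurd hk (by omega)⟩
      have := (le_deg_of_not_vanS hω M p j A ((nontrivial_localized_iff M p A j).1 hp)).1
      have := deg_le_zero hω M hnorm p
      omega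
    obtain ⟨i, rfl⟩ : ∃ i : ℕ, j = -(i : ℤ) := ⟨(-j).toNat, by omega⟩
    obtain ⟨h1, h2⟩ := h i (by omega)
    refine ⟨fun hik => (hsub _).2 (h1 (by omega)), fun hki => ?_⟩
    rw [hdim, show (-(-(i : ℤ)) - (k : ℤ)).toNat = i - k by omega]
    exact h2 (by omega)

end Groth.Agent.Dlz27
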