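import Groth.Agent.Lib.Dlz27.SkJac
import Groth.Agent.Lib.Dlz27.DualityAll
import Groth.Agent.Lib.LocCoh.EquidimS2_27
import Groth.Prelude.Def_Found

/-!
# Endomorphisms of the dualizing module
-/

set_option autoImplicit false
universe u

open CategoryTheory CategoryTheory.Limits CategoryTheory.Pretriangulated

attribute [local instance] HasDerivedCategory.standard

noncomputable section

namespace Groth.Agent.Dlz27

variable {A : Type u} [CommRing A] [IsNoetherianRing A] {ω : Dual.D A} (hω : Dual.IsDualizing A ω) (M : Model ω)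

include hω M in
theorem isCatenary_of_deg : CAlg.IsCatenary A := by
  have key : ∀ (s : LTSeries (PrimeSpectrum A)), (∀ i : Fin s.length, s (Fin.castSucc i) ⋖ s (Fin.succ i)) →
      deg hω M s.last = deg hω M s.head + s.length := by
    intro s hs
    have h : ∀ i : Fin (s.length + 1), deg hω M (s i) = deg hω M s.head + (i : ℕ) := fun i => by
      induction i using Fin.induction with
      | zero => simp [RelSeries.head]
      | succ i ih =>
        rw [deg_covBy hω M (hs i), ih, Fin.val_succ, Fin.val_castSucc]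
        push_cast; ring
    simpa [RelSeries.last] using h (Fin.last _)
  refine ⟨fun p q _ => ⟨(M.hi - M.lo).toNat, fun s _ _ => ?_⟩, fun s t hh hl hs ht => ?_⟩
  · let f : Fin (s.length + 1) → Fin ((M.hi - M.lo).toNat + 1) := fun j => ⟨(deg hω M (s j) - M.lo).toNat, by
      have := deg_le hω M (s j); omega⟩
    have hf : StrictMono f := fun j k hjk => by
      have := deg_strictMono hω M (s.strictMono hjk)
      have := deg_ge hω M (s j)
      show (deg hω M (s j) - M.lo).toNat < (deg hω M (s k) - M.lo).toNat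
      omega
    have := Fintype.card_le_of_injective f hf.injective
    rw [Fintype.card_fin, Fintype.card_fin] at this
    omega
  · have h1 := key s hs
    have h2 := key t ht
    rw [hh, hl, h2] at h1
    omega

include hω M in
/-- A local ring with a dualizing complex and `(S_2)` is equidimensional. -/
theorem isEquidim_of_hasSk_two [IsLocalRing A] (h : LocCoh.HasSk 2 A A) : EGA4.IsEquidim A := by
  intro p hp
  refine LocCohLib.ringKrullDim_quotient_minimalPrime (isCatenary_of_deg hω M) (fun q hq => ?_) p hp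
  have h1 := h q.asIdeal
  rw [DepthLib.supportDim_eq_ringKrullDim_of_isPrime, DepthLib.depth_localizedModule_self] at h1
  have h3 : ((2 : ℕ∞) : WithBot ℕ∞) ≤ (q.asIdeal.height : WithBot ℕ∞) := WithBot.coe_le_coe.2 hq
  rw [min_eq_left (le_of_eq_of_le (by rfl) h3)] at h1
  exact WithBot.coe_le_coe.1 (le_of_eq_of_le (by rfl) h1)

omit [IsNoetherianRing A] in
include M in
/-- Dévissage of morphisms out of an object with cohomology in degrees `≥ a`. -/
theorem subsingleton_hom_of_layers (s : ℤ) : ∀ (d : ℕ) (a : ℤ) (Y : Dual.D A), M.hi < a + d + s → Y.IsGE a →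
    (∀ l, a ≤ l → Subsingleton (Dual.inD A (Dual.HD A Y l) ⟶ ω⟦s + l⟧)) → Subsingleton (Y ⟶ ω⟦s⟧)
  | 0, a, Y, hlt, hY, _ => ⟨fun f g => by
      rw [hom_ge_eq_zero M hY (j := s) (by simp at hlt; omega) f, hom_ge_eq_zero M hY (j := s) (by simp at hlt; omega) g]⟩
  | d + 1, a, Y, hlt, hY, hl => by
    obtain ⟨T, hT, ⟨eY⟩, hXle, hYge, hlow, hhigh⟩ := trunc_triangle Y a
    haveI : T.obj₁.IsGE a := (DMod.isGE_iff _ a).2 fun l hl' => by
      obtain ⟨e⟩ := hlow l hl'.le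
      haveI := (DMod.isGE_iff Y a).1 hY l hl'
      exact e.toEquiv.subsingleton
    haveI := hXle
    obtain ⟨N, ⟨eN⟩⟩ := DerivedCategory.exists_iso_singleFunctor_obj_of_isGE_of_isLE T.obj₁ a
    obtain ⟨e₀⟩ := hlow a le_rfl
    let eNa : N ≅ ModuleCat.of A (Dual.HD A Y a) :=
      ((DerivedCategory.singleFunctorCompHomologyFunctorIso (ModuleCat.{u} A) a).app N).symm ≪≫
        (DerivedCategory.homologyFunctor (ModuleCat.{u} A) a).mapIso eN.symm ≪≫ e₀.toModuleIso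
    let eX : T.obj₁ ≅ (sgl.obj (ModuleCat.of A (Dual.HD A Y a)))⟦-a⟧ :=
      eN ≪≫ (DerivedCategory.singleFunctor (ModuleCat.{u} A) a).mapIso eNa ≪≫
        (((DerivedCategory.singleFunctors (ModuleCat.{u} A)).shiftIso (-a) a 0 (by omega)).app _).symm
    have h1 : Subsingleton (T.obj₁ ⟶ ω⟦s⟧) := by
      haveI : Subsingleton (sgl.obj (ModuleCat.of A (Dual.HD A Y a)) ⟶ ω⟦s + a⟧) := hl a le_rfl
      haveI := (homUntwist' (ω := ω) (sgl.obj (ModuleCat.of A (Dual.HD A Y a))) (-a) (s + a) s (by omega)).toEquiv.symm.subsingleton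
      exact (Iso.homCongr eX (Iso.refl (ω⟦s⟧))).subsingleton
    have h3 : Subsingleton (T.obj₃ ⟶ ω⟦s⟧) := subsingleton_hom_of_layers s d (a + 1) T.obj₃ (by push_cast at hlt; omega)
      hYge fun l hal => by
        obtain ⟨e⟩ := hhigh l (by omega)
        haveI := hl l (by omega)
        exact (Iso.homCongr (sgl.mapIso e.toModuleIso) (Iso.refl (ω⟦s + l⟧))).symm.subsingleton
    refine subsingleton_of_forall_eq 0 fun f => ?_
    obtain ⟨g, hg⟩ := Triangle.yoneda_exact₂ T hT (eY.hom ≫ f) (Subsingleton.elim _ _)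
    rw [Subsingleton.elim g 0, comp_zero] at hg
    rw [← cancel_epi eY.hom, hg, comp_zero]

section Local

variable [IsLocalRing A] (hn : Dual.IsNormalized A ω) {n : ℕ} (hd : ringKrullDim A = n)

include hn in
theorem hnorm_of_local : ∀ (m : Ideal A) (_ : m.IsMaximal) (i : ℤ), i ≠ 0 → Subsingleton (Dual.inD A (A ⧸ m) ⟶ ω⟦i⟧) := by
  intro m hm i hi
  obtain rfl := IsLocalRing.eq_maximalIdeal hm
  exact hn i hi

include hω hn hd M in
theorem exists_triangle_top (k : ℕ) (hEq : EGA4.IsEquidim A) (hk : LocCoh.HasSk k A A) :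
    ∃ (T : Triangle (Dual.D A)) (_ : T ∈ distTriang _), Nonempty (T.obj₂ ≅ ω) ∧ T.obj₁.IsLE (-(n : ℤ)) ∧
      T.obj₃.IsGE (-(n : ℤ) + 1) ∧
      Nonempty (T.obj₁ ≅ (Dual.inD A (Dual.HD A ω (-(n : ℤ))))⟦(n : ℤ)⟧) ∧
      ∀ s : ℤ, s < k → Subsingleton (T.obj₃ ⟶ ω⟦s⟧) := by
  have hnorm := hnorm_of_local hn
  have hmin := hmin_self hnorm hEq hd
  obtain ⟨T, hT, eK, hXle, hYge, hlow, hhigh⟩ := trunc_triangle ω (-(n : ℤ))
  haveI : T.obj₁.IsGE (-(n : ℤ)) := (DMod.isGE_iff _ _).2 fun l hl => by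
    obtain ⟨e⟩ := hlow l hl.le
    haveI : Subsingleton (Dual.HD A ω l) := by
      have h := subsingleton_HD_of_lt hω M hnorm hEq hd (-l).toNat (by omega)
      rwa [show -((-l).toNat : ℤ) = l by omega] at h
    exact e.toEquiv.subsingleton
  haveI := hXle
  obtain ⟨N, ⟨eN⟩⟩ := DerivedCategory.exists_iso_singleFunctor_obj_of_isGE_of_isLE T.obj₁ (-(n : ℤ))
  obtain ⟨e₀⟩ := hlow (-(n : ℤ)) le_rfl
  let eNa : N ≅ ModuleCat.of A (Dual.HD A ω (-(n : ℤ))) :=
    ((DerivedCategory.singleFunctorCompHomologyFunctorIso (ModuleCat.{u} A) (-(n : ℤ))).app N).symm ≪≫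
      (DerivedCategory.homologyFunctor (ModuleCat.{u} A) (-(n : ℤ))).mapIso eN.symm ≪≫ e₀.toModuleIso
  refine ⟨T, hT, eK, hXle, hYge, ⟨eN ≪≫ (DerivedCategory.singleFunctor (ModuleCat.{u} A) _).mapIso eNa ≪≫
    (((DerivedCategory.singleFunctors (ModuleCat.{u} A)).shiftIso (n : ℤ) (-(n : ℤ)) 0 (by omega)).app _).symm⟩,
    fun s hs => subsingleton_hom_of_layers M s (M.hi + n - s).toNat (-(n : ℤ) + 1) T.obj₃ (by omega) hYge fun l hl => ?_⟩
  haveI := hω.finite_cohomology l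
  haveI : Module.Finite A (Dual.HD A T.obj₃ l) := by
    obtain ⟨e⟩ := hhigh l (by omega)
    exact Module.Finite.equiv e
  refine (subsingleton_hom_iff_vanS M _ _).2 (vanS_low hω M (clPt A) _ _ fun r hr _ => ?_)
  obtain ⟨e⟩ := hhigh l (by omega)
  rw [← LinearEquiv.support_eq e] at hr
  have hi := (nontrivial_localized_HD_iff M r l).1 hr
  obtain ⟨hdim, hneg⟩ := supportDim_localized_eq hω M hnorm A hmin r (mem_support_self r)
  have h := (sk_point_iff hω M k r A).1 (hk r.asIdeal) l (-(n : ℤ)) (by omega) hi hneg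
  rw [hdim] at h
  have h' : ((k : ℤ) + l - -(n : ℤ)).toNat ≤ (deg hω M r + n).toNat := Nat.cast_le.1 h
  omega

include hω hn hd M in
theorem toEnd_bijective (h2 : LocCoh.HasSk 2 A A) : Function.Bijective
    (fun r : A => r • (LinearMap.id : Dual.HD A ω (-(n : ℤ)) →ₗ[A] Dual.HD A ω (-(n : ℤ)))) := by
  obtain ⟨T, hT, ⟨eK⟩, hXle, hYge, ⟨eX⟩, hlow⟩ := exists_triangle_top hω M hn hd 2 (isEquidim_of_hasSk_two hω M h2) h2
  let K := Dual.HD A ω (-(n : ℤ))
  haveI := hXle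
  haveI := hYge
  have hXY : ∀ f : T.obj₁ ⟶ T.obj₃, f = 0 := fun f =>
    DerivedCategory.TStructure.t.zero_of_isLE_of_isGE f (-(n : ℤ)) (-(n : ℤ) + 1) (by omega) inferInstance inferInstance
  have hY0 : ∀ f : T.obj₃ ⟶ T.obj₂, f = 0 := fun f => by
    haveI := hlow 0 (by norm_num)
    rw [← cancel_mono (eK ≪≫ ((shiftFunctorZero (Dual.D A) ℤ).app ω).symm).hom, zero_comp]
    exact Subsingleton.elim _ _
  have hY1 : ∀ f : T.obj₃⟦(-1 : ℤ)⟧ ⟶ T.obj₂, f = 0 := fun f => by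
    haveI := hlow 1 (by norm_num)
    haveI : Subsingleton (T.obj₃⟦(-1 : ℤ)⟧ ⟶ ω⟦(0 : ℤ)⟧) :=
      (homUntwist' (ω := ω) T.obj₃ (-1) 1 0 (by omega)).toEquiv.symm.subsingleton
    rw [← cancel_mono (eK ≪≫ ((shiftFunctorZero (Dual.D A) ℤ).app ω).symm).hom, zero_comp]
    exact Subsingleton.elim _ _
  have hX1 : ∀ f : T.obj₁ ⟶ T.obj₃⟦(-1 : ℤ)⟧, f = 0 := fun f => by
    haveI : (T.obj₃⟦(-1 : ℤ)⟧).IsGE (-(n : ℤ) + 2) :=
      DerivedCategory.TStructure.t.isGE_shift T.obj₃ (-(n : ℤ) + 1) (-1) (-(n : ℤ) + 2) (by omega)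
    exact DerivedCategory.TStructure.t.zero_of_isLE_of_isGE f (-(n : ℤ)) (-(n : ℤ) + 2) (by omega) inferInstance inferInstance
  have hmid : Function.Bijective (fun a : A => a • 𝟙 T.obj₂) := by
    have he : (fun a : A => a • 𝟙 T.obj₂) = (fun f => eK.hom ≫ f ≫ eK.inv) ∘ (fun a : A => a • 𝟙 ω) := by
      funext a; simp
    rw [he]
    exact (Iso.homCongr eK.symm eK.symm).bijective.comp hω.toEnd_bijective
  have hX : Function.Bijective (fun a : A => a • 𝟙 T.obj₁) := by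
    refine ⟨fun a b hab => hmid.1 ?_, fun φ => ?_⟩
    · have h := congrArg (· ≫ T.mor₁) hab
      simp only [Linear.smul_comp, Category.id_comp] at h
      obtain ⟨g, hg⟩ := Triangle.yoneda_exact₂ T hT (a • 𝟙 T.obj₂ - b • 𝟙 T.obj₂) (by
        rw [Preadditive.comp_sub, Linear.comp_smul, Linear.comp_smul, Category.comp_id, h, sub_self])
      rw [hY0 g, comp_zero, sub_eq_zero] at hg
      exact hg
    · obtain ⟨ψ, hψ⟩ : ∃ ψ : T.obj₂ ⟶ T.obj₂, φ ≫ T.mor₁ = T.mor₁ ≫ ψ :=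
        Triangle.yoneda_exact₂ T.invRotate (inv_rot_of_distTriang _ hT) (φ ≫ T.mor₁) (hY1 _)
      obtain ⟨a, ha⟩ := hmid.2 ψ
      refine ⟨a, ?_⟩
      obtain ⟨g, hg⟩ : ∃ g : T.obj₁ ⟶ T.obj₃⟦(-1 : ℤ)⟧, φ - a • 𝟙 T.obj₁ = g ≫ (T.invRotate.mor₁ : T.obj₃⟦(-1 : ℤ)⟧ ⟶ T.obj₁) :=
        Triangle.coyoneda_exact₂ T.invRotate (inv_rot_of_distTriang _ hT) (φ - a • 𝟙 T.obj₁) (by
          show (φ - a • 𝟙 T.obj₁) ≫ T.mor₁ = 0
          rw [Preadditive.sub_comp, sub_eq_zero, hψ, ← ha, Linear.smul_comp, Linear.comp_smul, Category.id_comp,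
            Category.comp_id])
      rw [hX1 g, zero_comp] at hg
      exact (eq_of_sub_eq_zero hg).symm
  have hid : eX.hom ≫ (shiftFunctor (Dual.D A) (n : ℤ)).map (sgl.map (𝟙 (ModuleCat.of A K))) ≫ eX.inv = 𝟙 T.obj₁ := by
    erw [sgl.map_id, CategoryTheory.Functor.map_id, Category.id_comp]
    exact eX.hom_inv_id
  refine ⟨fun a b hab => hX.1 ?_, fun φ => ?_⟩
  · have h : ModuleCat.ofHom (a • (LinearMap.id : K →ₗ[A] K)) = ModuleCat.ofHom (b • LinearMap.id) := congrArg _ hab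
    have h' := congrArg (fun f => eX.hom ≫ (shiftFunctor (Dual.D A) (n : ℤ)).map (sgl.map f) ≫ eX.inv) h
    simpa [show ModuleCat.ofHom (a • (LinearMap.id : K →ₗ[A] K)) = a • 𝟙 (ModuleCat.of A K) from rfl,
      show ModuleCat.ofHom (b • (LinearMap.id : K →ₗ[A] K)) = b • 𝟙 (ModuleCat.of A K) from rfl,
      Functor.map_smul, hid] using h'
  · obtain ⟨a, ha⟩ := hX.2 (eX.hom ≫ (shiftFunctor (Dual.D A) (n : ℤ)).map (sgl.map (ModuleCat.ofHom φ)) ≫ eX.inv)
    refine ⟨a, ?_⟩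
    have h : (shiftFunctor (Dual.D A) (n : ℤ)).map (sgl.map (a • 𝟙 (ModuleCat.of A K))) =
        (shiftFunctor (Dual.D A) (n : ℤ)).map (sgl.map (ModuleCat.ofHom φ)) := by
      have h' := congrArg (fun f => eX.inv ≫ f ≫ eX.hom) ha
      simpa [Functor.map_smul] using h'
    exact congrArg ModuleCat.Hom.hom (sgl.map_injective ((shiftFunctor (Dual.D A) (n : ℤ)).map_injective h))

include hω hn hd M in
theorem subsingleton_ext_one (h2 : LocCoh.HasSk 2 A A) (h3 : LocCoh.HasSk 3 A A) :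
    Subsingleton (Dual.inD A (Dual.HD A ω (-(n : ℤ))) ⟶ (Dual.inD A (Dual.HD A ω (-(n : ℤ))))⟦(1 : ℤ)⟧) := by
  obtain ⟨T, hT, ⟨eK⟩, hXle, hYge, ⟨eX⟩, hlow⟩ := exists_triangle_top hω M hn hd 3 (isEquidim_of_hasSk_two hω M h2) h3
  let K := Dual.inD A (Dual.HD A ω (-(n : ℤ)))
  haveI := hXle
  haveI := hYge
  haveI h11 : Subsingleton (T.obj₂ ⟶ ω⟦(1 : ℤ)⟧) := by
    haveI := hω.ext_self_subsingleton 1 one_ne_zero
    exact (Iso.homCongr eK (Iso.refl (ω⟦(1 : ℤ)⟧))).subsingleton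
  haveI hY2 : Subsingleton (T.obj₃⟦(-1 : ℤ)⟧ ⟶ ω⟦(1 : ℤ)⟧) := by
    haveI := hlow 2 (by norm_num)
    exact (homUntwist' (ω := ω) T.obj₃ (-1) 2 1 (by omega)).toEquiv.symm.subsingleton
  haveI hXω : Subsingleton (T.obj₁ ⟶ ω⟦(1 : ℤ)⟧) := subsingleton_of_forall_eq 0 fun f => by
    obtain ⟨ψ, hψ⟩ : ∃ ψ : T.obj₂ ⟶ ω⟦(1 : ℤ)⟧, f = T.mor₁ ≫ ψ :=
      Triangle.yoneda_exact₂ T.invRotate (inv_rot_of_distTriang _ hT) f
        (@Subsingleton.elim _ hY2 _ 0)
    rw [hψ, Subsingleton.elim ψ 0, comp_zero]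
  haveI hXX : Subsingleton (T.obj₁ ⟶ T.obj₁⟦(1 : ℤ)⟧) := subsingleton_of_forall_eq 0 fun f => by
    have h0 : f ≫ T.mor₁⟦(1 : ℤ)⟧' = 0 := by
      rw [← cancel_mono ((shiftFunctor (Dual.D A) (1 : ℤ)).mapIso eK).hom, zero_comp]
      exact Subsingleton.elim _ _
    obtain ⟨g, hg⟩ := Triangle.coyoneda_exact₁ T hT f h0
    rw [hg, DerivedCategory.TStructure.t.zero_of_isLE_of_isGE g (-(n : ℤ)) (-(n : ℤ) + 1) (by omega) inferInstance inferInstance,
      zero_comp]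
  refine subsingleton_of_forall_eq 0 fun φ => ?_
  have h := Subsingleton.elim (eX.hom ≫ φ⟦(n : ℤ)⟧' ≫ (shiftComm K (1 : ℤ) (n : ℤ)).hom ≫ eX.inv⟦(1 : ℤ)⟧') 0
  refine (shiftFunctor (Dual.D A) (n : ℤ)).map_injective ?_
  rw [Functor.map_zero]
  simpa using h

end Local

end Groth.Agent.Dlz27
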