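import Groth.Agent.Lib.Dlz27.DualityAll
import Groth.Agent.Lib.Dlz27.DualCompl

/-!
# Uniqueness of dualizing complexes over a local ring
-/

set_option autoImplicit false
universe u w

open CategoryTheory CategoryTheory.Limits

attribute [local instance] HasDerivedCategory.standard

noncomputable section

namespace Groth.Agent.Dlz27

variable {A : Type u} [CommRing A] [IsLocalRing A] [IsNoetherianRing A]

/-- A finite module with dual the injective hull is cyclic. -/
theorem exists_generator_of_dual {E : Type u} [AddCommGroup E] [Module A E]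
    {f : IsLocalRing.ResidueField A →ₗ[A] E} (hf : InjHull.IsInjectiveHull f) (N : Type u) [AddCommGroup N]
    [Module A N] [Module.Finite A N] (e : (N →ₗ[A] E) ≃ₗ[A] E) :
    ∃ v : N, Submodule.span A {v} = ⊤ := by
  let T : Submodule A N := IsLocalRing.maximalIdeal A • ⊤
  let Qm := N ⧸ T
  let k := IsLocalRing.ResidueField A
  haveI : IsSimpleModule A k :=
    isSimpleModule_iff_quot_maximal.2 ⟨_, IsLocalRing.maximalIdeal.isMaximal A, ⟨LinearEquiv.refl A _⟩⟩
  let z : (Qm →ₗ[A] E) →ₗ[A] LinearMap.range f :=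
    (e.toLinearMap ∘ₗ LinearMap.lcomp A E T.mkQ).codRestrict _ fun χ => by
      refine (SetLike.ext_iff.1 (InjHullLib.torsion_eq_range (m := IsLocalRing.maximalIdeal A) hf.toIsEssentialInj) _).1 ?_
      rw [Submodule.mem_torsionBySet_iff]
      intro a
      have h0 : (a : A) • χ = 0 := Submodule.linearMap_qext _ (LinearMap.ext fun x => by
        show (a : A) • χ (Submodule.Quotient.mk x) = 0
        rw [← map_smul, ← Submodule.Quotient.mk_smul,
          (Submodule.Quotient.mk_eq_zero T).2 (Submodule.smul_mem_smul a.2 Submodule.mem_top), map_zero])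
      show (a : A) • (e.toLinearMap ∘ₗ LinearMap.lcomp A E T.mkQ) χ = 0
      rw [← map_smul, h0, map_zero]
  have hz : Function.Injective z := fun a b h =>
    Submodule.linearMap_qext T (e.injective (congrArg Subtype.val h))
  have hlen : Module.length A (Qm →ₗ[A] E) ≤ 1 := by
    refine (Module.length_le_of_injective z hz).trans ?_
    rw [← (LinearEquiv.ofInjective f hf.injective).length_eq, Module.length_eq_one A k]
  have hfl : IsFiniteLength A (Qm →ₗ[A] E) := Module.length_ne_top_iff.1 (ne_top_of_le_ne_top ENat.one_ne_top hlen)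
  have hQ : Module.length A Qm ≤ 1 :=
    ((Module.length_le_of_injective _ (InjHullLib.applyₗ_injective (M := Qm) hf)).trans
      (InjHullLib.length_dual hf hfl).le).trans hlen
  have key : ∃ v : N, Submodule.span A {(Submodule.Quotient.mk v : Qm)} = ⊤ := by
    rcases subsingleton_or_nontrivial Qm with h | h
    · exact ⟨0, Subsingleton.elim _ _⟩
    · haveI : IsSimpleModule A Qm := Module.length_eq_one_iff.1
        (le_antisymm hQ (Order.one_le_iff_pos.2 (Module.length_pos (M := Qm))))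
      obtain ⟨q, hq⟩ := exists_ne (0 : Qm)
      obtain ⟨v, rfl⟩ := Submodule.Quotient.mk_surjective _ q
      exact ⟨v, IsSimpleModule.span_singleton_eq_top A hq⟩
  obtain ⟨v, hv⟩ := key
  refine ⟨v, top_le_iff.1 (Submodule.le_of_le_smul_of_le_jacobson_bot Module.Finite.fg_top
    (IsLocalRing.maximalIdeal_le_jacobson _) ?_)⟩
  intro x _
  obtain ⟨c, hc⟩ := Submodule.mem_span_singleton.1
    (hv ▸ Submodule.mem_top : (Submodule.Quotient.mk x : Qm) ∈ Submodule.span A {(Submodule.Quotient.mk v : Qm)})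
  rw [← Submodule.Quotient.mk_smul, Submodule.Quotient.eq] at hc
  have : x = c • v - (c • v - x) := by abel
  rw [this]
  exact Submodule.sub_mem _ (Submodule.mem_sup_left (Submodule.smul_mem _ _ (Submodule.mem_span_singleton_self v)))
    (Submodule.mem_sup_right hc)

/-- Scalars faithfully act on the injective hull. -/
theorem eq_zero_of_hull {E : Type u} [AddCommGroup E] [Module A E]
    {f : IsLocalRing.ResidueField A →ₗ[A] E} (hf : InjHull.IsInjectiveHull f) {c : A} (h : ∀ x : E, c • x = 0) : c = 0 :=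
  InjHullLib.applyₗ_injective (M := A) hf (LinearMap.ext fun u => by
    show u c = (LinearMap.applyₗ (0 : A)) u
    rw [map_zero, LinearMap.zero_apply, ← mul_one c, ← smul_eq_mul, map_smul, h])

/-- A shift of a dualizing complex is normalized. -/
theorem exists_normalized {ω : Dual.D A} (hω : Dual.IsDualizing A ω) :
    ∃ n : ℤ, Dual.IsNormalized A (ω⟦n⟧) := by
  obtain ⟨n, hvan, -⟩ := ext_residue hω (IsLocalRing.maximalIdeal A)
  refine ⟨n, fun i hi => ?_⟩
  haveI : Subsingleton (Dual.inD A (IsLocalRing.ResidueField A) ⟶ ω⟦n + i⟧) := hvan (n + i) (by omega)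
  exact (homShift (X := Dual.inD A (IsLocalRing.ResidueField A)) (ω := ω) n i (n + i) rfl).toEquiv.subsingleton

variable {ω ω' : Dual.D A} (M : Model ω) (M' : Model ω') (hω : Dual.IsDualizing A ω) (hn : Dual.IsNormalized A ω)
  (hω' : Dual.IsDualizing A ω') (hn' : Dual.IsNormalized A ω')

include hω hn in
theorem bijC_self_src (X : Dual.D A) (hX : ∀ l : ℤ, Module.Finite A (Dual.HD A X l)) : BijC M X :=
  bijC_of_iso M ((shiftFunctorZero (Dual.D A) ℤ).app X) (bijS_all M hω hn X hX 0)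

/-- Endomorphisms as morphisms into the zero shift. -/
def endEquiv (hω : Dual.IsDualizing A ω) : A ≃ₗ[A] (ω ⟶ ω⟦(0 : ℤ)⟧) :=
  LinearEquiv.ofBijective (LinearMap.toSpanSingleton A (ω ⟶ ω) (𝟙 ω)) hω.toEnd_bijective ≪≫ₗ
    Linear.homCongr A (Iso.refl ω) ((shiftFunctorZero (Dual.D A) ℤ).app ω).symm

omit [IsLocalRing A] [IsNoetherianRing A] in
theorem endEquiv_apply (hω : Dual.IsDualizing A ω) (c : A) :
    endEquiv hω c = c • ((shiftFunctorZero (Dual.D A) ℤ).app ω).inv := by
  show Linear.homCongr A (Iso.refl ω) ((shiftFunctorZero (Dual.D A) ℤ).app ω).symm (c • 𝟙 ω) = _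
  rw [map_smul, Linear.homCongr_apply, Iso.refl_inv, Iso.symm_hom, Category.id_comp]
  exact congrArg (c • ·) (Category.id_comp _)

include M M' hω hn hω' hn' in
theorem exists_comparison :
    ∃ φ : ω ⟶ ω', Function.Bijective (hmapC (mA (A := A)) φ) := by
  obtain ⟨g, hg⟩ := exists_hull_H0 M' hω' hn'
  obtain ⟨h0⟩ := equiv_hull M hω hn hg
  have hb := bijC_self_src M hω hn ω hω.finite_cohomology
  have hb' := bijC_self_src M' hω' hn' ω hω.finite_cohomology
  let eV : ((ω ⟶ ω'⟦(0 : ℤ)⟧) →ₗ[A] H0 M') ≃ₗ[A] H0 M' :=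
    (LinearEquiv.ofBijective _ hb').symm ≪≫ₗ LinearEquiv.ofBijective _ hb ≪≫ₗ
      LinearEquiv.arrowCongr (endEquiv hω).symm h0 ≪≫ₗ LinearMap.ringLmapEquivSelf A A (H0 M')
  haveI : Module.Finite A (ω ⟶ ω'⟦(0 : ℤ)⟧) := finite_homC_all M' hω' ω hω.finite_cohomology 0
  obtain ⟨r, S, ⟨s⟩⟩ := exists_small_model (A := A) (ω ⟶ ω'⟦(0 : ℤ)⟧)
  obtain ⟨v, hv⟩ := exists_generator_of_dual hg ((Fin r → A) ⧸ S) (LinearEquiv.congrLeft (H0 M') A s ≪≫ₗ eV)
  let φ0 : ω ⟶ ω'⟦(0 : ℤ)⟧ := s v
  refine ⟨φ0 ≫ ((shiftFunctorZero (Dual.D A) ℤ).app ω').hom, ?_⟩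
  set φ := φ0 ≫ ((shiftFunctorZero (Dual.D A) ℤ).app ω').hom
  have hpre : ∀ c : A, preD φ (endEquiv hω' c) = c • φ0 := fun c => by
    show φ ≫ endEquiv hω' c = c • φ0
    rw [endEquiv_apply]
    simp only [φ, Linear.comp_smul, Category.assoc, Iso.hom_inv_id]
    exact congrArg (c • ·) (Category.comp_id φ0)
  have hsurj : Function.Surjective (preD (ω := ω') φ) := fun ψ => by
    obtain ⟨c, hc⟩ := Submodule.mem_span_singleton.1
      (hv ▸ Submodule.mem_top : s.symm ψ ∈ Submodule.span A {v})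
    exact ⟨endEquiv hω' c, by rw [hpre, ← s.apply_symm_apply ψ, ← hc, map_smul]⟩
  have hinj : Function.Injective (preD (ω := ω') φ) := (injective_iff_map_eq_zero _).2 fun χ hχ => by
    obtain ⟨c, rfl⟩ := (endEquiv hω').surjective χ
    rw [hpre] at hχ
    suffices c = 0 by rw [this, map_zero]
    refine eq_zero_of_hull hg fun x => ?_
    obtain ⟨l, rfl⟩ := eV.surjective x
    have hl : c • l = 0 := LinearMap.ext fun ψ => by
      obtain ⟨c', hc'⟩ := Submodule.mem_span_singleton.1 (hv ▸ Submodule.mem_top : s.symm ψ ∈ Submodule.span A {v})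
      rw [← s.apply_symm_apply ψ, ← hc', map_smul s, LinearMap.smul_apply, LinearMap.zero_apply, ← map_smul,
        smul_comm c c', show c • s v = 0 from hχ, smul_zero, map_zero]
    rw [← map_smul, hl, map_zero]
  let P := LinearEquiv.ofBijective (preD (ω := ω') φ) ⟨hinj, hsurj⟩
  have hbω := bijC_self_src M' hω' hn' ω' hω'.finite_cohomology
  have hnat : ∀ x, pair M' ω' (hmapC mA φ x) = pair M' ω x ∘ₗ P.toLinearMap := fun x =>
    LinearMap.ext fun χ => pair_natural M' φ x χ
  refine ⟨fun x y hxy => hb'.1 ?_, fun y => ?_⟩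
  · have := congrArg (pair M' ω') hxy
    rw [hnat, hnat] at this
    refine LinearMap.ext fun ψ => ?_
    obtain ⟨χ, rfl⟩ := P.surjective ψ
    exact LinearMap.congr_fun this χ
  · obtain ⟨x, hx⟩ := hb'.2 (pair M' ω' y ∘ₗ P.symm.toLinearMap)
    refine ⟨x, hbω.1 ?_⟩
    rw [hnat, hx]
    exact LinearMap.ext fun χ => by simp

include M hω hn in
theorem isUnit_of_bijective_hmapC (a : A) (h : Function.Bijective (hmapC (mA (A := A)) (a • 𝟙 ω))) : IsUnit a := by
  have hsmul : ∀ x, hmapC mA (a • 𝟙 ω) x = a • x := fun x => by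
    obtain ⟨k, b, rfl⟩ := exists_hin _ x
    rw [hmapC_hin, Linear.comp_smul, Category.comp_id, map_smul]
  by_contra hu
  obtain ⟨g, hg⟩ := exists_hull_H0 M hω hn
  have hb := bijC_self_src M hω hn ω hω.finite_cohomology
  let e : Hc (mA (A := A)) ω ≃ₗ[A] H0 M := LinearEquiv.ofBijective _ hb ≪≫ₗ
    LinearEquiv.congrLeft (H0 M) A (endEquiv hω).symm ≪≫ₗ LinearMap.ringLmapEquivSelf A A (H0 M)
  have h1 : a • g 1 = 0 := by
    rw [← map_smul, InjHullLib.residue_smul_eq_zero ((IsLocalRing.mem_maximalIdeal a).2 hu), map_zero]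
  have h2 : e.symm (g 1) = 0 := h.1 (by
    rw [hsmul, hsmul, ← map_smul, h1, map_zero, smul_zero])
  rw [LinearEquiv.map_eq_zero_iff] at h2
  exact one_ne_zero (hg.injective (h2.trans (map_zero g).symm))

include hω hn hω' hn' in
/-- Normalized dualizing complexes are isomorphic. -/
theorem nonempty_iso_normalized : Nonempty (ω ≅ ω') := by
  obtain ⟨φ, hφ⟩ := exists_comparison (model hω) (model hω') hω hn hω' hn'
  obtain ⟨ψ, hψ⟩ := exists_comparison (model hω') (model hω) hω' hn' hω hn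
  have hcomp : ∀ {X Y Z : Dual.D A} (f : X ⟶ Y) (f' : Y ⟶ Z), Function.Bijective (hmapC (mA (A := A)) f) →
      Function.Bijective (hmapC (mA (A := A)) f') → Function.Bijective (hmapC (mA (A := A)) (f ≫ f')) :=
    fun f f' h h' => by
      have := h'.comp h
      convert this using 1
      funext x
      exact (hmapC_comp mA f f' x).symm
  obtain ⟨a, ha⟩ := hω.toEnd_bijective.2 (φ ≫ ψ)
  obtain ⟨b, hb⟩ := hω'.toEnd_bijective.2 (ψ ≫ φ)
  have h1 := hcomp φ ψ hφ hψ
  have h2 := hcomp ψ φ hψ hφ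
  rw [← show a • 𝟙 ω = φ ≫ ψ from ha] at h1
  rw [← show b • 𝟙 ω' = ψ ≫ φ from hb] at h2
  obtain ⟨ua, hua⟩ := isUnit_of_bijective_hmapC (model hω) hω hn a h1
  obtain ⟨ub, hub⟩ := isUnit_of_bijective_hmapC (model hω') hω' hn' b h2
  haveI : IsSplitMono φ := IsSplitMono.mk' ⟨(↑ua⁻¹ : A) • ψ, by
    rw [Linear.comp_smul, ← show a • 𝟙 ω = φ ≫ ψ from ha, smul_smul, ← hua, Units.inv_mul, one_smul]⟩
  haveI : Epi φ := by
    haveI : IsSplitEpi φ := IsSplitEpi.mk' ⟨(↑ub⁻¹ : A) • ψ, by
      rw [Linear.smul_comp, ← show b • 𝟙 ω' = ψ ≫ φ from hb, smul_smul, ← hub, Units.inv_mul, one_smul]⟩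
    infer_instance
  haveI := isIso_of_epi_of_isSplitMono φ
  exact ⟨asIso φ⟩

/-- Dualizing complexes over a local ring are unique up to shift. -/
theorem exists_shift_iso (hω : Dual.IsDualizing A ω) (hω' : Dual.IsDualizing A ω') :
    ∃ n : ℤ, Nonempty (ω' ≅ ω⟦n⟧) := by
  obtain ⟨n, hn⟩ := exists_normalized hω
  obtain ⟨n', hn'⟩ := exists_normalized hω'
  obtain ⟨e⟩ := nonempty_iso_normalized (isDualizing_shift hω n) hn (isDualizing_shift hω' n') hn'
  exact ⟨n + -n', ⟨((shiftFunctorCompIsoId (Dual.D A) n' (-n') (add_neg_cancel n')).app ω').symm ≪≫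
    (shiftFunctor (Dual.D A) (-n')).mapIso e.symm ≪≫ ((shiftFunctorAdd' (Dual.D A) n (-n') (n + -n') rfl).app ω).symm⟩⟩

end Groth.Agent.Dlz27
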